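import Cfsg.Agent.Symplectic.HermSubPar

/-!
Rational points of a subfield structure from dimension six.
-/

set_option autoImplicit false

namespace Cfsg.Agent.Symplectic

open scoped MatrixGroups Matrix
open Matrix Cfsg.Agent.H95

variable {ι : Type} [Fintype ι] [DecidableEq ι] {F : Type*} [Field F]
  {σ : F ≃+* F} {f : (ι → F) → (ι → F) → F} {F₀ : Subfield F} {V : AddSubgroup (ι → F)}
  {M : Subgroup (GL ι F)}

namespace HSub

variable (H : HSub σ f F₀ V) (hO : H.Over M) (hA : ∀ a, H.Par M a → a ∈ F₀)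
include H hO hA

/-- If no new parameters occur, then moved points orthogonal to rational ones are rational. -/
theorem orth_rational_six (hn : 6 ≤ Fintype.card ι) {h : GL ι F} (hh : h ∈ M) {v u : ι → F}
    (hv : H.Iso0 v) (hu : H.Iso0 u) (hwu : f ((h : Matrix ι ι F) *ᵥ v) u = 0) :
    H.RatPt ((h : Matrix ι ι F) *ᵥ v) := by
  have hf := H.herm
  have hhi := H.iso_of_mem hO hh
  have ratio := fun {u e e₂ : ι → F} (hu : H.Iso0 u)
      (hwu : f ((h : Matrix ι ι F) *ᵥ v) u = 0) (he : e ∈ V) (hee : f e e = 0) (heu : f e u = 0)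
      (he₂ : e₂ ∈ V) (hee₂ : f e₂ e₂ = 0) (heu₂ : f e₂ u = 0) =>
    H.ratio_rat hO hA (by omega) hh hv hu hwu he hee heu he₂ hee₂ heu₂
  set w := (h : Matrix ι ι F) *ᵥ v with hw
  have hww : f w w = 0 := by rw [hw, mem_isoGrp.1 hhi, hv.2.2]
  obtain ⟨c, hc, hcv⟩ : ∃ c : F, c ≠ 0 ∧
      ∀ y ∈ V, f y u = 0 → f (c • w) y ∈ F₀ := by
    obtain ⟨c, hc, hcs⟩ : ∃ c : F, c ≠ 0 ∧
        ∀ y, H.Iso0 y → f y u = 0 → c * f w y ∈ F₀ := by
      by_cases h0 : ∃ e, H.Iso0 e ∧ f e u = 0 ∧ f w e ≠ 0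
      · obtain ⟨e, he, heu, hne⟩ := h0
        refine ⟨(f w e)⁻¹, inv_ne_zero hne, fun y hy hyu => ?_⟩
        rw [← div_eq_inv_mul]
        exact ratio hu hwu he.1 he.2.2 heu hy.1 hy.2.2 hyu hne
      · push Not at h0
        exact ⟨1, one_ne_zero, fun y hy hyu => by
          rw [h0 y hy hyu, mul_zero]; exact F₀.zero_mem⟩
    refine ⟨c, hc, fun y hy hyu => ?_⟩
    let D : AddSubgroup (ι → F) :=
      { carrier := {y | c * f w y ∈ F₀}
        add_mem' := fun {p q} hp hq => by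
          show c * f w (p + q) ∈ F₀
          rw [u_add_right hf, mul_add]; exact F₀.add_mem hp hq
        zero_mem' := by
          show c * f w 0 ∈ F₀
          rw [u_zero_right hf, mul_zero]; exact F₀.zero_mem
        neg_mem' := fun {p} hp => by
          show c * f w (-p) ∈ F₀
          rw [u_neg_right hf, mul_neg]; exact F₀.neg_mem hp }
    rw [u_smul_left hf]
    exact H.gen_perp (by omega) hu D hcs hy hyu
  set w' := c • w with hw'
  have w'w' : f w' w' = 0 := by rw [hw', u_smul_left hf, u_smul_right hf, hww]; ring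
  have w'u : f w' u = 0 := by rw [hw', u_smul_left hf, hwu, mul_zero]
  obtain ⟨a, ha, haa, hau, hua⟩ := H.partner hu.1 hu.2.1 hu.2.2
  have hP := H.isProj_pair hu.1 ha hu.2.2 haa hau
  set P := H.projPair LinearMap.id u a with hPdef
  have Pu : ∀ x, f (P x) u = 0 := fun x => (H.projPair_perp _ hu.2.2 haa hau x).1
  have Pa : ∀ x, f (P x) a = 0 := fun x => (H.projPair_perp _ hu.2.2 haa hau x).2
  set α := f w' a with hα
  set y := P w' with hy
  have yV : y ∈ V := H.mem_of_dual fun z hz => by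
    rw [hy, hP.2.1, ← hP.left H]; exact hcv _ (hP.1 z hz) (Pu z)
  have hsplit : w' = y + α • u := by
    rw [hy, hPdef, projPair_apply, LinearMap.id_apply, w'u, hα, zero_smul, sub_zero,
      sub_add_cancel]
  have yu : f y u = 0 := Pu w'
  have ya : f y a = 0 := Pa w'
  have fin : α ∈ F₀ → H.RatPt w := fun hαF => ⟨c, hc, by
    rw [← hw', hsplit]; exact V.add_mem yV (H.smul α hαF u hu.1)⟩
  rcases eq_or_ne y 0 with hy0 | hy0
  · rw [hy0, zero_add] at hsplit
    have hα0 : α ≠ 0 := by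
      intro h0
      rw [h0, zero_smul, hw', smul_eq_zero] at hsplit
      have := hsplit.resolve_left hc
      exact hv.2.1 (by rw [← inv_mulVec_mulVec h v, ← hw, this, mulVec_zero])
    exact ⟨α⁻¹ * c, mul_ne_zero (inv_ne_zero hα0) hc,
      by rw [mul_smul, ← hw', hsplit, inv_smul_smul₀ hα0]; exact hu.1⟩
  have yy : f y y = 0 := by
    rw [hsplit] at w'w'
    simp only [u_add_left hf, u_add_right hf, u_smul_left hf, u_smul_right hf, yu,
      u_symm_zero hf yu, hu.2.2, mul_zero, add_zero] at w'w'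
    exact w'w'
  have Py : P y = y := hP.2.2.1 w'
  obtain ⟨d, hd, -, dy, -⟩ := H.partner yV hy0 yy
  obtain ⟨e, he, hee, hey, Pe⟩ : ∃ e ∈ V, f e e = 0 ∧ f e y = 1 ∧ P e = e := by
    have d1 : f (P d) y = 1 := by
      have := hP.left H d y
      rw [Py] at this
      rw [← this, dy]
    have d2 : f y (P d) = 1 := by rw [← u_conj hf, d1, map_one]
    obtain ⟨t, ht, ht1⟩ := H.trace_rat
      (F₀.neg_mem (H.rat _ (hP.1 d hd) _ (hP.1 d hd))) (H.neg_self_fix (P d))
    refine ⟨P d + t • y, V.add_mem (hP.1 d hd) (H.smul t ht y yV), ?_, ?_, ?_⟩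
    · simp only [u_add_left hf, u_add_right hf, u_smul_left hf, u_smul_right hf, d1, d2, yy]
      linear_combination ht1
    · rw [u_add_left hf, u_smul_left hf, d1, yy]; ring
    · rw [map_add, map_smul, hP.2.2.1, Py]
  have hP₂ := hP.pair H yV he Py Pe yy hee hey
  obtain ⟨u₂, hu₂, Pu₂⟩ := hP₂.exists_iso H (by omega)
  have u₂y : f u₂ y = 0 := by rw [← Pu₂]; exact (H.projPair_perp P yy hee hey u₂).1
  have u₂e : f u₂ e = 0 := by rw [← Pu₂]; exact (H.projPair_perp P yy hee hey u₂).2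
  have Pu₂' := H.pair_fix hP Py Pe Pu₂
  have u₂u : f u₂ u = 0 := by rw [← Pu₂']; exact Pu u₂
  have u₂a : f u₂ a = 0 := by rw [← Pu₂']; exact Pa u₂
  have w'u₂ : f w' u₂ = 0 := by
    rw [hsplit, u_add_left hf, u_smul_left hf, u_symm_zero hf u₂y, u_symm_zero hf u₂u]; ring
  have wu₂ : f w u₂ = 0 := by
    rw [hw', u_smul_left hf, mul_eq_zero] at w'u₂; exact w'u₂.resolve_left hc
  have eu : f e u = 0 := by rw [← Pe]; exact Pu e
  have w'e : f w' e = 1 := by
    rw [hsplit, u_add_left hf, u_smul_left hf, u_symm_zero hf eu, ← u_conj hf e y, hey, map_one]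
    ring
  have we : f w e ≠ 0 := fun h0 => by
    rw [hw', u_smul_left hf, h0, mul_zero] at w'e; exact zero_ne_one w'e
  have := ratio hu₂ wu₂ he hee (u_symm_zero hf u₂e) ha haa (u_symm_zero hf u₂a) we
  apply fin
  rw [← mul_div_mul_left _ _ hc, ← u_smul_left hf, ← u_smul_left hf, ← hw', w'e, div_one] at this
  exact this

theorem rational_all_six (hn : 6 ≤ Fintype.card ι) {h : GL ι F} (hh : h ∈ M) {v v' : ι → F}
    (hv : H.Iso0 v) (hv' : H.Iso0 v') (hr : H.RatPt ((h : Matrix ι ι F) *ᵥ v)) :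
    H.RatPt ((h : Matrix ι ι F) *ᵥ v') := by
  have hf := H.herm
  have hhi := H.iso_of_mem hO hh
  have step : ∀ {a b : ι → F}, H.Iso0 a → H.Iso0 b → f b a = 0 →
      H.RatPt ((h : Matrix ι ι F) *ᵥ a) → H.RatPt ((h : Matrix ι ι F) *ᵥ b) := by
    intro a b ha hb hba ⟨c, hc, hca⟩
    refine H.orth_rational_six hO hA hn hh hb (u := c • ((h : Matrix ι ι F) *ᵥ a))
      ⟨hca, smul_ne_zero hc fun h0 => ha.2.1 ?_, ?_⟩ ?_
    · rw [← inv_mulVec_mulVec h a, h0, mulVec_zero]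
    · rw [u_smul_left hf, u_smul_right hf, mem_isoGrp.1 hhi, ha.2.2]; ring
    · rw [u_smul_right hf, mem_isoGrp.1 hhi, hba, mul_zero]
  by_cases h0 : f v' v = 0
  · exact step hv hv' h0 hr
  set d := (f v' v)⁻¹ • v' with hd
  have dd : f d d = 0 := by rw [hd, u_smul_left hf, u_smul_right hf, hv'.2.2]; ring
  have dv' : f d v = 1 := by rw [hd, u_smul_left hf, inv_mul_cancel₀ h0]
  have hP := H.isProj_pair hv.1 (H.smul _ (F₀.inv_mem (H.rat v' hv'.1 v hv.1)) v' hv'.1) hv.2.2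
    dd dv'
  obtain ⟨u, hu, Pu⟩ := hP.exists_iso H (by omega)
  obtain ⟨uv, ud⟩ := H.projPair_perp LinearMap.id hv.2.2 dd dv' u
  rw [Pu] at uv ud
  have uv' : f v' u = 0 := by
    rw [hd, u_smul_right hf, mul_eq_zero] at ud
    exact u_symm_zero hf
      (ud.resolve_left fun h1 => inv_ne_zero h0 ((map_eq_zero_iff σ σ.injective).1 h1))
  exact step hu hv' uv' (step hv hu uv hr)

omit hA in
/-- An element moving all rational points to rational points stabilises `V` up to a scalar. -/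
theorem exists_scalar_six (hn : 6 ≤ Fintype.card ι) {g : GL ι F} (hg : g ∈ M)
    (hr : ∀ v, H.Iso0 v → H.RatPt ((g : Matrix ι ι F) *ᵥ v)) :
    ∃ c : F, c ≠ 0 ∧ ∀ v ∈ V, c • ((g : Matrix ι ι F) *ᵥ v) ∈ V := by
  have hf := H.herm
  have hgi := H.iso_of_mem hO hg
  obtain ⟨v₀, hv₀, -⟩ := H.isProj_id.exists_iso H (by omega)
  obtain ⟨c₀, hc₀, hc₀v⟩ := hr v₀ hv₀
  refine ⟨c₀, hc₀, fun y hy => ?_⟩
  let D : AddSubgroup (ι → F) :=
    { carrier := {y | c₀ • ((g : Matrix ι ι F) *ᵥ y) ∈ V}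
      add_mem' := fun {p q} hp hq => by
        show _ • (_ *ᵥ (p + q)) ∈ V
        rw [mulVec_add, smul_add]; exact V.add_mem hp hq
      zero_mem' := by
        show _ • (_ *ᵥ (0 : ι → F)) ∈ V
        rw [mulVec_zero, smul_zero]; exact V.zero_mem
      neg_mem' := fun {p} hp => by
        show _ • (_ *ᵥ (-p)) ∈ V
        rw [mulVec_neg, smul_neg]; exact V.neg_mem hp }
  refine H.gen_near hv₀ D (fun c hc => ?_) (fun v hv hne => ?_) hy
  · show _ • (_ *ᵥ (c • v₀)) ∈ V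
    rw [mulVec_smul, smul_comm]
    exact H.smul c hc _ hc₀v
  obtain ⟨c, hc, hcv⟩ := hr v hv
  have hne' : f v₀ v ≠ 0 := fun h => hne (u_symm_zero hf h)
  obtain ⟨s, hs, hs0, hss⟩ := H.skew
  set t := σ (s / f v₀ v) with ht
  have htF : t ∈ F₀ := H.stable _ (F₀.div_mem hs (H.rat v₀ hv₀.1 v hv.1))
  have ht0 : t ≠ 0 := fun h => div_ne_zero hs0 hne' ((map_eq_zero_iff σ σ.injective).1 h)
  have hts : σ t * f v₀ v = s := by rw [ht, u_inv hf, div_mul_cancel₀ _ hne']
  set v₃ := v₀ + t • v with hv₃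
  have h3v : f v₃ v = f v₀ v := by rw [hv₃, u_add_left hf, u_smul_left hf, hv.2.2]; ring
  have hv₃i : H.Iso0 v₃ := by
    refine ⟨V.add_mem hv₀.1 (H.smul t htF v hv.1), fun h0 => hne' ?_, ?_⟩
    · rw [← h3v, h0, u_zero_left hf]
    · have h1 := congrArg σ hts
      rw [map_mul, u_inv hf, u_conj hf, hss] at h1
      simp only [hv₃, u_add_left hf, u_add_right hf, u_smul_left hf, u_smul_right hf, hv.2.2,
        hv₀.2.2]
      linear_combination hts + h1
  obtain ⟨c₃, hc₃, hc₃v⟩ := hr v₃ hv₃i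
  have r1 := F₀.div_mem (H.rat _ hc₃v _ hcv) (H.rat _ hc₀v _ hcv)
  have r2 := F₀.div_mem (F₀.div_mem (H.rat _ hc₃v _ hc₀v) (H.rat _ hcv _ hc₀v)) htF
  simp only [u_smul_left hf, u_smul_right hf, mem_isoGrp.1 hgi] at r1 r2
  simp only [hv₃, u_add_left hf, u_smul_left hf, hv.2.2, hv₀.2.2, mul_zero, add_zero,
    zero_add] at r1 r2
  have hσc : σ c ≠ 0 := fun h => hc ((map_eq_zero_iff σ σ.injective).1 h)
  have hσc₀ : σ c₀ ≠ 0 := fun h => hc₀ ((map_eq_zero_iff σ σ.injective).1 h)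
  have hv0' : f v v₀ ≠ 0 := hne
  have key : c₀ / c ∈ F₀ := by
    have := F₀.div_mem r2 r1
    convert this using 1
    field_simp
  have := H.smul _ key _ hcv
  rwa [smul_smul, div_mul_cancel₀ _ hc] at this

end HSub

end Cfsg.Agent.Symplectic
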