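import Cfsg.Agent.Symplectic.HermSubBlock
import Cfsg.Agent.H58.SUSmall.SubfieldPar

/-!
A new parameter for subfield structures in dimension six.
-/

set_option autoImplicit false

namespace Cfsg.Agent.Symplectic

open scoped MatrixGroups Matrix
open Matrix Cfsg.Agent.H95

/-- Two involutions of a group modulo a central element are centralised by a third. -/
theorem exists_invol_commute_mod {G : Type*} [Group G] [Finite G] {e t t' : G}
    (he : e * e = 1) (hc : ∀ g : G, g * e = e * g) (ht : t * t = 1)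
    (ht' : t' * t' = 1 ∨ t' * t' = e) (hne : ∀ g : G, g * t * g⁻¹ ≠ t' ∧ g * t * g⁻¹ ≠ t' * e) :
    ∃ z : G, z ≠ 1 ∧ z ≠ e ∧ (z * z = 1 ∨ z * z = e) ∧ (z * t = t * z ∨ z * t = t * z * e) ∧
      (z * t' = t' * z ∨ z * t' = t' * z * e) := by
  haveI : (Subgroup.zpowers e).Normal := ⟨fun x hx g => by
    obtain ⟨k, rfl⟩ := Subgroup.mem_zpowers_iff.1 hx
    rw [((show Commute g e from hc g).zpow_right k).eq, mul_inv_cancel_right]
    exact Subgroup.zpow_mem_zpowers e k⟩
  have hmem : ∀ x, x ∈ Subgroup.zpowers e → x = 1 ∨ x = e := by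
    intro x hx
    obtain ⟨k, rfl⟩ := Subgroup.mem_zpowers_iff.1 hx
    rcases Int.even_or_odd k with ⟨j, rfl⟩ | ⟨j, rfl⟩
    · left; rw [← two_mul, _root_.zpow_mul, zpow_two, he, _root_.one_zpow]
    · right; rw [_root_.zpow_add, _root_.zpow_mul, zpow_two, he, _root_.one_zpow, one_mul, zpow_one]
  set q := QuotientGroup.mk' (Subgroup.zpowers e)
  have hq : ∀ a b : G, q a = q b → b = a ∨ b = a * e := fun a b h => by
    have h' := hmem _ ((QuotientGroup.eq (s := Subgroup.zpowers e)).1 h)
    rcases h' with h' | h'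
    · left; rw [← mul_inv_cancel_left a b, h', mul_one]
    · right; rw [← mul_inv_cancel_left a b, h']
  have he1 : q e = 1 := (QuotientGroup.eq_one_iff e).2 (Subgroup.mem_zpowers e)
  obtain ⟨zb, hz, hz1, hzt, hzt', -⟩ := exists_invol_commute (t := q t) (t' := q t')
    (by rw [← map_mul, ht, map_one])
    (by rcases ht' with h | h <;> rw [← map_mul, h] <;> simp [he1]) fun gb hgb => by
      obtain ⟨g, rfl⟩ := QuotientGroup.mk'_surjective _ gb
      rw [← map_inv, ← map_mul, ← map_mul] at hgb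
      rcases hq _ _ hgb.symm with h | h
      exacts [(hne g).1 h, (hne g).2 h]
  obtain ⟨z, rfl⟩ := QuotientGroup.mk'_surjective _ zb
  refine ⟨z, fun h => hz1 (by rw [h, map_one]), fun h => hz1 (by rw [h]; exact he1), ?_, ?_, ?_⟩
  · rcases hq 1 (z * z) (by rw [map_one]; exact (map_mul q z z).symm ▸ hz.symm) with h | h
    · exact Or.inl h
    · exact Or.inr (by rw [h, one_mul])
  · exact hq _ _ (by rw [map_mul, map_mul]; exact hzt.eq.symm)
  · exact hq _ _ (by rw [map_mul, map_mul]; exact hzt'.eq.symm)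

variable {ι : Type} [Fintype ι] [DecidableEq ι] {F : Type*} [Field F]
  {σ : F ≃+* F} {f : (ι → F) → (ι → F) → F} {F₀ : Subfield F} {V : AddSubgroup (ι → F)}
  {M : Subgroup (GL ι F)}

theorem neg_mulVec' (z : GL ι F) (x : ι → F) :
    ((-z : GL ι F) : Matrix ι ι F) *ᵥ x = -((z : Matrix ι ι F) *ᵥ x) := by
  rw [Units.val_neg, Matrix.neg_mulVec]

/-- The residual dimensions of an involution and its negative are complementary. -/
theorem resDim_neg (h2 : (2 : F) ≠ 0) {z : GL ι F} (hz : z * z = 1) :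
    resDim z + resDim (-z) = Fintype.card ι := by
  have hzz : ∀ x, (z : Matrix ι ι F) *ᵥ ((z : Matrix ι ι F) *ᵥ x) = x := fun x => by
    rw [← mul_mulVec, hz, Units.val_one, one_mulVec]
  have e1 : ∀ y ∈ resSp z, (z : Matrix ι ι F) *ᵥ y = -y := by
    rintro _ ⟨x, rfl⟩
    simp only [LinearMap.sub_apply, mulVecLin_apply, LinearMap.id_apply, mulVec_sub, hzz]
    abel
  have e2 : ∀ y ∈ resSp (-z), (z : Matrix ι ι F) *ᵥ y = y := by
    rintro _ ⟨x, rfl⟩
    simp only [LinearMap.sub_apply, mulVecLin_apply, LinearMap.id_apply, mulVec_sub, neg_mulVec',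
      mulVec_neg, hzz]
    abel
  have hinf : resSp z ⊓ resSp (-z) = ⊥ := eq_bot_iff.2 fun y hy => by
    have h := (e1 y hy.1).symm.trans (e2 y hy.2)
    have : (2 : F) • y = 0 := by rw [two_smul]; nth_rewrite 1 [← h]; exact neg_add_cancel y
    exact (Submodule.mem_bot F).2 ((smul_eq_zero.1 this).resolve_left h2)
  have hsup : resSp z ⊔ resSp (-z) = ⊤ := eq_top_iff.2 fun x _ => by
    have h1 := mem_resSp z x
    have h3 := mem_resSp (-z) x
    rw [neg_mulVec'] at h3
    have e : x = (-(2 : F)⁻¹) • ((z : Matrix ι ι F) *ᵥ x - x) +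
        (-(2 : F)⁻¹) • (-((z : Matrix ι ι F) *ᵥ x) - x) := by
      match_scalars <;> field_simp <;> ring
    rw [e]
    exact Submodule.add_mem_sup (Submodule.smul_mem _ _ h1) (Submodule.smul_mem _ _ h3)
  have := Submodule.finrank_sup_add_finrank_inf_eq (resSp z) (resSp (-z))
  rw [hsup, hinf, finrank_bot, finrank_top, Module.finrank_fintype_fun_eq_card] at this
  exact this.symm

/-- The linear functional `f · a`. -/
noncomputable def formFun (hf : Geo.IsUnitaryForm σ f) (a : ι → F) : (ι → F) →ₗ[F] F where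
  toFun y := f y a
  map_add' y z := u_add_left hf y z _
  map_smul' c y := u_smul_left hf c y _

theorem formFun_apply (hf : Geo.IsUnitaryForm σ f) (a y : ι → F) : formFun hf a y = f y a := rfl

namespace HSub

variable (H : HSub σ f F₀ V)
include H

/-- The fixed element `-1` lies in every overgroup in even dimension. -/
theorem neg_one_mem (hO : H.Over M) (hn : Even (Fintype.card ι)) : (-1 : GL ι F) ∈ M := by
  refine hO.2 _ ⟨mem_isoGrp.2 fun u v => ?_, ?_⟩ fun v hv => ?_
  · simp only [neg_mulVec', Units.val_one, one_mulVec, u_neg_left H.herm, u_neg_right H.herm, neg_neg]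
  · show Matrix.GeneralLinearGroup.det (-1 : GL ι F) = 1
    refine Units.ext ?_
    rw [Matrix.GeneralLinearGroup.val_det_apply, Units.val_neg, Units.val_one, det_neg,
      hn.neg_one_pow, det_one, one_mul, Units.val_one]
  · rw [neg_mulVec', Units.val_one, one_mulVec]; exact V.neg_mem hv

theorem stab_of_scalar' (hn : 4 ≤ Fintype.card ι) {z : GL ι F} {δ : F} (hδ0 : δ ≠ 0) (hδ : δ ∈ F₀)
    (hz : ∀ x, (z : Matrix ι ι F) *ᵥ ((z : Matrix ι ι F) *ᵥ x) = δ • x) {c : F} (hc : c ≠ 0)
    (hcV : ∀ v ∈ V, c • ((z : Matrix ι ι F) *ᵥ v) ∈ V) : H.Stab z := by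
  obtain ⟨v, hv, -⟩ := H.isProj_id.exists_iso H (by omega)
  obtain ⟨d, hd, -, -, hvd⟩ := H.partner hv.1 hv.2.1 hv.2.2
  have h1 := H.rat _ (hcV _ (hcV v hv.1)) d hd
  rw [mulVec_smul, hz, u_smul_left H.herm, u_smul_left H.herm, u_smul_left H.herm, hvd, mul_one,
    ← mul_assoc] at h1
  have h2 : c ^ 2 ∈ F₀ := by
    have := F₀.div_mem h1 hδ
    rwa [mul_div_cancel_right₀ _ hδ0, ← _root_.sq] at this
  intro x hx
  have := H.smul _ (F₀.inv_mem (H.sq c h2)) _ (hcV x hx)
  rwa [inv_smul_smul₀ hc] at this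

/-- A root of `-1` lies in the subfield. -/
theorem exists_sqrt_neg_one [Finite F] : ∃ i ∈ F₀, i * i = -1 := by
  classical
  obtain ⟨s, hs, hs0, hss⟩ := H.skew
  obtain ⟨e, he, he1⟩ := H.tr
  let : Fintype F₀ := Fintype.ofFinite F₀
  let K := {x : F₀ // σ (x : F) = x}
  let Φ : K × K → F₀ := fun p => p.1.1 + p.2.1 * ⟨s, hs⟩
  have hΦ : ∀ p : K × K, σ (Φ p : F) = (p.1.1 : F) - (p.2.1 : F) * s := fun p => by
    simp only [Φ, Subfield.coe_add, Subfield.coe_mul, map_add, map_mul, p.1.2, p.2.2, hss]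
    ring
  have h2' : Odd (Fintype.card F₀) ∨ ringChar F₀ = 2 := by
    by_cases h : ringChar F₀ = 2
    · exact Or.inr h
    · exact Or.inl (Nat.odd_iff.2 (FiniteField.odd_card_of_char_ne_two h))
  rcases h2' with hodd | h2'
  swap
  · haveI := ringChar.of_eq h2'
    refine ⟨1, F₀.one_mem, ?_⟩
    have h := congrArg F₀.subtype (CharTwo.two_eq_zero : (2 : F₀) = 0)
    rw [map_ofNat, map_zero] at h
    linear_combination h
  have h2 : (2 : F) ≠ 0 := fun h => by
    have h' : (2 : F₀) = 0 := Subtype.ext h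
    have hc : ringChar F₀ = 2 := by
      haveI := CharTwo.of_one_ne_zero_of_two_eq_zero (one_ne_zero (α := F₀)) h'
      exact ringChar.eq F₀ 2
    have := FiniteField.even_card_iff_char_two.1 hc
    rw [Nat.odd_iff] at hodd
    omega
  have hb : Function.Bijective Φ := by
    constructor
    · intro p r hpr
      have e1 : ((p.1.1 : F) + p.2.1 * s) = r.1.1 + r.2.1 * s := congrArg Subtype.val hpr
      have e2 := congrArg (fun x : F₀ => σ (x : F)) hpr
      simp only [hΦ] at e2
      have a : (2 : F) * ((p.1.1 : F) - r.1.1) = 0 := by linear_combination e1 + e2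
      have b : (2 : F) * s * ((p.2.1 : F) - r.2.1) = 0 := by linear_combination e1 - e2
      exact Prod.ext (Subtype.ext (Subtype.ext (sub_eq_zero.1 ((mul_eq_zero.1 a).resolve_left h2))))
        (Subtype.ext (Subtype.ext (sub_eq_zero.1 ((mul_eq_zero.1 b).resolve_left (mul_ne_zero h2 hs0)))))
    · intro x
      have hT : (2 : F) ∈ F₀ := by rw [← one_add_one_eq_two]; exact F₀.add_mem F₀.one_mem F₀.one_mem
      refine ⟨(⟨⟨((x : F) + σ x) / 2, F₀.div_mem (F₀.add_mem x.2 (H.stable _ x.2)) hT⟩, ?_⟩,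
        ⟨⟨((x : F) - σ x) / (2 * s), F₀.div_mem (F₀.sub_mem x.2 (H.stable _ x.2)) (F₀.mul_mem hT hs)⟩, ?_⟩), ?_⟩
      · show σ (((x : F) + σ x) / 2) = ((x : F) + σ x) / 2
        rw [map_div₀, map_add, u_inv H.herm, map_ofNat]; ring
      · show σ (((x : F) - σ x) / (2 * s)) = ((x : F) - σ x) / (2 * s)
        rw [map_div₀, map_sub, u_inv H.herm, map_mul, map_ofNat, hss]
        field_simp
        ring
      · refine Subtype.ext ?_
        show ((x : F) + σ x) / 2 + ((x : F) - σ x) / (2 * s) * s = x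
        field_simp
        ring
  have hsq : IsSquare (-1 : F₀) := by
    rw [FiniteField.isSquare_neg_one_iff, ← Fintype.card_of_bijective hb, Fintype.card_prod]
    intro h
    have := Nat.mul_mod (Fintype.card K) (Fintype.card K) 4
    have : Fintype.card K % 4 < 4 := Nat.mod_lt _ (by norm_num)
    interval_cases hk : Fintype.card K % 4 <;> omega
  obtain ⟨i, hi⟩ := hsq
  exact ⟨i, i.2, by rw [← Subfield.coe_mul, ← hi]; rfl⟩

/-- Eigenvectors of an element and of a conjugate are not orthogonal unless the values pair. -/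
theorem no_eig {h u : GL ι F} (hu : u ∈ isoGrp f)
    (hno : ∀ u v, H.Iso0 u → H.Iso0 v → f ((h : Matrix ι ι F) *ᵥ v) u ≠ 0) {α β : F}
    {v w : ι → F} (hv : H.Iso0 v) (hw : H.Iso0 w)
    (hva : ((h⁻¹ * u * h : GL ι F) : Matrix ι ι F) *ᵥ v = α • v)
    (hwb : (u : Matrix ι ι F) *ᵥ w = β • w) (hab : α * σ β ≠ 1) : False := by
  refine hno w v hw hv ?_
  have e : (u : Matrix ι ι F) *ᵥ ((h : Matrix ι ι F) *ᵥ v) = α • ((h : Matrix ι ι F) *ᵥ v) := by
    rw [← mulVec_smul, ← hva, ← mul_mulVec, ← mul_mulVec]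
    congr 2
    group
  have h1 := mem_isoGrp.1 hu ((h : Matrix ι ι F) *ᵥ v) w
  rw [e, hwb, u_smul_left H.herm, u_smul_right H.herm] at h1
  by_contra h0
  exact hab (mul_right_cancel₀ h0 (by linear_combination h1))

/-- Products of orthogonal reflections in a frame. -/
theorem exists_refl_pair (hO : H.Over M) (h2 : (2 : F) ≠ 0) {x : Fin 4 → ι → F}
    (hx : ∀ i, x i ∈ V ∧ f (x i) (x i) ≠ 0) (hxo : Pairwise fun i j => f (x i) (x j) = 0) :
    ∃ t t4 : GL ι F, t ∈ M ∧ t4 ∈ M ∧ H.Stab t ∧ H.Stab t4 ∧ t * t = 1 ∧ t4 * t4 = 1 ∧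
      resDim t = 2 ∧ resDim t4 = 4 ∧
      ∀ y, (∀ i, f y (x i) = 0) → (t : Matrix ι ι F) *ᵥ y = y ∧ (t4 : Matrix ι ι F) *ᵥ y = y := by
  have hf := H.herm
  have fact := fun i => H.refl_facts (hx i).1 (hx i).2
  set r := fun i => H.refl (x i) (hx i).2 with hr
  have cm : ∀ {i j : Fin 4}, i ≠ j → Commute (r i) (r j) := fun hij =>
    H.refl_comm (hx _).2 (hx _).2 (hxo hij)
  set t := r 0 * r 1 with ht
  set t4 := r 0 * r 1 * (r 2 * r 3) with ht4
  have sq2 : ∀ {i j : Fin 4}, i ≠ j → r i * r j * (r i * r j) = 1 := fun hij => by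
    rw [(cm hij).symm.mul_mul_mul_comm, (fact _).1, (fact _).1, one_mul]
  have tsq : t * t = 1 := sq2 (by decide)
  have t4sq : t4 * t4 = 1 := by
    have : Commute (r 0 * r 1) (r 2 * r 3) :=
      Commute.mul_left ((cm (by decide)).mul_right (cm (by decide)))
        ((cm (by decide)).mul_right (cm (by decide)))
    rw [ht4, this.symm.mul_mul_mul_comm, sq2 (by decide), sq2 (by decide), one_mul]
  have sl2 : ∀ i j : Fin 4, r i * r j ∈ isoGrp f ⊓ Geo.specialLinear ι F := fun i j =>
    ⟨Subgroup.mul_mem _ (fact i).2.1 (fact j).2.1, by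
      show Matrix.GeneralLinearGroup.det (r i * r j) = 1
      refine Units.ext ?_
      rw [Matrix.GeneralLinearGroup.val_det_apply, Units.val_mul, det_mul, (fact i).2.2.2.1,
        (fact j).2.2.2.1, Units.val_one]
      norm_num⟩
  have st2 : ∀ i j : Fin 4, H.Stab (r i * r j) := fun i j v hv => by
    rw [mul_mulVec]; exact (fact i).2.2.1 _ ((fact j).2.2.1 v hv)
  have t4V : H.Stab t4 := fun v hv => by
    rw [ht4, mul_mulVec]; exact st2 0 1 _ (st2 2 3 v hv)
  have tV : H.Stab t := st2 0 1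
  have tM : t ∈ M := hO.2 _ (sl2 0 1) tV
  have t4M : t4 ∈ M := hO.2 _ (Subgroup.mul_mem _ (sl2 0 1) (sl2 2 3)) t4V
  have hli : LinearIndependent F x := by
    rw [Fintype.linearIndependent_iff]
    intro c hc i
    let L : (ι → F) →ₗ[F] F :=
      { toFun := fun y => f y (x i)
        map_add' := fun y z => u_add_left hf y z _
        map_smul' := fun c y => u_smul_left hf c y _ }
    have h1 := congrArg L hc
    rw [map_sum, map_zero, Finset.sum_eq_single i] at h1
    · rw [map_smul, smul_eq_mul] at h1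
      exact (mul_eq_zero.1 h1).resolve_right (hx i).2
    · intro j _ hji
      rw [map_smul, show L (x j) = 0 from hxo hji, smul_zero]
    · simp
  have rneg : ∀ i, (r i : Matrix ι ι F) *ᵥ x i = -x i := fun i => by
    simp only [hr]
    rw [H.refl_mulVec, mul_div_assoc, div_self (hx i).2, mul_one, two_smul]; abel
  have rfix : ∀ {i j}, i ≠ j → (r i : Matrix ι ι F) *ᵥ x j = x j := fun hij => by
    simp only [hr]
    rw [H.refl_mulVec, hxo (Ne.symm hij), mul_zero, zero_div, zero_smul, sub_zero]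
  have rd : ∀ i, resDim (r i) ≤ 1 := fun i =>
    (Submodule.finrank_mono (fact i).2.2.2.2).trans
      ((finrank_span_le_card ({x i} : Set (ι → F))).trans (by simp))
  have d2 : resDim t = 2 := by
    refine le_antisymm ((resDim_mul _ _).trans (Nat.add_le_add (rd 0) (rd 1))) ?_
    have hle : Submodule.span F (Set.range (x ∘ ![0, 1])) ≤ resSp t := by
      rw [Submodule.span_le]
      rintro _ ⟨i, rfl⟩
      have key : (t : Matrix ι ι F) *ᵥ x (![0, 1] i) = -x (![0, 1] i) := by
        rw [ht, mul_mulVec]; fin_cases i <;> simp [mulVec_neg, rneg, rfix]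
      have := mem_resSp t (x (![0, 1] i))
      rw [key] at this
      have := (resSp t).smul_mem (-(2 : F)⁻¹) this
      rw [SetLike.mem_coe, Function.comp_apply]
      rwa [show (-(2 : F)⁻¹) • (-x (![0, 1] i) - x (![0, 1] i)) = x (![0, 1] i) by
        match_scalars; field_simp; ring] at this
    have := Submodule.finrank_mono hle
    rwa [finrank_span_eq_card (hli.comp _ (by decide)), Fintype.card_fin] at this
  have d4 : resDim t4 = 4 := by
    refine le_antisymm ((resDim_mul _ _).trans (Nat.add_le_add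
      ((resDim_mul _ _).trans (Nat.add_le_add (rd 0) (rd 1)))
      ((resDim_mul _ _).trans (Nat.add_le_add (rd 2) (rd 3))))) ?_
    have hle : Submodule.span F (Set.range x) ≤ resSp t4 := by
      rw [Submodule.span_le]
      rintro _ ⟨i, rfl⟩
      have key : (t4 : Matrix ι ι F) *ᵥ x i = -x i := by
        rw [ht4, mul_mulVec, mul_mulVec, mul_mulVec]; fin_cases i <;> simp [mulVec_neg, rneg, rfix]
      have := mem_resSp t4 (x i)
      rw [key] at this
      have := (resSp t4).smul_mem (-(2 : F)⁻¹) this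
      rw [SetLike.mem_coe]
      rwa [show (-(2 : F)⁻¹) • (-x i - x i) = x i by match_scalars; field_simp; ring] at this
    have := Submodule.finrank_mono hle
    rwa [finrank_span_eq_card hli, Fintype.card_fin] at this
  refine ⟨t, t4, tM, t4M, tV, t4V, tsq, t4sq, d2, d4, fun y hy => ?_⟩
  have hfix : ∀ i, (r i : Matrix ι ι F) *ᵥ y = y := fun i => by
    simp only [hr]
    rw [H.refl_mulVec, hy i, mul_zero, zero_div, zero_smul, sub_zero]
  refine ⟨?_, ?_⟩ <;> simp only [ht, ht4, mul_mulVec, hfix]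

/-- An element of order four on three rational planes. -/
theorem exists_quarter (hO : H.Over M) (h2 : (2 : F) ≠ 0) (hn : Fintype.card ι = 6) :
    ∃ u : GL ι F, u ∈ M ∧ H.Stab u ∧ u * u = -1 ∧
      ∀ ε ∈ F₀, ε * ε = -1 → ∃ w, H.Iso0 w ∧ (u : Matrix ι ι F) *ᵥ w = ε • w := by
  have hf := H.herm
  obtain ⟨x0, hx0, hxo0⟩ := H.exists_frame (m := 6) H.isProj_id (by omega)
  have hsc : ∀ i, ∃ c ∈ F₀, c * σ c = (f (x0 i) (x0 i))⁻¹ := fun i =>
    H.norm _ (F₀.inv_mem (H.rat _ (hx0 i).1 _ (hx0 i).1)) (by rw [map_inv₀, u_conj hf])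
  choose c hcF hc using hsc
  set x := fun i => c i • x0 i with hxdef
  have hxV : ∀ i, x i ∈ V := fun i => H.smul _ (hcF i) _ (hx0 i).1
  have h11 : ∀ i, f (x i) (x i) = 1 := fun i => by
    simp only [hxdef, u_smul_left hf, u_smul_right hf]
    rw [← mul_assoc, hc, inv_mul_cancel₀ (hx0 i).2.2]
  have hxo : ∀ i j, i ≠ j → f (x i) (x j) = 0 := fun i j hij => by
    simp only [hxdef, u_smul_left hf, u_smul_right hf, hxo0 hij, mul_zero]
  have hspan : Submodule.span F (Set.range x) = ⊤ := by
    refine LinearIndependent.span_eq_top_of_card_eq_finrank ?_ (by simp [hn])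
    rw [Fintype.linearIndependent_iff]
    intro a ha i
    have h1 := congrArg (formFun hf (x i)) ha
    rw [map_sum, map_zero, Finset.sum_eq_single i] at h1
    · rw [map_smul, smul_eq_mul] at h1
      exact (mul_eq_zero.1 h1).resolve_right (by rw [formFun_apply, h11]; exact one_ne_zero)
    · intro j _ hji
      rw [map_smul, formFun_apply, hxo j i hji, smul_zero]
    · simp
  have hp : ∀ a b, a ≠ b → f (x a + x b) (x a + x b) ≠ 0 := fun a b hab => by
    rw [u_add_left hf, u_add_right hf, u_add_right hf, h11, h11, hxo _ _ hab, hxo _ _ hab.symm]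
    rwa [add_zero, zero_add, one_add_one_eq_two]
  have hp1 : ∀ a, f (x a) (x a) ≠ 0 := fun a => by rw [h11]; exact one_ne_zero
  set rot := fun a b (hab : a ≠ b) => H.refl (x b) (hp1 b) * H.refl (x a + x b) (hp a b hab) with hrot
  have facts : ∀ a b hab, rot a b hab ∈ isoGrp f ⊓ Geo.specialLinear ι F ∧ H.Stab (rot a b hab) ∧
      (rot a b hab : Matrix ι ι F) *ᵥ x a = x b ∧ (rot a b hab : Matrix ι ι F) *ᵥ x b = -x a ∧
      ∀ i, i ≠ a → i ≠ b → (rot a b hab : Matrix ι ι F) *ᵥ x i = x i := by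
    intro a b hab
    have F1 := H.refl_facts (hxV b) (hp1 b)
    have F2 := H.refl_facts (V.add_mem (hxV a) (hxV b)) (hp a b hab)
    refine ⟨⟨Subgroup.mul_mem _ F1.2.1 F2.2.1, ?_⟩,
      fun v hv => by simp only [hrot, mul_mulVec]; exact F1.2.2.1 _ (F2.2.2.1 v hv), ?_, ?_, ?_⟩
    · show Matrix.GeneralLinearGroup.det (rot a b hab) = 1
      refine Units.ext ?_
      rw [Matrix.GeneralLinearGroup.val_det_apply, hrot, Units.val_mul, det_mul, F1.2.2.2.1,
        F2.2.2.2.1, Units.val_one]
      norm_num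
    all_goals
      intros
      simp only [hrot, mul_mulVec, H.refl_mulVec, u_sub_left hf, u_smul_left hf, u_add_left hf,
        u_add_right hf, h11, hxo _ _ hab, hxo _ _ hab.symm, add_zero, zero_add, one_add_one_eq_two,
        mul_one, mul_zero, sub_zero]
    · rw [div_self h2]; match_scalars <;> field_simp <;> ring
    · rw [div_self h2]; match_scalars <;> field_simp <;> ring
    · rw [hxo _ _ (by assumption), hxo _ _ (by assumption)]
      simp
  obtain ⟨i01, i23, i45⟩ : (0 : Fin 6) ≠ 1 ∧ (2 : Fin 6) ≠ 3 ∧ (4 : Fin 6) ≠ 5 := by decide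
  obtain ⟨g1, s1, a1, b1, o1⟩ := facts 0 1 i01
  obtain ⟨g2, s2, a2, b2, o2⟩ := facts 2 3 i23
  obtain ⟨g3, s3, a3, b3, o3⟩ := facts 4 5 i45
  set u := rot 0 1 i01 * (rot 2 3 i23 * rot 4 5 i45) with hu
  have hx01 : (u : Matrix ι ι F) *ᵥ x 0 = x 1 ∧ (u : Matrix ι ι F) *ᵥ x 1 = -x 0 ∧
      (u : Matrix ι ι F) *ᵥ x 2 = x 3 ∧ (u : Matrix ι ι F) *ᵥ x 3 = -x 2 ∧
      (u : Matrix ι ι F) *ᵥ x 4 = x 5 ∧ (u : Matrix ι ι F) *ᵥ x 5 = -x 4 := by
    simp only [hu, mul_mulVec, o3 0 (by decide) (by decide), o3 1 (by decide) (by decide),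
      o3 2 (by decide) (by decide), o3 3 (by decide) (by decide), a3, b3, mulVec_neg,
      o2 0 (by decide) (by decide), o2 1 (by decide) (by decide), o2 4 (by decide) (by decide),
      o2 5 (by decide) (by decide), a2, b2, o1 2 (by decide) (by decide),
      o1 3 (by decide) (by decide), o1 4 (by decide) (by decide), o1 5 (by decide) (by decide), a1, b1,
      and_self]
  obtain ⟨u0, u1, u2, u3, u4, u5⟩ := hx01
  have st : ∀ a b : GL ι F, H.Stab a → H.Stab b → H.Stab (a * b) := fun a b ha hb v hv => by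
    rw [mul_mulVec]; exact ha _ (hb v hv)
  have hus : H.Stab u := st _ _ s1 (st _ _ s2 s3)
  refine ⟨u, hO.2 _ (Subgroup.mul_mem _ g1 (Subgroup.mul_mem _ g2 g3)) hus, hus, ?_, ?_⟩
  · have e : ((u * u : GL ι F) : Matrix ι ι F).mulVecLin = ((-1 : GL ι F) : Matrix ι ι F).mulVecLin := by
      refine LinearMap.ext_on hspan ?_
      rintro _ ⟨i, rfl⟩
      simp only [mulVecLin_apply, mul_mulVec, neg_mulVec', Units.val_one, one_mulVec]
      fin_cases i <;> simp [u0, u1, u2, u3, u4, u5, mulVec_neg]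
    exact gl_ext fun y => LinearMap.congr_fun e y
  intro ε hε hεε
  clear_value x
  obtain ⟨d, hd, hd1⟩ := H.norm (-1) (F₀.neg_mem F₀.one_mem) (by simp)
  refine ⟨(x 0 - ε • x 1) + d • (x 2 - ε • x 3), ⟨V.add_mem (V.sub_mem (hxV 0) (H.smul _ hε _ (hxV 1)))
    (H.smul _ hd _ (V.sub_mem (hxV 2) (H.smul _ hε _ (hxV 3)))), fun h0 => ?_, ?_⟩, ?_⟩
  · have h1 := congrArg (formFun hf (x 0)) h0
    rw [map_zero] at h1
    simp [formFun_apply, u_add_left hf, u_sub_left hf, u_smul_left hf, h11, hxo 1 0 (by decide),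
      hxo 2 0 (by decide), hxo 3 0 (by decide)] at h1
  · simp only [u_add_left hf, u_add_right hf, u_sub_left hf, u_sub_right hf, u_smul_left hf,
      u_smul_right hf, h11, hxo 0 1 (by decide), hxo 1 0 (by decide), hxo 0 2 (by decide),
      hxo 2 0 (by decide), hxo 0 3 (by decide), hxo 3 0 (by decide), hxo 1 2 (by decide),
      hxo 2 1 (by decide), hxo 1 3 (by decide), hxo 3 1 (by decide), hxo 2 3 (by decide),
      hxo 3 2 (by decide)]
    linear_combination (1 + ε * σ ε) * hd1
  · simp only [mulVec_add, mulVec_sub, mulVec_smul, u0, u1, u2, u3]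
    match_scalars <;> first | ring1 | linear_combination hεε | linear_combination -hεε | linear_combination d * hεε | linear_combination -d * hεε

variable (hO : H.Over M)
include hO

/-- Either all of `M` stabilises `V` up to scalars or there is a new parameter. -/
theorem exists_new_six [Finite F] (hn : Fintype.card ι = 6) {g : GL ι F} (hg : g ∈ M)
    (hgS : ¬ ∃ c : F, c ≠ 0 ∧ ∀ v ∈ V, c • ((g : Matrix ι ι F) *ᵥ v) ∈ V) :
    ∃ a, H.Par M a ∧ a ∉ F₀ := by
  by_contra hA
  push Not at hA
  have hf := H.herm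
  have no : ∀ h ∈ M, (¬ ∃ c : F, c ≠ 0 ∧ ∀ v ∈ V, c • ((h : Matrix ι ι F) *ᵥ v) ∈ V) →
      ∀ u v, H.Iso0 u → H.Iso0 v → f ((h : Matrix ι ι F) *ᵥ v) u ≠ 0 := by
    intro h hh hS u v hu hv h0
    exact hS (H.exists_scalar_six hO (by omega) hh fun v' hv' =>
      H.rational_all_six hO hA (by omega) hh hv hv'
        (H.orth_rational_six hO hA (by omega) hh hv hu h0))
  have toStab : ∀ z ∈ M, z * z = 1 →
      (∃ c : F, c ≠ 0 ∧ ∀ v ∈ V, c • ((z : Matrix ι ι F) *ᵥ v) ∈ V) → H.Stab z :=
    fun z _ hz ⟨c, hc, hcV⟩ => H.stab_of_scalar (by omega) hz hc hcV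
  have hgi := H.iso_of_mem hO hg
  by_cases h2 : (2 : F) = 0
  · obtain ⟨e, he, -⟩ := H.isProj_id.exists_iso H (by omega)
    obtain ⟨w, d, hw, hd, we, de, dw⟩ := H.exists_indep he (by omega)
    obtain ⟨s, hs, hs0, hss⟩ := H.skew
    have hsq : ∀ v, f v v = 0 → ut hf v s * ut hf v s = 1 := fun v hv => by
      rw [ut_add hf hv, show s + s = 0 by linear_combination s * h2, ut_zero hf v hv]
    set R := ut hf e s with hR
    set t := ut hf e s * ut hf w s with ht
    have RM : R ∈ M := H.ut_rat hO he.1 he.2.2 hs hss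
    have tM : t ∈ M := M.mul_mem RM (H.ut_rat hO hw.1 hw.2.2 hs hss)
    have tV : H.Stab t := fun v hv => by
      rw [ht, mul_mulVec, ut_mulVec hf he.2.2, ut_mulVec hf hw.2.2]
      have := V.add_mem hv (H.smul _ (F₀.mul_mem hs (H.rat v hv w hw.1)) w hw.1)
      exact V.add_mem this (H.smul _ (F₀.mul_mem hs (H.rat _ this e he.1)) e he.1)
    have hcomm : Commute (ut hf e s) (ut hf w s) := gl_ext fun x => by
      simp only [mul_mulVec, ut_mulVec hf he.2.2, ut_mulVec hf hw.2.2, u_add_left hf,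
        u_smul_left hf, we, u_symm_zero hf we]
      module
    have tsq : t * t = 1 := by
      rw [ht, hcomm.symm.mul_mul_mul_comm, hsq e he.2.2, hsq w hw.2.2, one_mul]
    have ew : ∀ c : F, e ≠ c • w := fun c hc => by
      have := congrArg (fun v => f d v) hc
      simp only [u_smul_right hf, dw, mul_one, de] at this
      exact he.2.1 (by rw [hc, (map_eq_zero_iff σ σ.injective).1 this.symm, zero_smul])
    have t2 : 2 ≤ resDim t := by
      obtain ⟨e', he', -, e'e, -⟩ := H.partner he.1 he.2.1 he.2.2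
      have m1 := mem_resSp t d
      have m2 := mem_resSp t e'
      rw [ht, mul_mulVec, ut_mulVec hf he.2.2, ut_mulVec hf hw.2.2, u_add_left hf, u_smul_left hf,
        we, de, dw] at m1
      rw [ht, mul_mulVec, ut_mulVec hf he.2.2, ut_mulVec hf hw.2.2, u_add_left hf, u_smul_left hf,
        we, e'e] at m2
      have hwm : w ∈ resSp t := by
        have := (resSp t).smul_mem s⁻¹ m1
        convert this using 1
        match_scalars <;> field_simp <;> ring
      have hem : e ∈ resSp t := by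
        have := (resSp t).smul_mem s⁻¹ ((resSp t).sub_mem m2
          ((resSp t).smul_mem (s * f e' w) hwm))
        convert this using 1
        match_scalars <;> field_simp <;> ring
      have hli : LinearIndependent F ![e, w] := by
        rw [LinearIndependent.pair_iff]
        intro a b hab
        rcases eq_or_ne a 0 with rfl | ha
        · rw [zero_smul, zero_add, smul_eq_zero] at hab
          exact ⟨rfl, hab.resolve_right hw.2.1⟩
        · refine absurd ?_ (ew (-a⁻¹ * b))
          rw [mul_smul, neg_smul, eq_neg_iff_add_eq_zero, ← inv_smul_smul₀ ha e, ← smul_add, hab,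
            smul_zero]
      have := Submodule.finrank_mono (show Submodule.span F (Set.range ![e, w]) ≤ resSp t by
        rw [Submodule.span_le]; rintro _ ⟨i, rfl⟩; fin_cases i <;> assumption)
      rw [finrank_span_eq_card hli, Fintype.card_fin] at this
      exact this
    have R1 : resDim R ≤ 1 := by
      refine (Submodule.finrank_mono (resSp_le (W := F ∙ e) fun x => ?_)).trans
        ((finrank_span_le_card ({e} : Set (ι → F))).trans (by simp))
      rw [hR, ut_mulVec hf he.2.2, add_sub_cancel_left]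
      exact Submodule.mem_span_singleton.2 ⟨_, rfl⟩
    set R' := g * R * g⁻¹ with hR'
    have R'M : R' ∈ M := M.mul_mem (M.mul_mem hg RM) (M.inv_mem hg)
    have R'sq : R' * R' = 1 := by
      calc R' * R' = g * (R * R) * g⁻¹ := by rw [hR']; group
        _ = 1 := by rw [hR, hsq e he.2.2]; group
    obtain ⟨z, hz, hz1, hzt, hzR, -⟩ := exists_invol_commute (t := (⟨t, tM⟩ : M))
      (t' := ⟨R', R'M⟩) (Subtype.ext tsq) (Subtype.ext R'sq) fun k hk => by
        have := congrArg (fun k : M => resDim (k : GL ι F)) hk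
        simp only [Subgroup.coe_mul, Subgroup.coe_inv, hR', resDim_conj] at this
        omega
    have zt : (z : GL ι F) * t = t * z := congrArg Subtype.val hzt.eq
    have zR : (z : GL ι F) * R' = R' * z := congrArg Subtype.val hzR.eq
    have hz' : (z : GL ι F) * z = 1 := congrArg Subtype.val hz
    have tne : t ≠ 1 := fun e => by
      rw [e] at t2
      have : resSp (1 : GL ι F) = ⊥ := le_bot_iff.1 (resSp_le fun x => by simp)
      rw [resDim, this, finrank_bot] at t2
      omega
    have zS : H.Stab z := toStab _ z.2 hz' <| by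
      by_contra hS
      refine H.no_invol_two h2 (H.iso_of_mem hO z.2) (no _ z.2 hS) tsq (H.iso_of_mem hO tM) tV
        ?_ tne
      rwa [mul_assoc, ← zt, inv_mul_cancel_left]
    set z' := g⁻¹ * (z : GL ι F) * g with hz'def
    have z'M : z' ∈ M := M.mul_mem (M.mul_mem (M.inv_mem hg) z.2) hg
    have z'sq : z' * z' = 1 := by
      calc z' * z' = g⁻¹ * ((z : GL ι F) * z) * g := by rw [hz'def]; group
        _ = 1 := by rw [hz']; group
    have z'R : z' * R = R * z' := by
      calc z' * R = g⁻¹ * ((z : GL ι F) * R') * g := by rw [hz'def, hR']; group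
        _ = g⁻¹ * (R' * z) * g := by rw [zR]
        _ = R * z' := by rw [hz'def, hR']; group
    have RV : H.Stab R := fun v hv => by
      rw [hR, ut_mulVec hf he.2.2]
      exact V.add_mem hv (H.smul _ (F₀.mul_mem hs (H.rat v hv e he.1)) e he.1)
    have z'S : H.Stab z' := toStab _ z'M z'sq <| by
      by_contra hS
      refine H.no_invol_two h2 (H.iso_of_mem hO z'M) (no _ z'M hS) (hsq e he.2.2)
        (H.iso_of_mem hO RM) RV (z := R) ?_ ?_
      · rwa [mul_assoc, ← z'R, inv_mul_cancel_left]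
      · intro e1
        have := congrArg (fun k : GL ι F => (k : Matrix ι ι F) *ᵥ d) e1
        obtain ⟨e', he', -, e'e, -⟩ := H.partner he.1 he.2.1 he.2.2
        have h3 := congrArg (fun k : GL ι F => (k : Matrix ι ι F) *ᵥ e') e1
        simp only [hR, ut_mulVec hf he.2.2, e'e, mul_one, Units.val_one, one_mulVec,
          add_eq_left, smul_eq_zero] at h3
        exact h3.elim hs0 he.2.1
    exact H.no_invol_two h2 hgi (no g hg hgS) hz' (H.iso_of_mem hO z.2) zS z'S
      fun e => hz1 (Subtype.ext e)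
  · have hsq1 : ∀ z : GL ι F, z * z = 1 → ∀ x, (z : Matrix ι ι F) *ᵥ ((z : Matrix ι ι F) *ᵥ x) = (1 : F) • x :=
      fun z hz x => by rw [← mul_mulVec, hz, Units.val_one, one_mulVec, one_smul]
    have hsqn : ∀ z : GL ι F, z * z = -1 → ∀ x, (z : Matrix ι ι F) *ᵥ ((z : Matrix ι ι F) *ᵥ x) = (-1 : F) • x :=
      fun z hz x => by rw [← mul_mulVec, hz, neg_mulVec', Units.val_one, one_mulVec, neg_one_smul]
    have hsl : ∀ z ∈ M, z ∈ Geo.specialLinear ι F := fun z hz => (hO.1 hz).2
    have hM1 : (-1 : GL ι F) ∈ M := H.neg_one_mem hO ⟨3, by omega⟩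
    -- involutions are at least two from both ends
    have range : ∀ z ∈ M, z * z = 1 → z ≠ 1 → z ≠ -1 → 2 ≤ resDim z ∧ resDim z + 2 ≤ Fintype.card ι := by
      intro z hz hzz h1 h1'
      have hz' : -z ∈ M := by rw [← neg_one_mul]; exact M.mul_mem hM1 hz
      have hzz' : -z * -z = 1 := by rw [neg_mul_neg, hzz]
      have := resDim_neg h2 hzz
      have := resDim_ne_one h2 hzz (hsl z hz)
      have := resDim_ne_one h2 hzz' (hsl _ hz')
      have : resDim z ≠ 0 := fun e => h1 (resDim_eq_zero e)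
      have : resDim (-z) ≠ 0 := fun e => h1' (by rw [← neg_neg z, resDim_eq_zero e])
      omega
    -- commuting with a rational involution
    have fixI : ∀ h ∈ M, ∀ t : GL ι F, t ∈ M → H.Stab t → t * t = 1 → 2 ≤ resDim t →
        resDim t + 2 ≤ Fintype.card ι → H.Stab (h⁻¹ * t * h) →
        ∃ c : F, c ≠ 0 ∧ ∀ v ∈ V, c • ((h : Matrix ι ι F) *ᵥ v) ∈ V := by
      intro h hh t tM tV tsq r1 r2 hV
      by_contra hS
      exact H.no_invol_odd h2 (H.iso_of_mem hO hh) (no h hh hS) tsq (H.iso_of_mem hO tM) tV hV r1 r2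
    -- the end of the argument
    have finish : ∀ z ∈ M, z * z = 1 → z ≠ 1 → z ≠ -1 → H.Stab z → H.Stab (g⁻¹ * z * g) → False := by
      intro z hz hzz h1 h1' hzV hzV'
      obtain ⟨r1, r2⟩ := range z hz hzz h1 h1'
      exact hgS (fixI g hg z hz hzV hzz r1 r2 hzV')
    obtain ⟨i, hiF, hii⟩ := H.exists_sqrt_neg_one
    obtain ⟨u, uM, uV, usq, ueig⟩ := H.exists_quarter hO h2 hn
    obtain ⟨x, hx, hxo⟩ := H.exists_frame (m := 4) H.isProj_id (by omega)
    obtain ⟨t, -, tM, -, tV, -, tsq, -, d2, -, -⟩ :=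
      H.exists_refl_pair hO h2 (fun i => ⟨(hx i).1, (hx i).2.2⟩) hxo
    have hi0 : i ≠ 0 := fun e => by rw [e, mul_zero] at hii; exact one_ne_zero (neg_eq_zero.1 hii.symm)
    have hσi : σ i = i ∨ σ i = -i := by
      have : (σ i - i) * (σ i + i) = 0 := by
        have := congrArg σ hii
        rw [map_mul, map_neg, map_one] at this
        linear_combination this - hii
      rcases mul_eq_zero.1 this with h | h
      · exact Or.inl (sub_eq_zero.1 h)
      · exact Or.inr (eq_neg_of_add_eq_zero_left h)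
    -- commuting up to sign with the element of order four
    have fixU : ∀ h ∈ M, h⁻¹ * u * h = u ∨ h⁻¹ * u * h = -u →
        ∃ c : F, c ≠ 0 ∧ ∀ v ∈ V, c • ((h : Matrix ι ι F) *ᵥ v) ∈ V := by
      intro h hh hu
      by_contra hS
      obtain ⟨v, hv, huv⟩ := ueig i hiF hii
      obtain ⟨α, hα, hva⟩ : ∃ α, (α = i ∨ α = -i) ∧
          ((h⁻¹ * u * h : GL ι F) : Matrix ι ι F) *ᵥ v = α • v := by
        rcases hu with e | e
        · exact ⟨i, Or.inl rfl, by rw [e]; exact huv⟩
        · exact ⟨-i, Or.inr rfl, by rw [e, neg_mulVec', huv, neg_smul]⟩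
      obtain ⟨β, hβF, hβ, hne⟩ : ∃ β, β ∈ F₀ ∧ β * β = -1 ∧ α * σ β ≠ 1 := by
        by_cases h1 : α * σ i = 1
        · refine ⟨-i, F₀.neg_mem hiF, by rw [neg_mul_neg, hii], fun h3 => h2 ?_⟩
          rw [map_neg] at h3
          linear_combination -h1 - h3
        · exact ⟨i, hiF, hii, h1⟩
      obtain ⟨w, hw, huw⟩ := ueig β hβF hβ
      exact H.no_eig (H.iso_of_mem hO uM) (no h hh hS) hv hw hva huw hne
    set t' := g * u * g⁻¹ with ht'
    have t'M : t' ∈ M := M.mul_mem (M.mul_mem hg uM) (M.inv_mem hg)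
    have t'sq : t' * t' = -1 := by
      calc t' * t' = g * (u * u) * g⁻¹ := by rw [ht']; group
        _ = -1 := by rw [usq, mul_neg, mul_one, neg_mul, mul_inv_cancel]
    have hne1 : (1 : GL ι F) ≠ -1 := fun e => by
      have e' := congrArg (fun z : GL ι F => (z : Matrix ι ι F) *ᵥ x 0) e
      simp only [neg_mulVec', Units.val_one, one_mulVec] at e'
      have h0 : (2 : F) * f (x 0) (x 0) = 0 := by
        have e2 : f (x 0) (x 0) = f (-x 0) (x 0) := congrArg (fun a => f a (x 0)) e'
        rw [u_neg_left hf] at e2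
        linear_combination e2
      exact mul_ne_zero h2 (hx 0).2.2 h0
    obtain ⟨z, z1, ze, hzz, hzt, hzt'⟩ := exists_invol_commute_mod (e := (⟨-1, hM1⟩ : M))
      (t := ⟨t, tM⟩) (t' := ⟨t', t'M⟩) (Subtype.ext (by simp)) (fun k => Subtype.ext (by simp))
      (Subtype.ext tsq) (Or.inr (Subtype.ext t'sq)) fun k => by
        have key : ∀ b : GL ι F, b * b = -1 → (k : GL ι F) * t * (k : GL ι F)⁻¹ ≠ b := fun b hb e => by
          apply hne1
          rw [← hb, ← e]
          calc (1 : GL ι F) = k * (t * t) * (k : GL ι F)⁻¹ := by rw [tsq]; group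
            _ = _ := by group
        exact ⟨fun e => key t' t'sq (congrArg Subtype.val e),
          fun e => key (t' * -1) (by rw [mul_neg_one, neg_mul_neg, t'sq]) (congrArg Subtype.val e)⟩
    obtain ⟨z, zM⟩ := z
    simp only [ne_eq, Subtype.ext_iff, Subgroup.coe_mul, Subgroup.coe_one] at z1 ze hzz hzt hzt'
    have zt : z * t = t * z := by
      rcases hzt with h | h
      · exact h
      · exfalso
        have e : z * t * z⁻¹ = -t := by rw [h, mul_neg_one, neg_mul, mul_inv_cancel_right]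
        have := congrArg resDim e
        rw [resDim_conj] at this
        have := resDim_neg h2 tsq
        omega
    have scalStab : ∀ h ∈ M, h * h = 1 ∨ h * h = -1 →
        (∃ c : F, c ≠ 0 ∧ ∀ v ∈ V, c • ((h : Matrix ι ι F) *ᵥ v) ∈ V) → H.Stab h := by
      rintro h - (hh | hh) ⟨c, hc, hcV⟩
      · exact H.stab_of_scalar' (by omega) one_ne_zero F₀.one_mem (hsq1 h hh) hc hcV
      · exact H.stab_of_scalar' (by omega) (neg_ne_zero.2 one_ne_zero) (F₀.neg_mem F₀.one_mem) (hsqn h hh) hc hcV
    have zV : H.Stab z := scalStab z zM hzz (fixI z zM t tM tV tsq d2.ge (by omega)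
      (by rwa [mul_assoc, ← zt, inv_mul_cancel_left]))
    set z' := g⁻¹ * z * g with hz'
    have z'M : z' ∈ M := M.mul_mem (M.mul_mem (M.inv_mem hg) zM) hg
    have z'sq : z' * z' = 1 ∨ z' * z' = -1 := by
      have e : z' * z' = g⁻¹ * (z * z) * g := by rw [hz']; group
      rcases hzz with h | h
      · left; rw [e, h]; group
      · right; rw [e, h, mul_neg_one, neg_mul, inv_mul_cancel]
    have z'V : H.Stab z' := scalStab z' z'M z'sq (fixU z' z'M (by
      rcases hzt' with h | h
      · left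
        calc z'⁻¹ * u * z' = g⁻¹ * (z⁻¹ * (t' * z)) * g := by rw [hz', ht']; group
          _ = g⁻¹ * t' * g := by rw [← h, inv_mul_cancel_left]
          _ = u := by rw [ht']; group
      · right
        have h' : t' * z = -(z * t') := by rw [h, mul_neg_one, neg_neg]
        calc z'⁻¹ * u * z' = g⁻¹ * (z⁻¹ * (t' * z)) * g := by rw [hz', ht']; group
          _ = -(g⁻¹ * t' * g) := by rw [h', mul_neg, inv_mul_cancel_left, mul_neg, neg_mul]
          _ = -u := by rw [ht']; group))
    rcases hzz with hzz | hzz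
    · exact finish z zM hzz z1 ze zV z'V
    have hgi := H.iso_of_mem hO hg
    rcases hσi with hσi | hσi
    · -- both eigenspaces are totally isotropic
      have eig : ∀ h ∈ M, h * h = -1 → H.Stab h →
          ∃ v, H.Iso0 v ∧ (h : Matrix ι ι F) *ᵥ v = i • v := by
        intro h hh hsq hV
        obtain ⟨v, hv, hne⟩ : ∃ v ∈ V, v - i • ((h : Matrix ι ι F) *ᵥ v) ≠ 0 := by
          by_contra hcon
          push Not at hcon
          have e : ∀ y, y = i • ((h : Matrix ι ι F) *ᵥ y) := fun y => by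
            have := LinearMap.ext_on H.span (f := (LinearMap.id : (ι → F) →ₗ[F] (ι → F)))
              (g := i • (h : Matrix ι ι F).mulVecLin) (fun v hv => sub_eq_zero.1 (hcon v hv))
            exact LinearMap.congr_fun this y
          have h1 := mem_isoGrp.1 (H.iso_of_mem hO hh) (x 0) (x 0)
          have h3 : f (x 0) (x 0) = i * σ i * f (x 0) (x 0) := by
            conv_lhs => rw [e (x 0), u_smul_left hf, u_smul_right hf, h1]
            ring
          rw [hσi, hii] at h3
          exact mul_ne_zero h2 (hx 0).2.2 (by linear_combination h3)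
        refine ⟨_, ⟨V.sub_mem hv (H.smul _ hiF _ (hV v hv)), hne, ?_⟩, ?_⟩
        · have h1 := mem_isoGrp.1 (H.iso_of_mem hO hh)
          simp only [u_sub_left hf, u_sub_right hf, u_smul_left hf, u_smul_right hf, h1, hσi]
          have h3 := h1 v ((h : Matrix ι ι F) *ᵥ v)
          rw [hsqn h hsq, u_smul_right hf, map_neg, map_one] at h3
          linear_combination i * h3 + f v v * hii
        · rw [mulVec_sub, mulVec_smul, hsqn h hsq]
          match_scalars <;> first | ring1 | linear_combination hii | linear_combination -hii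
      obtain ⟨v, hv, hva⟩ := eig z' z'M (by
        rw [hz']
        calc _ = g⁻¹ * (z * z) * g := by group
          _ = -1 := by rw [hzz, mul_neg_one, neg_mul, inv_mul_cancel]) z'V
      obtain ⟨w, hw, hwb⟩ := eig z zM hzz zV
      exact H.no_eig (H.iso_of_mem hO zM) (no g hg hgS) hv hw hva hwb
        (by rw [hσi, hii]; exact fun e => h2 (by linear_combination -e))
    -- the scaled involution
    set ν : Fˣ := Units.mk0 (-i) (neg_ne_zero.2 hi0) with hν
    set w := ν • z with hw
    have hwx : ∀ y, (w : Matrix ι ι F) *ᵥ y = (-i) • ((z : Matrix ι ι F) *ᵥ y) := fun y => by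
      rw [hw, Units.val_smul, Units.smul_def, Matrix.smul_mulVec]; rfl
    have hwi : w ∈ isoGrp f := mem_isoGrp.2 fun a b => by
      simp only [hwx, u_smul_left hf, u_smul_right hf, mem_isoGrp.1 (H.iso_of_mem hO zM), map_neg, hσi,
        neg_neg]
      linear_combination (-f a b) * hii
    have hww : w * w = 1 := gl_ext fun y => by
      rw [mul_mulVec, hwx, hwx, mulVec_smul, hsqn z hzz, Units.val_one, one_mulVec]
      match_scalars; linear_combination -hii
    have hwV : H.Stab w := fun v hv => by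
      rw [hwx]; exact H.smul _ (F₀.neg_mem hiF) _ (zV v hv)
    have hw'x : ∀ y, ((g⁻¹ * w * g : GL ι F) : Matrix ι ι F) *ᵥ y = (-i) • ((z' : Matrix ι ι F) *ᵥ y) :=
      fun y => by rw [hz', mul_mulVec, mul_mulVec, hwx, mulVec_smul, mul_mulVec, mul_mulVec]
    have hwV' : H.Stab (g⁻¹ * w * g) := fun v hv => by
      rw [hw'x]; exact H.smul _ (F₀.neg_mem hiF) _ (z'V v hv)
    have hdetz : (z : Matrix ι ι F).det = 1 := by
      have h' : Matrix.GeneralLinearGroup.det z = 1 := hsl z zM
      simpa using congrArg Units.val h'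
    have notscal : ∀ c : F, c * c = 1 → ∃ y, (w : Matrix ι ι F) *ᵥ y ≠ c • y := by
      intro c hcc
      by_contra hcon
      push Not at hcon
      have e : (z : Matrix ι ι F) = (i * c) • (1 : Matrix ι ι F) := by
        refine Matrix.ext_of_mulVec_single fun j => ?_
        rw [Matrix.smul_mulVec, one_mulVec, ← smul_smul, ← hcon, hwx, smul_smul,
          show i * -i = 1 by linear_combination -hii, one_smul]
      rw [e, det_smul, det_one, mul_one, hn,
        show (i * c) ^ 6 = (i * i * (c * c)) ^ 3 by ring, hii, hcc] at hdetz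
      exact h2 (by linear_combination -hdetz)
    by_cases hr : 2 ≤ resDim w ∧ resDim w + 2 ≤ Fintype.card ι
    · exact H.no_invol_odd h2 hgi (no g hg hgS) hww hwi hwV hwV' hr.1 hr.2
    -- a reflection
    obtain ⟨r, rsq, ri, rV, rV', r1⟩ : ∃ r : GL ι F, r * r = 1 ∧ r ∈ isoGrp f ∧ H.Stab r ∧
        H.Stab (g⁻¹ * r * g) ∧ resDim r = 1 := by
      have := resDim_neg h2 hww
      have h0 : resDim w ≠ 0 := fun e => by
        obtain ⟨y, hy⟩ := notscal 1 (by ring)
        exact hy (by rw [resDim_eq_zero e, Units.val_one, one_mulVec, one_smul])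
      have h0' : resDim (-w) ≠ 0 := fun e => by
        obtain ⟨y, hy⟩ := notscal (-1) (by ring)
        refine hy ?_
        have e' : w = -1 := by rw [← neg_neg w, resDim_eq_zero e]
        rw [e', neg_mulVec', Units.val_one, one_mulVec, neg_one_smul]
      rcases (show resDim w = 1 ∨ resDim (-w) = 1 by omega) with h | h
      · exact ⟨w, hww, hwi, hwV, hwV', h⟩
      · refine ⟨-w, by rw [neg_mul_neg, hww], mem_isoGrp.2 fun a b => ?_, fun v hv => ?_, fun v hv => ?_, h⟩
        · simp only [neg_mulVec', u_neg_left hf, u_neg_right hf, mem_isoGrp.1 hwi, neg_neg]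
        · rw [neg_mulVec']; exact V.neg_mem (hwV v hv)
        · rw [mul_neg, neg_mul, neg_mulVec']; exact V.neg_mem (hwV' v hv)
    have line : ∀ r : GL ι F, r * r = 1 → r ∈ isoGrp f → H.Stab r → resDim r = 1 →
        ∃ y ∈ V, f y y ≠ 0 ∧ resSp r = F ∙ y := by
      intro r rsq ri rV r1
      obtain ⟨v, hv, hv'⟩ : ∃ v ∈ V, (r : Matrix ι ι F) *ᵥ v ≠ v := by
        by_contra hcon
        push Not at hcon
        have hl : (r : Matrix ι ι F).mulVecLin = LinearMap.id := LinearMap.ext_on H.span hcon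
        have : resSp r = ⊥ := le_bot_iff.1 (resSp_le fun y => by
          rw [Submodule.mem_bot, sub_eq_zero]; exact LinearMap.congr_fun hl y)
        rw [resDim, this, finrank_bot] at r1
        exact zero_ne_one r1
      set y := (r : Matrix ι ι F) *ᵥ v - v with hy
      have hy0 : y ≠ 0 := sub_ne_zero.2 hv'
      have hsp : resSp r = F ∙ y := (Submodule.eq_of_le_of_finrank_eq
        ((Submodule.span_singleton_le_iff_mem _ _).2 (mem_resSp r v))
        ((finrank_span_singleton hy0).trans r1.symm)).symm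
      refine ⟨y, V.sub_mem (rV v hv) hv, fun h0 => hy0 (H.eq_zero_of fun a _ => ?_), hsp⟩
      -- every vector would be orthogonal to the isotropic axis
      obtain ⟨φ, hφ⟩ := Submodule.mem_span_singleton.1 (hsp ▸ mem_resSp r a)
      have ev : (r : Matrix ι ι F) *ᵥ v = v + y := by rw [hy]; abel
      have ea : (r : Matrix ι ι F) *ᵥ a = a + φ • y := by rw [hφ]; abel
      have h1 := mem_isoGrp.1 ri v v
      have h3 := H.invol_swap rsq ri v v
      have h4 := mem_isoGrp.1 ri a v
      rw [ev] at h1 h3 h4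
      rw [ea] at h4
      simp only [u_add_left hf, u_add_right hf, u_smul_left hf, h0, mul_zero, add_zero] at h1 h3 h4
      have hyv : f y v = 0 := (mul_eq_zero.1 (show (2 : F) * f y v = 0 by
        linear_combination h1 + h3)).resolve_left h2
      linear_combination h4 - φ * hyv
    obtain ⟨y, hyV, hyy, hsp⟩ := line r rsq ri rV r1
    set r' := g⁻¹ * r * g with hr'
    have r'sq : r' * r' = 1 := by
      calc r' * r' = g⁻¹ * (r * r) * g := by rw [hr']; group
        _ = 1 := by rw [rsq]; group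
    obtain ⟨y', hyV', hyy', hsp'⟩ := line r' r'sq
      (Subgroup.mul_mem _ (Subgroup.mul_mem _ (inv_mem hgi) ri) hgi) rV'
      (by rw [hr']; simpa using (resDim_conj r g⁻¹).trans r1)
    obtain ⟨lam, hlam⟩ : ∃ lam : F, lam • y = (g : Matrix ι ι F) *ᵥ y' := by
      rw [← Submodule.mem_span_singleton, ← hsp]
      obtain ⟨v, hv⟩ := (hsp'.symm ▸ Submodule.mem_span_singleton_self y' : y' ∈ resSp r')
      rw [← hv, LinearMap.sub_apply, mulVecLin_apply, LinearMap.id_apply, mulVec_sub, ← mul_mulVec,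
        show g * r' = r * g by rw [hr']; group, mul_mulVec]
      exact mem_resSp r _
    have lam0 : lam ≠ 0 := fun e => hyy' (by
      rw [← mem_isoGrp.1 hgi, ← hlam, e, zero_smul, u_zero_left hf])
    have hy0 : y ≠ 0 := fun e => hyy (by rw [e, u_zero_left hf])
    have frame : ∀ a, a ∈ V → f a a ≠ 0 → ∃ t t4 : GL ι F, t ∈ M ∧ t4 ∈ M ∧ H.Stab t ∧ H.Stab t4 ∧
        t * t = 1 ∧ t4 * t4 = 1 ∧ resDim t = 2 ∧ resDim t4 = 4 ∧
        (t : Matrix ι ι F) *ᵥ a = a ∧ (t4 : Matrix ι ι F) *ᵥ a = a := by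
      intro a ha haa
      obtain ⟨x, hx, hxo⟩ := H.exists_frame (m := 4) (H.isProj_id.step H ha rfl haa) (by omega)
      obtain ⟨t, t4, m1, m2, s1, s2, q1, q2, d1, d2', hfix⟩ :=
        H.exists_refl_pair hO h2 (fun i => ⟨(hx i).1, (hx i).2.2⟩) hxo
      exact ⟨t, t4, m1, m2, s1, s2, q1, q2, d1, d2', hfix a fun j => by
        refine u_symm_zero hf ?_
        rw [← (hx j).2.1]
        exact H.projStep_perp _ haa _⟩
    obtain ⟨s, -, sM, -, sV, -, ssq, -, sd, -, sy, -⟩ := frame y hyV hyy
    obtain ⟨-, s4, -, s4M, -, s4V, -, s4sq, -, s4d, -, s4y⟩ := frame y' hyV' hyy'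
    let My : Subgroup (GL ι F) :=
      { carrier := {k | k ∈ M ∧ (k : Matrix ι ι F) *ᵥ y = y}
        one_mem' := ⟨M.one_mem, by simp⟩
        mul_mem' := fun {a b} ha hb => ⟨M.mul_mem ha.1 hb.1, by rw [mul_mulVec, hb.2, ha.2]⟩
        inv_mem' := fun {a} ha => ⟨M.inv_mem ha.1, by conv_lhs => rw [← ha.2, inv_mulVec_mulVec]⟩ }
    set s' := g * s4 * g⁻¹ with hs'
    have s'sq : s' * s' = 1 := by
      calc s' * s' = g * (s4 * s4) * g⁻¹ := by rw [hs']; group
        _ = 1 := by rw [s4sq]; group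
    have s'y : (s' : Matrix ι ι F) *ᵥ y = y := by
      rw [show y = lam⁻¹ • ((g : Matrix ι ι F) *ᵥ y') by rw [← hlam, inv_smul_smul₀ lam0],
        mulVec_smul, hs', mul_mulVec, mul_mulVec, inv_mulVec_mulVec, s4y]
    obtain ⟨k, hk, hk1, hks, hks', -⟩ := exists_invol_commute (t := (⟨s, sM, sy⟩ : My))
      (t' := ⟨s', ⟨M.mul_mem (M.mul_mem hg s4M) (M.inv_mem hg), s'y⟩⟩)
      (Subtype.ext ssq) (Subtype.ext s'sq) fun k hk => by
        have := congrArg (fun k : My => resDim (k : GL ι F)) hk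
        simp only [Subgroup.coe_mul, Subgroup.coe_inv, hs', resDim_conj] at this
        omega
    obtain ⟨k, kM, ky⟩ := k
    have kk : k * k = 1 := congrArg Subtype.val hk
    have kne : k ≠ -1 := fun e => by
      rw [e, neg_mulVec', Units.val_one, one_mulVec] at ky
      exact hy0 ((smul_eq_zero.1 (show (2 : F) • y = 0 by
        rw [two_smul]; nth_rewrite 1 [← ky]; exact neg_add_cancel y)).resolve_left h2)
    have ks : k * s = s * k := congrArg Subtype.val hks.eq
    have ks' : k * s' = s' * k := congrArg Subtype.val hks'.eq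
    have kV : H.Stab k := scalStab k kM (Or.inl kk) (fixI k kM s sM sV ssq sd.ge (by omega)
      (by rwa [mul_assoc, ← ks, inv_mul_cancel_left]))
    set k' := g⁻¹ * k * g with hk'
    have k'sq : k' * k' = 1 := by
      calc k' * k' = g⁻¹ * (k * k) * g := by rw [hk']; group
        _ = 1 := by rw [kk]; group
    have k'V : H.Stab k' := scalStab k' (M.mul_mem (M.mul_mem (M.inv_mem hg) kM) hg) (Or.inl k'sq)
      (fixI k' (M.mul_mem (M.mul_mem (M.inv_mem hg) kM) hg) s4 s4M s4V s4sq (by omega) (by omega) (by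
        have : k'⁻¹ * s4 * k' = s4 := by
          calc k'⁻¹ * s4 * k' = g⁻¹ * (k⁻¹ * (s' * k)) * g := by rw [hk', hs']; group
            _ = g⁻¹ * s' * g := by rw [← ks', inv_mul_cancel_left]
            _ = s4 := by rw [hs']; group
        rwa [this]))
    exact finish k kM kk (fun e => hk1 (Subtype.ext e)) kne kV k'V

end HSub

end Cfsg.Agent.Symplectic
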