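import Cfsg.Agent.H63.UDec.Up

/-!
A full vector and two coordinates in one block give a pair meeting two blocks.
-/

set_option autoImplicit false

namespace Cfsg.Agent.H58.SUSmall

open scoped MatrixGroups Matrix
open Finset Matrix Cfsg Cfsg.Agent.H95 Cfsg.Agent.Symplectic Cfsg.Agent.H63.UDec

variable {F : Type*} [Field F] [Fintype F] {n q : ℕ} {σ : F ≃+* F}
  {hf : Geo.IsUnitaryForm σ (hermForm n F q)} {M : Subgroup (GL (Fin n) F)}

/-- Opposite norms give a pair. -/
theorem pair_of_sum (hF : Fintype.card F = q ^ 2) (hσ : ∀ x, σ x = x ^ q) (hn : 3 ≤ n)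
    (hM : M ≤ isoGrp (hermForm n F q)) (hph : Phases σ M) {x : Fin n → F}
    (hxx : hermForm n F q x x = 0) (hU : UtIn hf M x) {a e : Fin n} (hae : a ≠ e) (ha : x a ≠ 0)
    (he : x a * σ (x a) + x e * σ (x e) = 0) : Pair hf M a e := by
  classical
  have hinv : ∀ x, σ (σ x) = x := u_inv hf
  have hq := Unitary.two_le_q hF
  obtain ⟨l, hl, hl'⟩ := exists_mem_notMem_of_card_lt_card (s := ({1, -1} : Finset F)) (t := cs σ)
    (by rw [card_cs hF hσ]; exact lt_of_le_of_lt card_le_two (by omega))
  rw [mem_cs] at hl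
  simp only [mem_insert, Finset.mem_singleton, not_or] at hl'
  have hne : σ l ≠ l := fun h => by
    rw [h] at hl
    rcases mul_eq_zero.1 (show (l - 1) * (l + 1) = 0 by linear_combination hl) with h | h
    · exact hl'.1 (sub_eq_zero.1 h)
    · exact hl'.2 (by linear_combination h)
  set θ : Fin n → F := fun i => if i = a then l else if i = e then σ l else 1
  have θa : θ a = l := by simp [θ]
  have θe : θ e = σ l := by simp [θ, hae.symm]
  have hθ : Ph σ θ := by
    refine ⟨fun i => ?_, ?_⟩
    · simp only [θ]; split_ifs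
      · exact hl
      · rw [hinv, mul_comm]; exact hl
      · simp
    · rw [← prod_subset (subset_univ ({a, e} : Finset (Fin n))) (fun i _ hi => by
        simp only [mem_insert, Finset.mem_singleton, not_or] at hi
        simp [θ, hi.1, hi.2]), prod_pair hae, θa, θe, hl]
  set z := ∑ i, θ i * (x i * σ (x i)) with hz
  have hzval : z = x a * σ (x a) * (l - σ l) := by
    have h0 : ∑ i, x i * σ (x i) = 0 := by rw [← herm_sum hσ, hxx]
    rw [hz, ← sub_zero (∑ i, θ i * _), ← h0, ← sum_sub_distrib,
      sum_eq_add a e hae (fun i _ hi => by simp [θ, hi.1, hi.2]) (by simp) (by simp), θa, θe]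
    linear_combination (σ l - 1) * he
  obtain ⟨hy, hyy⟩ := step hσ hM hph hxx hU hθ hz
    (hzval ▸ mul_ne_zero (mul_ne_zero ha ((_root_.map_ne_zero σ).2 ha))
      (sub_ne_zero.2 (Ne.symm hne))) (c := 1) (by
      rw [map_one, one_mul, one_mul, hzval]
      simp only [map_mul, map_sub, hinv]
      ring)
  refine pair_of_one hσ hn hM hph hae (fun i h1 h2 => by simp [θ, h1, h2]) hyy ?_ hy
  simp [θa, sub_eq_zero, hl'.1, ha]

/-- A coordinate pair in one block can be scaled. -/
theorem pair_of_full (hF : Fintype.card F = q ^ 2) (hσ : ∀ x, σ x = x ^ q) (hn : 3 ≤ n)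
    (hM : M ≤ isoGrp (hermForm n F q)) (hph : Phases σ M) {x : Fin n → F}
    (hxx : hermForm n F q x x = 0) (hU : UtIn hf M x) {a b e : Fin n} (hab : a ≠ b) (hae : a ≠ e)
    (hbe : b ≠ e) (hP : Pair hf M a b) (hx : ∀ i, x i ≠ 0) :
    Pair hf M a e ∨ Pair hf M b e := by
  classical
  have hinv : ∀ x, σ (σ x) = x := u_inv hf
  have hq := Unitary.two_le_q hF
  set Na := x a * σ (x a)
  set Nb := x b * σ (x b)
  set Ne' := x e * σ (x e)
  have hNa : Na ≠ 0 := mul_ne_zero (hx a) ((_root_.map_ne_zero σ).2 (hx a))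
  have hNb : Nb ≠ 0 := mul_ne_zero (hx b) ((_root_.map_ne_zero σ).2 (hx b))
  have fix' : ∀ i, σ (x i * σ (x i)) = x i * σ (x i) := fun i => by rw [map_mul, hinv, mul_comm]
  by_cases hc : Na + Nb ≠ 0
  · obtain ⟨h, hh, hhi, h0, hrest⟩ := kill hF hσ hab hP (hx a) (hx b) hc
    set y := (h : Matrix (Fin n) (Fin n) F) *ᵥ x
    have hyy : hermForm n F q y y = 0 := by simp only [y, mem_isoGrp.1 hhi, hxx]
    have hyU : UtIn hf M y := hU.conj hf hxx hh hhi
    have hye : y e ≠ 0 := by rw [hrest e hae.symm hbe.symm]; exact hx e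
    have hsum : y a * σ (y a) + y b * σ (y b) = Na + Nb := by
      have e1 : ∀ v : Fin n → F, hermForm n F q v v =
          v a * σ (v a) + v b * σ (v b) + ∑ i ∈ univ \ {a, b}, v i * σ (v i) := fun v => by
        rw [herm_sum hσ, ← sum_pair (f := fun i => v i * σ (v i)) hab, add_comm,
          sum_sdiff (subset_univ _)]
      have e2 := (hyy.symm.trans (e1 y))
      have e3 := (hxx.symm.trans (e1 x))
      rw [sum_congr rfl fun i hi => by
        simp only [Finset.mem_sdiff, mem_insert, Finset.mem_singleton, not_or] at hi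
        rw [show y i = x i from hrest i hi.2.1 hi.2.2]] at e2
      linear_combination e3 - e2
    rcases h0 with h0 | h0
    · change y a = 0 at h0
      refine Or.inr (down_exact hF hσ hn hM hph hyy hyU hbe ?_ hye h0)
      intro hb0
      rw [h0, hb0, zero_mul, add_zero] at hsum
      exact hc hsum.symm
    · change y b = 0 at h0
      refine Or.inl (down_exact hF hσ hn hM hph hyy hyU hae ?_ hye h0)
      intro ha0
      rw [h0, ha0, zero_mul, add_zero] at hsum
      exact hc hsum.symm
  rw [not_not] at hc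
  by_cases hce : Na + Ne' = 0
  · exact Or.inl (pair_of_sum hF hσ hn hM hph hxx hU hae (hx a) hce)
  -- scale the part in the block
  set R := -Ne' / Na
  have hR : σ R = R := by
    simp only [R, Na, Ne', map_div₀, map_neg, fix']
  have hR0 : R ≠ 0 := div_ne_zero (neg_ne_zero.2 (mul_ne_zero (hx e) ((_root_.map_ne_zero σ).2 (hx e)))) hNa
  obtain ⟨t, ht⟩ := Unitary.exists_norm_eq hF (a := R) (by rw [← hσ]; exact hR)
  rw [← hσ] at ht
  have ht0 : t ≠ 0 := fun h => hR0 (by rw [← ht, h, zero_mul])
  obtain ⟨lam, hlam, hlam'⟩ : ∃ lam : F, lam * σ lam = R ∧ σ lam ≠ lam := by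
    by_contra hcon
    push Not at hcon
    have hsub : ((cs σ).image fun m => t * m) ⊆ (Polynomial.nthRoots 2 R).toFinset := fun y hy => by
      obtain ⟨m, hm, rfl⟩ := mem_image.1 hy
      rw [Multiset.mem_toFinset, Polynomial.mem_nthRoots (by norm_num), sq]
      have e1 : t * m * σ (t * m) = R := by
        rw [map_mul]; linear_combination (m * σ m) * ht + R * mem_cs.1 hm
      have e2 := hcon _ e1
      rw [e2] at e1
      exact e1
    have h3 := (card_le_card hsub).trans ((Multiset.toFinset_card_le _).trans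
      (Polynomial.card_nthRoots 2 R))
    rw [card_image_of_injective _ (mul_right_injective₀ ht0), card_cs hF hσ] at h3
    omega
  set w : Fin n → F := fun i => if i = a then (lam - 1) * x a else if i = b then (σ lam - 1) * x b else 0
  have hw : ∀ i, i ≠ a → i ≠ b → w i = 0 := fun i h1 h2 => by simp [w, h1, h2]
  have hwa : w a = (lam - 1) * x a := by simp [w]
  have hwb : w b = (σ lam - 1) * x b := by simp [w, hab.symm]
  have hww : hermForm n F q w w = 0 := by
    rw [norm_two hσ hab hw, hwa, hwb, map_mul, map_mul, map_sub, map_sub, map_one, hinv]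
    linear_combination ((lam - 1) * (σ lam - 1)) * hc
  set f0 := hermForm n F q w x with hf0
  have hf0v : f0 = (lam - σ lam) * Na := by
    rw [hf0, norm_two hσ hab hw, hwa, hwb]
    linear_combination (σ lam - 1) * hc
  have hf00 : f0 ≠ 0 := by rw [hf0v]; exact mul_ne_zero (sub_ne_zero.2 (Ne.symm hlam')) hNa
  have hfs : σ f0 = -f0 := by
    rw [hf0v, map_mul, map_sub, hinv, fix']; ring
  have hfxw : hermForm n F q x w = -f0 := by rw [← u_conj hf w x, ← hf0, hfs]
  set l := (-f0)⁻¹
  have hl : σ l = -l := by simp only [l, map_inv₀, map_neg, hfs, neg_neg, inv_neg]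
  have hh : ut hf w l ∈ M := hP w hw hww l hl
  have hhi : ut hf w l ∈ isoGrp (hermForm n F q) := ut_mem_iso hf hww hl
  set y := (ut hf w l : Matrix (Fin n) (Fin n) F) *ᵥ x
  have hy : ∀ i, y i = x i + w i := fun i => by
    simp only [y, ut_mulVec hf hww, hfxw, l, inv_mul_cancel₀ (neg_ne_zero.2 hf00), one_smul,
      Pi.add_apply]
  have hya : y a = lam * x a := by rw [hy, hwa]; ring
  have hye : y e = x e := by rw [hy, hw e hae.symm hbe.symm, add_zero]
  refine Or.inl (pair_of_sum hF hσ hn hM hph (x := y) (by simp only [y, mem_isoGrp.1 hhi, hxx])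
    (hU.conj hf hxx hh hhi) hae ?_ ?_)
  · rw [hya]; exact mul_ne_zero (fun h => hR0 (by rw [← hlam, h, zero_mul])) (hx a)
  · rw [hya, hye, map_mul]
    have e1 : R * Na = -Ne' := by simp only [R]; field_simp
    linear_combination Na * hlam + e1

end Cfsg.Agent.H58.SUSmall
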