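import Cfsg.Agent.H58.SUSmall.OrthSixGen
import Cfsg.Agent.S5659

/-!
Orthogonal subfield groups are maximal in `SU` from dimension six.
-/

set_option autoImplicit false

namespace Cfsg.Agent.H98.UnitaryOrth

open scoped MatrixGroups Matrix
open Matrix QuadraticMap Module Cfsg.Agent.H95 Cfsg.Agent.Symplectic Cfsg.Agent.Orthogonal
open Cfsg.Agent.H98.SubfieldOrth (exists_hyp exists_hyp_at le_of_singular ratPts mem_subfieldSubgroup_iff)

variable {ι : Type} [Fintype ι] [DecidableEq ι] {F : Type*} [Field F] [Finite F]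
  {σ : F ≃+* F} {f : (ι → F) → (ι → F) → F} {F₀ : Subfield F}

/-- Maximality of the rational subgroup among the subgroups of the special isometry group. -/
theorem isMaximalIn_rational_six (P : GL ι F) (R : ORat σ f F₀) (hR : R.V₀ = ratPts F₀ P) (hn : 6 ≤ Fintype.card ι)
    (G : Subgroup (GL ι F)) (hG : G = isoGrp f ⊓ Geo.specialLinear ι F)
    (hgen : ∀ M : Subgroup (GL ι F), (∀ v, f v v = 0 → UtIn R.herm M v) → G ≤ M) :
    Geo.IsMaximalIn G (Geo.subfieldSubgroup F₀ P ⊓ G) := by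
  have := R.finiteDimensional
  have hd0 : finrank F₀ R.V₀ = Fintype.card ι := R.finrank_eq
  have hf := R.herm
  obtain ⟨θ, hθ0, hθ⟩ := exists_skew_ne_zero hf
  refine ⟨lt_of_le_not_ge inf_le_right fun h => ?_, fun M hM hMG => ?_⟩
  · obtain ⟨x, -, z, -, hx, hz, hxz, -⟩ :=
      exists_hyp R.nondeg (nondeg_restr_top R.nondeg) (by rw [finrank_top]; omega)
    have fxx : f (x : ι → F) (x : ι → F) = 0 := R.iso_of hx
    have fzx : f (z : ι → F) (x : ι → F) = 1 := R.one_of (by rw [polar_comm]; exact hxz)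
    obtain ⟨c, hc, hcv⟩ := (mem_subfieldSubgroup_iff F₀ P _).1
      (h (hG ▸ ⟨ut_mem_iso hf fxx hθ, ut_mem_sl hf (x : ι → F) θ⟩ : ut hf (x : ι → F) θ ∈ G)).1
    rw [← hR] at hcv
    have h1 := R.f_mem ⟨_, hcv x x.2⟩ z
    simp only [ut_mulVec hf fxx, fxx, mul_zero, zero_smul, add_zero, u_smul_left hf, R.one_of hxz, mul_one] at h1
    have h2 := R.f_mem ⟨_, hcv z z.2⟩ z
    simp only [ut_mulVec hf fxx, fzx, mul_one, u_smul_left hf, u_add_left hf, R.iso_of hz, R.one_of hxz,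
      zero_add] at h2
    have h3 := F₀.div_mem h2 h1
    rw [mul_div_cancel_left₀ _ (inv_ne_zero hc), ← R.fixed, hθ] at h3
    exact mul_ne_zero R.two hθ0 (by linear_combination -h3)
  by_cases hMS : M ≤ Geo.subfieldSubgroup F₀ P
  · exact Or.inl (le_antisymm (le_inf hMS hMG) hM)
  refine Or.inr (le_antisymm hMG (hgen M ?_))
  have hMi : M ≤ isoGrp f := fun m hm => (hG ▸ hMG hm).1
  have hOver : R.Over M := by
    refine ⟨hMi, fun e d he hed => ?_⟩
    have hok : EichOK hf (e : ι → F) (d : ι → F) (-f (d : ι → F) (d : ι → F) / 2) := by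
      refine ⟨R.iso_of he, R.zero_of (by rw [polar_comm]; exact hed), ?_⟩
      rw [map_div₀, map_neg, map_ofNat, R.sigma_f d d]
      have := R.two
      field_simp
      ring
    refine ⟨hok, hM ⟨(mem_subfieldSubgroup_iff F₀ P _).2 ⟨1, one_ne_zero, ?_⟩,
      hG ▸ ⟨ue_mem_iso hf hok, ue_mem_sl hf _ _ _⟩⟩⟩
    intro v hv
    rw [← hR] at hv ⊢
    rw [inv_one, one_smul, ue_mulVec hf hok]
    have h2 : (2 : F) ∈ F₀ := ofNat_mem F₀ 2
    refine R.V₀.add_mem (R.V₀.add_mem hv (R.V₀.smul_mem (⟨_, R.f_mem ⟨v, hv⟩ e⟩ : F₀) d.2)) ?_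
    exact R.V₀.smul_mem (⟨_, F₀.sub_mem (F₀.mul_mem (F₀.div_mem (F₀.neg_mem (R.f_mem d d)) h2)
      (R.f_mem ⟨v, hv⟩ e)) (R.f_mem ⟨v, hv⟩ d)⟩ : F₀) e.2
  obtain ⟨g, hgM, hgS⟩ := SetLike.not_le_iff_exists.1 hMS
  obtain ⟨u, hu, hout⟩ : ∃ u : R.V₀, R.Q₀ u = 0 ∧
      ∀ c : F, c ≠ 0 → c • ((g : Matrix ι ι F) *ᵥ (u : ι → F)) ∉ R.V₀ := by
    by_contra hc
    push Not at hc
    obtain ⟨c, hc0, hcv⟩ := R.stab_of_points (by omega) (hMi hgM) hc
    refine hgS ((mem_subfieldSubgroup_iff F₀ P _).2 ⟨c⁻¹, inv_ne_zero hc0, fun v hv => ?_⟩)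
    rw [inv_inv, ← hR]
    exact hcv v (hR ▸ hv)
  have hu0 : u ≠ 0 := fun e => hout 1 one_ne_zero (by
    rw [e, ZeroMemClass.coe_zero, mulVec_zero, smul_zero]; exact R.V₀.zero_mem)
  obtain ⟨x₁, hx₁0, hx₁, l, hl, hl0, hmem⟩ := R.exists_ut_of_move_six hOver hn hθ hθ0 hgM hu hu0 hout
  exact R.utIn_all_five hOver (by omega) hθ hθ0 hx₁0 hx₁ hl hl0 hmem

end Cfsg.Agent.H98.UnitaryOrth

namespace Cfsg.Agent.H58.SUSmall.OrthSix

open Cfsg
open scoped MatrixGroups Matrix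

/-- Orthogonal subfield groups. -/
theorem isMaximalIn_orth_subfield {F : Type*} [Field F] [Fintype F] (n q : ℕ) (hF : Fintype.card F = q ^ 2) (hn : 6 ≤ n) (hodd : Odd q) (F₀ : Subfield F) (hcard : Fintype.card F = Nat.card F₀ ^ 2) (P : Matrix.GeneralLinearGroup (Fin n) F) (hP : Cfsg.Geo.IsFormRationalStructure (Cfsg.hermForm n F q) F₀ 1 P) : Cfsg.Geo.IsMaximalIn (Cfsg.GU n F q ⊓ Cfsg.Geo.specialLinear (Fin n) F) (Cfsg.Geo.subfieldSubgroup F₀ P ⊓ (Cfsg.GU n F q ⊓ Cfsg.Geo.specialLinear (Fin n) F)) := by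
  obtain ⟨σ, hσ, hf⟩ := Cfsg.Agent.Symplectic.isUnitaryForm_hermForm (n := n) hF
  have hq : Nat.card F₀ = q := Nat.pow_left_injective two_ne_zero (hcard.symm.trans hF)
  have hfix : F₀ = Unitary.fixK hF := by
    refine SetLike.coe_injective (Set.eq_of_subset_of_ncard_le (fun x hx => ?_) ?_ (Set.toFinite _))
    · rw [SetLike.mem_coe, Unitary.mem_fixK]
      letI := Fintype.ofFinite F₀
      have := FiniteField.pow_card (⟨x, hx⟩ : F₀)
      rw [← Nat.card_eq_fintype_card, hq] at this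
      exact congrArg Subtype.val this
    · rw [← Nat.card_coe_set_eq, ← Nat.card_coe_set_eq]
      exact ((Unitary.card_fixK hF).le.trans hq.ge)
  have h2 : (2 : F) ≠ 0 := Ring.two_ne_zero fun h => by
    have h1 := FiniteField.even_card_iff_char_two.1 h
    have h3 : Odd (Fintype.card F) := hF ▸ hodd.pow
    rw [Nat.odd_iff] at h3
    omega
  obtain ⟨R, hR⟩ := Cfsg.Agent.H98.UnitaryOrth.exists_oRat (F₀ := F₀) hf h2
    (fun x => by rw [hσ, hfix, Unitary.mem_fixK]) P fun u hu v hv => by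
      have := hP _ _ hu hv
      rwa [Cfsg.Agent.H98.SubfieldOrth.mul_inv_vec, Cfsg.Agent.H98.SubfieldOrth.mul_inv_vec, one_mul] at this
  exact Cfsg.Agent.H98.UnitaryOrth.isMaximalIn_rational_six P R hR (by simp; omega) _ rfl fun M h =>
    Cfsg.Agent.Symplectic.su_le_of_ut hF (by omega) hσ hf h

end Cfsg.Agent.H58.SUSmall.OrthSix
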