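import Cfsg.Agent.H98.UnitaryOrth.Main

/-!
Rational transvections in overgroups of orthogonal subfield groups, from dimension six.
-/

set_option autoImplicit false

namespace Cfsg.Agent.H98.UnitaryOrth

open scoped MatrixGroups Matrix
open Matrix QuadraticMap Module Cfsg.Agent.H95 Cfsg.Agent.Symplectic Cfsg.Agent.Orthogonal
open Cfsg.Agent.H98.SubfieldOrth (exists_hyp exists_hyp_at le_of_singular)

variable {ι : Type} [Fintype ι] [DecidableEq ι] {F : Type*} [Field F] [Finite F]
  {σ : F ≃+* F} {f : (ι → F) → (ι → F) → F} {F₀ : Subfield F}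

namespace ORat

variable {R : ORat σ f F₀} {M : Subgroup (GL ι F)}

section Gen

variable (hM : R.Over M) (hn : 5 ≤ Fintype.card ι)
include hM hn

/-- Rational elements move rational isotropic vectors onto their rational partners. -/
theorem exists_move_five {u v : R.V₀} (hu : R.Q₀ u = 0) (hv : R.Q₀ v = 0) (huv : polar R.Q₀ u v ≠ 0) :
    ∃ k ∈ M, (k : Matrix ι ι F) *ᵥ (u : ι → F) = v := by
  have := R.finiteDimensional
  have hd0 : finrank F₀ R.V₀ = Fintype.card ι := R.finrank_eq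
  set c := polar R.Q₀ u v with hc
  set v' := c⁻¹ • v with hv'
  have hv's : R.Q₀ v' = 0 := by rw [hv', qmap_smul, hv, mul_zero]
  have huv' : polar R.Q₀ u v' = 1 := by rw [hv', polar_smul_right', inv_mul_cancel₀ huv]
  have hW := R.nondeg.finrank_hyperbolic_perp hu hv's huv'
  obtain ⟨⟨d, hdp⟩, hd⟩ := (R.nondeg.nondeg_hyperbolic_perp hu hv's huv').exists_value (by omega) (-c⁻¹)
  change R.Q₀ d = -c⁻¹ at hd
  obtain ⟨hud, hv'd⟩ := (mem_perp_span_pair R.Q₀).1 hdp
  have hvd : polar R.Q₀ v d = 0 := by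
    rw [hv', polar_smul_left'] at hv'd
    exact (mul_eq_zero.1 hv'd).resolve_left (inv_ne_zero huv)
  set ξ := c⁻¹ • u + c⁻¹ • v + d with hξ
  have hξs : R.Q₀ ξ = 0 := by
    simp only [hξ, map_add_polar, qmap_smul, polar_add_left, polar_smul_left', polar_smul_right', hu, hv, hd, hud,
      hvd, ← hc]
    field_simp
    ring
  have huξ : polar R.Q₀ u ξ = 1 := by
    simp only [hξ, polar_add_right, polar_smul_right', polar_self', hu, hud, ← hc]
    field_simp
    ring
  have hvξ : polar R.Q₀ v ξ = 1 := by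
    simp only [hξ, polar_add_right, polar_smul_right', polar_self', hv, hvd, polar_comm (⇑R.Q₀) v u, ← hc]
    field_simp
    ring
  have h := hM.rat ξ (v - u) hξs (by
    rw [polar_sub_right, polar_comm (⇑R.Q₀) ξ v, polar_comm (⇑R.Q₀) ξ u, hvξ, huξ, sub_self])
  refine ⟨_, h.2, ?_⟩
  have h2 := R.two
  have huf : f (u : ι → F) (u : ι → F) = 0 := R.iso_of hu
  have hvf : f (v : ι → F) (v : ι → F) = 0 := R.iso_of hv
  have hswap : f (v : ι → F) (u : ι → F) = f (u : ι → F) (v : ι → F) := by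
    rw [← R.sigma_f u v, u_conj R.herm]
  rw [ue_mulVec R.herm h.1, R.one_of huξ, Submodule.coe_sub]
  simp only [u_sub_left R.herm, u_sub_right R.herm, huf, hvf, hswap]
  match_scalars <;> field_simp <;> ring

/-- A rational transvection is carried to every rational isotropic line. -/
theorem utIn_rat_five {x : R.V₀} (hx0 : x ≠ 0) (hx : R.Q₀ x = 0) {l : F}
    (hl : σ l = -l) (hl0 : l ≠ 0) (hmem : ut R.herm (x : ι → F) l ∈ M) :
    ∀ v : R.V₀, R.Q₀ v = 0 → UtIn R.herm M (v : ι → F) := by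
  have := R.finiteDimensional
  have hd0 : finrank F₀ R.V₀ = Fintype.card ι := R.finrank_eq
  have hxU : UtIn R.herm M (x : ι → F) := by
    intro m hm
    obtain ⟨s, t, hst⟩ := Cfsg.Agent.Orthogonal.exists_sq_add_sq (one_ne_zero' F₀) one_ne_zero
      (⟨m / l, (R.fixed _).1 (by rw [map_div₀, hm, hl, neg_div_neg_eq])⟩ : F₀)
    have hst' : (s : F) ^ 2 + (t : F) ^ 2 = m / l := by
      have := congrArg Subtype.val hst
      simpa using this
    have key : ∀ s : F₀, ut R.herm (x : ι → F) (l * (s : F) ^ 2) ∈ M := fun s => by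
      rcases eq_or_ne s 0 with rfl | hs
      · simp [ut_zero R.herm _ (R.iso_of hx)]
      obtain ⟨f', hf', hxf⟩ := R.nondeg.exists_partner hx0 hx
      obtain ⟨k₁, hk₁, e₁⟩ := exists_move_five hM hn hx hf' (by rw [hxf]; exact one_ne_zero)
      obtain ⟨k₂, hk₂, e₂⟩ := exists_move_five hM hn hf' (v := s • x) (by rw [qmap_smul, hx, mul_zero])
        (by rw [polar_smul_right', polar_comm, hxf, mul_one]; exact hs)
      have hk : k₂ * k₁ ∈ M := M.mul_mem hk₂ hk₁
      have h := M.mul_mem (M.mul_mem hk hmem) (M.inv_mem hk)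
      rw [conj_ut R.herm (hM.le hk) (R.iso_of hx), mul_mulVec, e₁, e₂, R.coe_smul, ut_smul_vec R.herm (R.iso_of hx),
        (R.fixed _).2 s.2, ← pow_two] at h
      exact h
    have := M.mul_mem (key s) (key t)
    rwa [ut_add R.herm (R.iso_of hx), ← mul_add, hst', mul_div_cancel₀ _ hl0] at this
  intro v hv
  have hmove : ∀ u w : R.V₀, R.Q₀ u = 0 → R.Q₀ w = 0 → polar R.Q₀ u w ≠ 0 → UtIn R.herm M (u : ι → F) →
      UtIn R.herm M (w : ι → F) := fun u w hu hw huw hU => by
    obtain ⟨k, hk, e⟩ := exists_move_five hM hn hu hw huw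
    exact e ▸ hU.conj R.herm (R.iso_of hu) hk (hM.le hk)
  rcases eq_or_ne v 0 with rfl | hv0
  · intro m _
    convert M.one_mem
    exact gl_ext fun y => by rw [ut_mulVec R.herm (R.iso_of hv)]; simp
  by_cases hxv : polar R.Q₀ x v = 0
  · obtain ⟨w, hw, hxw, hvw⟩ := exists_common_partner R.nondeg (by omega) hx0 hv0 hx hv
    exact hmove w v hw hv (by rw [polar_comm]; exact hvw) (hmove x w hx hw hxw hxU)
  · exact hmove x v hx hv hxv hxU

/-- All transvections lie in `M` as soon as one rational transvection does. -/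
theorem utIn_all_five {θ : F} (hθ : σ θ = -θ) (hθ0 : θ ≠ 0) {x : R.V₀} (hx0 : x ≠ 0) (hx : R.Q₀ x = 0) {l : F}
    (hl : σ l = -l) (hl0 : l ≠ 0) (hmem : ut R.herm (x : ι → F) l ∈ M) :
    ∀ w : ι → F, f w w = 0 → UtIn R.herm M w := by
  have := R.finiteDimensional
  have hf := R.herm
  have hd0 : finrank F₀ R.V₀ = Fintype.card ι := R.finrank_eq
  have hU := utIn_rat_five hM hn hx0 hx hl hl0 hmem
  intro w hw
  rcases eq_or_ne w 0 with rfl | hw0
  · intro m _
    convert M.one_mem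
    exact gl_ext fun y => by rw [ut_mulVec hf hw]; simp
  -- a rational isotropic vector not orthogonal to w
  obtain ⟨z, hz, hzw⟩ : ∃ z : R.V₀, R.Q₀ z = 0 ∧ f w (z : ι → F) ≠ 0 := by
    by_contra hc
    push Not at hc
    let S : Submodule F₀ R.V₀ :=
      { carrier := {v | f w (v : ι → F) = 0}
        add_mem' := fun {a b} ha hb => by
          show f w ((a + b : R.V₀) : ι → F) = 0
          rw [Submodule.coe_add, u_add_right hf, ha, hb, add_zero]
        zero_mem' := u_zero_right hf w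
        smul_mem' := fun s a ha => by
          show f w ((s • a : R.V₀) : ι → F) = 0
          rw [R.coe_smul, u_smul_right hf, ha, mul_zero] }
    have hS : S = ⊤ := span_singular R.nondeg (by omega) S hc
    exact hw0 (R.eq_zero_of_orth fun v => (hS ▸ Submodule.mem_top : v ∈ S))
  have hz0 : z ≠ 0 := fun h => hzw (by rw [h, ZeroMemClass.coe_zero, u_zero_right hf])
  obtain ⟨y, -, hy, hzy, C, -, hC, hdC, hCz, hCm⟩ :=
    exists_hyp_at R.nondeg (nondeg_restr_top R.nondeg) (x := z) Submodule.mem_top hz0 hz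
  rw [finrank_top] at hdC
  have fzy : f (z : ι → F) (y : ι → F) = 1 := R.one_of hzy
  have fyz : f (y : ι → F) (z : ι → F) = 1 := R.one_of (by rw [polar_comm]; exact hzy)
  have fzz : f (z : ι → F) (z : ι → F) = 0 := R.iso_of hz
  have fyy : f (y : ι → F) (y : ι → F) = 0 := R.iso_of hy
  -- the Eichler elements at z
  have hself : ∀ a : F, ∃ t, UE hf M (z : ι → F) (a • (z : ι → F)) t := fun a => by
    have hok : EichOK hf (z : ι → F) (a • (z : ι → F)) 0 :=
      ⟨fzz, by rw [u_smul_left hf, fzz, mul_zero], by rw [u_smul_left hf, u_smul_right hf, fzz]; simp⟩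
    refine ⟨0, hok, ?_⟩
    have he : ue hf (z : ι → F) (a • (z : ι → F)) 0 = ut hf (z : ι → F) (a - σ a) := by
      refine gl_ext fun q => ?_
      rw [ue_mulVec hf hok, ut_mulVec hf fzz, u_smul_right hf]
      module
    exact he ▸ hU z hz _ (by rw [map_sub, u_inv hf]; ring)
  let S : Submodule F₀ R.V₀ :=
    { carrier := {v | ∀ a : F, ∃ t, UE hf M (z : ι → F) (a • (v : ι → F)) t}
      add_mem' := fun {p r} hp hr a => by
        obtain ⟨t₁, h₁⟩ := hp a
        obtain ⟨t₂, h₂⟩ := hr a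
        exact ⟨_, (h₁.mul h₂).congr rfl (by rw [Submodule.coe_add, smul_add]) rfl⟩
      zero_mem' := fun a => by
        obtain ⟨t, h⟩ := hself 0
        exact ⟨t, h.congr rfl (by simp) rfl⟩
      smul_mem' := fun s v hv a => by
        obtain ⟨t, h⟩ := hv (a * (s : F))
        exact ⟨t, h.congr rfl (by rw [R.coe_smul, smul_smul]) rfl⟩ }
  have hCS : C ≤ S := le_of_singular hC (by omega) S fun v hvC hv a => by
    obtain ⟨c₁, c₂, hc⟩ := R.exists_parts hθ hθ0 a
    have hzv : polar R.Q₀ z v = 0 := (hCz v hvC).1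
    have h1 := hM.root hz (show R.Q₀ (c₁ • v) = 0 by rw [qmap_smul, hv, mul_zero])
      (by rw [polar_smul_right', hzv, mul_zero])
    set v' := c₂ • v with hv'
    have hv's : R.Q₀ v' = 0 := by rw [hv', qmap_smul, hv, mul_zero]
    have hzv' : polar R.Q₀ z v' = 0 := by rw [hv', polar_smul_right', hzv, mul_zero]
    have fvv : f (v' : ι → F) (v' : ι → F) = 0 := R.iso_of hv's
    have fzv : f (z : ι → F) (v' : ι → F) = 0 := R.zero_of hzv'
    have fvz : f (v' : ι → F) (z : ι → F) = 0 := u_symm_zero hf fzv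
    have hzv2 : R.Q₀ (z + v') = 0 := by rw [map_add_polar, hz, hv's, hzv', add_zero, add_zero]
    have fsum : f ((z : ι → F) + (v' : ι → F)) ((z : ι → F) + (v' : ι → F)) = 0 := R.iso_of hzv2
    have hok : EichOK hf (z : ι → F) (θ • (v' : ι → F)) 0 :=
      ⟨fzz, by rw [u_smul_left hf, fvz, mul_zero], by rw [u_smul_left hf, u_smul_right hf, fvv]; simp⟩
    have hθn : σ (-θ) = -(-θ) := by rw [map_neg, hθ]
    have he : ue hf (z : ι → F) (θ • (v' : ι → F)) 0 =
        ut hf ((z + v' : R.V₀) : ι → F) θ * ut hf (z : ι → F) (-θ) * ut hf (v' : ι → F) (-θ) := by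
      refine gl_ext fun q => ?_
      simp only [mul_mulVec, ue_mulVec hf hok, Submodule.coe_add, ut_mulVec hf fsum, ut_mulVec hf fzz, ut_mulVec hf fvv,
        u_add_left hf, u_smul_left hf, u_add_right hf, u_smul_right hf, fzz, fvv, fzv, fvz, hθ]
      module
    have h2 : UE hf M (z : ι → F) (θ • (v' : ι → F)) 0 :=
      ⟨hok, he ▸ M.mul_mem (M.mul_mem (hU _ hzv2 _ hθ) (hU z hz _ hθn)) (hU v' hv's _ hθn)⟩
    refine ⟨_, (h1.mul h2).congr rfl ?_ rfl⟩
    rw [hc, hv', R.coe_smul, R.coe_smul, smul_smul, ← add_smul]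
  let π : (ι → F) → (ι → F) := fun q => q - f q (y : ι → F) • (z : ι → F) - f q (z : ι → F) • (y : ι → F)
  have hπ : ∀ q (a : F), ∃ t, UE hf M (z : ι → F) (a • π q) t := by
    intro q
    have hq : q ∈ Submodule.span F (R.V₀ : Set (ι → F)) := R.span_eq ▸ Submodule.mem_top
    induction hq using Submodule.span_induction with
    | mem p hp =>
      intro a
      obtain ⟨t, ht⟩ := hCS (hCm (⟨p, hp⟩ - polar R.Q₀ ⟨p, hp⟩ y • z - polar R.Q₀ ⟨p, hp⟩ z • y) Submodule.mem_top
        (by simp only [polar_sub_right, polar_smul_right', polar_self', hz, hzy, polar_comm (⇑R.Q₀) z ⟨p, hp⟩]; ring)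
        (by simp only [polar_sub_right, polar_smul_right', polar_self', hy, polar_comm (⇑R.Q₀) y z, hzy,
              polar_comm (⇑R.Q₀) y ⟨p, hp⟩]; ring)) a
      refine ⟨t, ht.congr rfl ?_ rfl⟩
      simp only [π, Submodule.coe_sub, R.coe_smul, R.coe]
    | zero =>
      intro a
      obtain ⟨t, h⟩ := hself 0
      exact ⟨t, h.congr rfl (by simp [π, u_zero_left hf]) rfl⟩
    | add p r _ _ hp hr =>
      intro a
      obtain ⟨t₁, h₁⟩ := hp a
      obtain ⟨t₂, h₂⟩ := hr a
      exact ⟨_, (h₁.mul h₂).congr rfl (by simp only [π, u_add_left hf]; module) rfl⟩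
    | smul s p _ hp =>
      intro a
      obtain ⟨t, h⟩ := hp (a * s)
      exact ⟨t, h.congr rfl (by simp only [π, u_smul_left hf]; module) rfl⟩
  set w' := (f w (z : ι → F))⁻¹ • w with hw'
  have fwz : f w' (z : ι → F) = 1 := by rw [hw', u_smul_left hf, inv_mul_cancel₀ hzw]
  have fww : f w' w' = 0 := by rw [hw', u_smul_left hf, u_smul_right hf, hw]; simp
  set d := w' - (y : ι → F) with hd
  have fdz : f d (z : ι → F) = 0 := by rw [hd, u_sub_left hf, fwz, fyz, sub_self]
  obtain ⟨t₁, h₁⟩ := hπ d 1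
  obtain ⟨t₂, h₂⟩ := hself (f d (y : ι → F))
  have h3 := (h₁.mul h₂).congr (d' := d) rfl (by simp only [π, fdz, one_smul, zero_smul, sub_zero]; abel) rfl
  have hok : EichOK hf (z : ι → F) d (f (y : ι → F) w') := by
    refine ⟨fzz, fdz, ?_⟩
    rw [u_conj hf, hd]
    simp only [u_sub_left hf, u_sub_right hf, fww, fyy]
    ring
  have h4 := ue_shift (R := R) h3 (hU z hz) hok
  have hk : (ue hf (z : ι → F) d (f (y : ι → F) w') : Matrix ι ι F) *ᵥ (y : ι → F) = w' := by
    rw [ue_mulVec hf hok, fyz, hd, u_sub_right hf, fyy]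
    simp
  have hUw : UtIn hf M w' := hk ▸ (hU y hy).conj hf fyy h4.2 (hM.le h4.2)
  have := hUw.smul hf fww (f w (z : ι → F))
  rwa [hw', smul_inv_smul₀ hzw] at this

end Gen

omit [Finite F] in
/-- A rational vector orthogonal to `x` and not to a vector independent of `x`. -/
theorem exists_pairing_vec {x z b : R.V₀} (hxz : polar R.Q₀ x z = 1) (hb : b ≠ polar R.Q₀ b z • x) :
    ∃ c : R.V₀, polar R.Q₀ x c = 0 ∧ polar R.Q₀ b c ≠ 0 := by
  by_contra hc
  push Not at hc
  refine hb (sub_eq_zero.1 (R.nondeg _ fun y => ?_))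
  have h := hc (y - polar R.Q₀ x y • z) (by rw [polar_sub_right, polar_smul_right', hxz, mul_one, sub_self])
  rw [polar_sub_right, polar_smul_right'] at h
  rw [polar_sub_left, polar_smul_left']
  linear_combination h

omit [Finite F] in
/-- Commutators of Eichler elements with one centre are transvections. -/
theorem ut_of_pairing (hM : R.Over M) {x c : R.V₀} (hx : R.Q₀ x = 0) (hxc : polar R.Q₀ x c = 0)
    {d : ι → F} {t : F} (h : UE R.herm M (x : ι → F) d t) :
    ut R.herm (x : ι → F) (f d (c : ι → F) - σ (f d (c : ι → F))) ∈ M := by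
  have hf := R.herm
  set s := -f (c : ι → F) (c : ι → F) / 2
  have hc : UE hf M (x : ι → F) (c : ι → F) s := hM.rat x c hx hxc
  have fxx : f (x : ι → F) (x : ι → F) = 0 := h.1.1
  have e : ue hf (x : ι → F) d t * ue hf (x : ι → F) (c : ι → F) s =
      ue hf (x : ι → F) (c : ι → F) s * ue hf (x : ι → F) d t *
        ut hf (x : ι → F) (f d (c : ι → F) - σ (f d (c : ι → F))) := by
    refine gl_ext fun q => ?_
    simp only [mul_mulVec, ue_mulVec hf h.1, ue_mulVec hf hc.1, ut_mulVec hf fxx, u_add_left hf,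
      u_smul_left hf, fxx, h.1.2.1, hc.1.2.1, u_symm_zero hf h.1.2.1, u_symm_zero hf hc.1.2.1, u_conj hf]
    module
  have := M.mul_mem (M.inv_mem (M.mul_mem hc.2 h.2)) (M.mul_mem h.2 hc.2)
  rwa [e, inv_mul_cancel_left] at this

omit [Finite F] in
/-- The commutator step with a single Eichler element with anisotropic vector. -/
theorem step_single {hf : Cfsg.Geo.IsUnitaryForm σ f} (hMG : M ≤ isoGrp f) {p b x v : ι → F} {t s : F}
    (h : UE hf M p b t) (hT : UE hf M x v s) (hpx : f p x = 0) (hpv : f p v = 0) :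
    UE hf M p ((-(f b x * f v v)) • x) 0 := by
  have e1 : (ue hf x v s : Matrix ι ι F) *ᵥ p = p := by
    rw [ue_mulVec hf hT.1, hpx, hpv]; simp
  have hm := (h.conj hT.2 (hMG hT.2)).congr e1 rfl rfl |>.mul h.inv
  have hm2 := (hm.conj hT.2 (hMG hT.2)).congr e1 rfl rfl |>.mul hm.inv
  have hxx := hT.1.1
  have hvx : f v x = 0 := hT.1.2.1
  have hxv : f x v = 0 := u_symm_zero hf hvx
  have hb := h.1.2.2
  have hs := hT.1.2.2
  refine hm2.congr rfl ?_ ?_
  · simp only [ue_mulVec hf hT.1, u_add_left hf, u_smul_left hf, hxx, hvx, hxv, u_neg_left hf]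
    module
  · simp only [ue_mulVec hf hT.1, u_add_left hf, u_add_right hf, u_smul_left hf,
      u_smul_right hf, hxx, hvx, hxv, u_neg_left hf, u_neg_right hf, map_add, map_sub, map_neg,
      map_mul, map_zero, u_inv hf, u_conj hf]
    linear_combination 2 * hb + (f x b * f b x) * hs

/-- Two commuting rational transvections in a product give one of them. -/
theorem ut_of_product (hM : R.Over M) {a b : R.V₀} (ha : R.Q₀ a = 0) (hb : R.Q₀ b = 0)
    (hab : polar R.Q₀ a b = 0) (hba : ∀ m : F₀, b ≠ m • a) (ha0 : a ≠ 0) {A C : F}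
    (hmem : ut R.herm (a : ι → F) A * ut R.herm (b : ι → F) C ∈ M) :
    ut R.herm (a : ι → F) (C + C) ∈ M := by
  have := R.finiteDimensional
  have hf := R.herm
  obtain ⟨z, -, haz⟩ := R.nondeg.exists_partner ha0 ha
  obtain ⟨c, hac, hbc⟩ := exists_pairing_vec haz (hba _)
  set w := (polar R.Q₀ b c)⁻¹ • c with hw
  have haw : polar R.Q₀ a w = 0 := by rw [hw, polar_smul_right', hac, mul_zero]
  have hbw : f (b : ι → F) (w : ι → F) = 1 := R.one_of (by rw [hw, polar_smul_right', inv_mul_cancel₀ hbc])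
  have faa : f (a : ι → F) (a : ι → F) = 0 := R.iso_of ha
  have fbb : f (b : ι → F) (b : ι → F) = 0 := R.iso_of hb
  have fab : f (a : ι → F) (b : ι → F) = 0 := R.zero_of hab
  have fba : f (b : ι → F) (a : ι → F) = 0 := u_symm_zero hf fab
  have moved : ∀ r : F₀, ut hf (a : ι → F) A * ut hf ((b : ι → F) - (r : F) • (a : ι → F)) C ∈ M := by
    intro r
    have hk := hM.rat a (r • w) ha (by rw [polar_smul_right', haw, mul_zero])
    have h1 := M.mul_mem (M.mul_mem hk.2 hmem) (M.inv_mem hk.2)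
    have hi := hM.le hk.2
    rw [show ∀ k p q : GL ι F, k * (p * q) * k⁻¹ = (k * p * k⁻¹) * (k * q * k⁻¹) from
      fun k p q => by group] at h1
    rw [conj_ut hf hi faa, conj_ut hf hi fbb] at h1
    have fw : f (a : ι → F) ((r • w : R.V₀) : ι → F) = 0 := u_symm_zero hf hk.1.2.1
    have fw' : f (b : ι → F) ((r • w : R.V₀) : ι → F) = (r : F) := by
      rw [R.coe_smul, u_smul_right hf, hbw, mul_one, (R.fixed _).2 r.2]
    simp only [ue_mulVec hf hk.1, faa, fba, fw, fw'] at h1
    simpa [sub_eq_add_neg] using h1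
  have fp : ∀ s : F, f ((b : ι → F) - s • (a : ι → F)) ((b : ι → F) - s • (a : ι → F)) = 0 := fun s => by
    simp [u_sub_left hf, u_sub_right hf, u_smul_left hf, u_smul_right hf, faa, fbb, fab, fba]
  have e : ut hf (a : ι → F) A * ut hf ((b : ι → F) - ((1 : F₀) : F) • (a : ι → F)) C *
        (ut hf (a : ι → F) A * ut hf ((b : ι → F) - ((-1 : F₀) : F) • (a : ι → F)) C) =
      ut hf (a : ι → F) (C + C) * (ut hf (a : ι → F) A * ut hf (b : ι → F) C *
        (ut hf (a : ι → F) A * ut hf (b : ι → F) C)) := by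
    refine gl_ext fun q => ?_
    simp only [mul_mulVec, ut_mulVec hf faa, ut_mulVec hf fbb, ut_mulVec hf (fp _), u_add_left hf,
      u_smul_left hf, u_sub_right hf, u_smul_right hf, u_sub_left hf, faa, fbb, fab, fba,
      OneMemClass.coe_one, NegMemClass.coe_neg, map_neg, map_one]
    module
  have h2 := M.mul_mem (moved 1) (moved (-1))
  rw [e] at h2
  exact (M.mul_mem_cancel_right (M.mul_mem hmem hmem)).1 h2

set_option maxHeartbeats 1600000 in
/-- An element moving a rational isotropic point to an irrational one produces a rational transvection. -/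
theorem exists_ut_of_move_six (hM : R.Over M) (hn : 6 ≤ Fintype.card ι) {θ : F} (hθ : σ θ = -θ) (hθ0 : θ ≠ 0)
    {g : GL ι F} (hg : g ∈ M) {u : R.V₀} (hu : R.Q₀ u = 0) (hu0 : u ≠ 0)
    (hout : ∀ c : F, c ≠ 0 → c • ((g : Matrix ι ι F) *ᵥ (u : ι → F)) ∉ R.V₀) :
    ∃ x₁ : R.V₀, x₁ ≠ 0 ∧ R.Q₀ x₁ = 0 ∧ ∃ l : F, σ l = -l ∧ l ≠ 0 ∧ ut R.herm (x₁ : ι → F) l ∈ M := by
  classical
  have := R.finiteDimensional
  have hd0 : finrank F₀ R.V₀ = Fintype.card ι := R.finrank_eq
  have hf := R.herm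
  have h2 := R.two
  have hgi := hM.le hg
  have hσi : ∀ y, σ (σ y) = y := u_inv hf
  have hθ2 : θ * θ ∈ F₀ := (R.fixed _).1 (by rw [map_mul, hθ]; ring)
  set p := (g : Matrix ι ι F) *ᵥ (u : ι → F) with hp
  obtain ⟨a, b, hab⟩ := R.exists_decomp hθ hθ0 p
  have hb0 : b ≠ 0 := fun e => hout 1 one_ne_zero (by
    rw [one_smul, hab, e, ZeroMemClass.coe_zero, smul_zero, add_zero]; exact a.2)
  have hind : ∀ m : F₀, a ≠ m • b := fun m e => by
    have hne : (m : F) + θ ≠ 0 := fun h0 => by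
      have h1 : θ = -(m : F) := by linear_combination h0
      have h3 := hθ
      rw [h1, map_neg, (R.fixed _).2 m.2] at h3
      exact hθ0 (h1.trans ((mul_eq_zero.1 (show (2 : F) * -(m : F) = 0 by linear_combination h3)).resolve_left h2))
    refine hout _ (inv_ne_zero hne) ?_
    rw [hab, e, R.coe_smul, ← add_smul, inv_smul_smul₀ hne]
    exact b.2
  have hpp : f p p = 0 := by rw [hp, mem_isoGrp.1 hgi]; exact R.iso_of hu
  have hBC : f (a : ι → F) (a : ι → F) = θ * θ * f (b : ι → F) (b : ι → F) := by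
    have := hpp
    rw [hab] at this
    simp only [u_add_left hf, u_add_right hf, u_smul_left hf, u_smul_right hf, hθ] at this
    have hs : f (b : ι → F) (a : ι → F) = f (a : ι → F) (b : ι → F) := by
      rw [← u_conj hf, R.sigma_f]
    rw [hs] at this
    linear_combination this
  -- the Eichler element at a rational point
  have main : ∀ x v : R.V₀, R.Q₀ x = 0 → x ≠ 0 → f (v : ι → F) (v : ι → F) ≠ 0 → polar R.Q₀ x v = 0 →
      f p (x : ι → F) = 0 → f p (v : ι → F) = 0 → ∀ d : R.V₀, polar R.Q₀ u d = 0 →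
      (∀ c : R.V₀, polar R.Q₀ x c = 0 →
        ut R.herm (x : ι → F) (f ((σ (f ((g : Matrix ι ι F) *ᵥ (d : ι → F)) (x : ι → F))) •
          f (v : ι → F) (v : ι → F) • p) (c : ι → F) -
          σ (f ((σ (f ((g : Matrix ι ι F) *ᵥ (d : ι → F)) (x : ι → F))) •
          f (v : ι → F) (v : ι → F) • p) (c : ι → F))) ∈ M) := by
    intro x v hx hx0 hv hxv hpx hpv d hud c hxc
    have hgd := (hM.rat u d hu hud).conj hg hgi
    have h3 := step_single hM.le hgd (hM.rat x v hx hxv) hpx hpv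
    have h4 := h3.swap (R.iso_of hx) (u_symm_zero hf hpx)
    refine ut_of_pairing hM hx hxc (t := 0) (h4.congr rfl ?_ rfl)
    rw [map_neg, map_mul, R.sigma_f v v, neg_neg, smul_smul]
  have finish : ∀ (x : R.V₀) (l : F), x ≠ 0 → R.Q₀ x = 0 → l - σ l ≠ 0 →
      ut R.herm (x : ι → F) (l - σ l) ∈ M →
      ∃ x₁ : R.V₀, x₁ ≠ 0 ∧ R.Q₀ x₁ = 0 ∧ ∃ l : F, σ l = -l ∧ l ≠ 0 ∧ ut R.herm (x₁ : ι → F) l ∈ M :=
    fun x l hx0 hx hl hm => ⟨x, hx0, hx, _, by rw [map_sub, hσi]; ring, hl, hm⟩
  obtain ⟨v₁, hv₁, huv₁⟩ := R.nondeg.exists_partner hu0 hu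
  have anis : ∀ {C : Submodule F₀ R.V₀}, Nondeg (F := F₀) (V := C) (restr R.Q₀ C) → 2 ≤ finrank F₀ C →
      ∃ v ∈ C, f (v : ι → F) (v : ι → F) ≠ 0 := fun {C} hC hd => by
    obtain ⟨⟨v, hv⟩, hq⟩ := hC.exists_value hd 1
    rw [restr_apply] at hq
    refine ⟨v, hv, fun h0 => ?_⟩
    rw [← R.coe, polar_self', hq, Subfield.coe_mul, OneMemClass.coe_one, mul_one] at h0
    exact h2 h0
  have fpc : ∀ c : R.V₀, f p (c : ι → F) = f (a : ι → F) (c : ι → F) + θ * f (b : ι → F) (c : ι → F) :=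
    fun c => by rw [hab, u_add_left hf, u_smul_left hf]
  by_cases hB : f (b : ι → F) (b : ι → F) = 0 ∧ f (a : ι → F) (b : ι → F) = 0
  · -- a totally singular line
    obtain ⟨fbb, fab⟩ := hB
    have faa : f (a : ι → F) (a : ι → F) = 0 := by rw [hBC, fbb, mul_zero]
    have fba : f (b : ι → F) (a : ι → F) = 0 := u_symm_zero hf fab
    have qz : ∀ y : R.V₀, f (y : ι → F) (y : ι → F) = 0 → R.Q₀ y = 0 := fun y h => by
      rw [← R.coe, polar_self', Subfield.coe_mul] at h
      exact Subtype.ext ((mul_eq_zero.1 h).resolve_left h2)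
    have hqb := qz b fbb
    have hqa := qz a faa
    have pab : polar R.Q₀ a b = 0 := Subtype.ext (by rw [R.coe]; exact fab)
    obtain ⟨C₀, hC₀, hdC₀, hC₀p⟩ := R.exists_perp_pair a b
    obtain ⟨v, hvC, hv⟩ := anis hC₀ (by omega)
    have hpb : f p (b : ι → F) = 0 := by rw [fpc, fab, fbb, mul_zero, add_zero]
    have hpv : f p (v : ι → F) = 0 := by
      rw [fpc, R.zero_of (hC₀p v hvC).1, R.zero_of (hC₀p v hvC).2, mul_zero, add_zero]
    obtain ⟨z, -, hbz⟩ := R.nondeg.exists_partner hb0 hqb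
    obtain ⟨c, hbc, hac⟩ := exists_pairing_vec hbz (hind _)
    by_cases hex : ∃ d : R.V₀, polar R.Q₀ u d = 0 ∧
        σ (f ((g : Matrix ι ι F) *ᵥ (d : ι → F)) (b : ι → F)) ≠ f ((g : Matrix ι ι F) *ᵥ (d : ι → F)) (b : ι → F)
    · obtain ⟨d, hud, hd⟩ := hex
      refine finish b _ hb0 hqb ?_ (main b v hqb hb0 hv (hC₀p v hvC).2 hpb hpv d hud c hbc)
      rw [u_smul_left hf, u_smul_left hf, fpc, R.zero_of hbc, mul_zero, add_zero, map_mul, map_mul, hσi,
        R.sigma_f v v, R.sigma_f a c, ← sub_mul]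
      exact mul_ne_zero (sub_ne_zero.2 hd) (mul_ne_zero hv fun h => hac (Subtype.ext (by rw [R.coe]; exact h)))
    push Not at hex
    -- then `g⁻¹ b` is rational modulo `u`
    set w₀ := ((g⁻¹ : GL ι F) : Matrix ι ι F) *ᵥ (b : ι → F) with hw₀
    have hgw : (g : Matrix ι ι F) *ᵥ w₀ = (b : ι → F) := by rw [hw₀, mulVec_inv_mulVec]
    set κ := σ (f (v₁ : ι → F) w₀) with hκ
    obtain ⟨r, r', hrr⟩ := R.exists_decomp hθ hθ0 (w₀ - κ • (u : ι → F))
    have hr' : r' = 0 := R.nondeg _ fun y => by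
      have hd : polar R.Q₀ u (y - polar R.Q₀ u y • v₁) = 0 := by
        rw [polar_sub_right, polar_smul_right', huv₁, mul_one, sub_self]
      have h1 := hex _ hd
      rw [← hgw, mem_isoGrp.1 hgi, Submodule.coe_sub, R.coe_smul, R.coe, u_sub_left hf, u_smul_left hf] at h1
      have h3 : f (y : ι → F) (w₀ - κ • (u : ι → F)) =
          f (y : ι → F) w₀ - f (v₁ : ι → F) w₀ * f (u : ι → F) (y : ι → F) := by
        rw [u_sub_right hf, u_smul_right hf, hκ, hσi, ← R.sigma_f y u, u_conj hf]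
      have h4 : σ (f (y : ι → F) (w₀ - κ • (u : ι → F))) = f (y : ι → F) (w₀ - κ • (u : ι → F)) := by
        rw [h3, mul_comm (f (v₁ : ι → F) w₀)]; exact h1
      rw [hrr, u_add_right hf, u_smul_right hf, map_add, map_mul, R.sigma_f, R.sigma_f, hσi, hθ] at h4
      have h5 : (2 : F) * θ * f (y : ι → F) (r' : ι → F) = 0 := by linear_combination h4
      rw [polar_comm]
      exact Subtype.ext (by rw [R.coe]; exact (mul_eq_zero.1 h5).resolve_left (mul_ne_zero h2 hθ0))
    rw [hr', ZeroMemClass.coe_zero, smul_zero, add_zero] at hrr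
    have fub : f (u : ι → F) w₀ = 0 := by
      rw [← mem_isoGrp.1 hgi, hgw, ← hp, hpb]
    have fww : f w₀ w₀ = 0 := by rw [← mem_isoGrp.1 hgi, hgw, fbb]
    have hru : polar R.Q₀ u r = 0 := Subtype.ext (by
      rw [R.coe, ← hrr, u_sub_right hf, u_smul_right hf, fub, R.iso_of hu, mul_zero, sub_zero,
        ZeroMemClass.coe_zero])
    have hrq : R.Q₀ r = 0 := qz r (by
      rw [← hrr]
      simp only [u_sub_left hf, u_sub_right hf, u_smul_left hf, u_smul_right hf, fub, u_symm_zero hf fub,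
        fww, R.iso_of hu]
      ring)
    have hgr := (hM.root hu hrq hru).conj hg hgi
    set q := (b : ι → F) - κ • p with hq
    have hgr' : UE hf M p q 0 := hgr.congr rfl (by rw [← hrr, mulVec_sub, mulVec_smul, hgw]) rfl
    set K := σ κ - κ with hK
    have hKs : σ K = -K := by rw [hK, map_sub, hσi]; ring
    have hJ : -(1 + θ * K) ∈ F₀ := (R.fixed _).1 (by rw [map_neg, map_add, map_one, map_mul, hθ, hKs]; ring)
    have hab' := hM.root hqa (show R.Q₀ ((⟨_, hJ⟩ : F₀) • b) = 0 by rw [qmap_smul, hqb, mul_zero])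
      (by rw [polar_smul_right', pab, mul_zero])
    set C := -2 * θ - θ * θ * K with hC
    have hCs : σ C = -C := by rw [hC]; simp only [map_sub, map_mul, map_neg, map_ofNat, hθ, hKs]; ring
    have e : ue hf p q 0 * ue hf (a : ι → F) ((( ⟨_, hJ⟩ : F₀) • b : R.V₀) : ι → F) 0 =
        ut hf (a : ι → F) K * ut hf (b : ι → F) C := by
      refine gl_ext fun y => ?_
      have hpr : f (a : ι → F) p = 0 := u_symm_zero hf (by rw [fpc, faa, fba, mul_zero, add_zero])
      simp only [mul_mulVec, ue_mulVec hf hgr'.1, ue_mulVec hf hab'.1, ut_mulVec hf faa, ut_mulVec hf fbb]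
      simp only [hq, hab, R.coe_smul, u_add_left hf, u_smul_left hf, u_add_right hf, u_sub_right hf,
        u_smul_right hf, faa, fbb, fab, fba, map_neg, map_add, map_one, map_mul, hθ, hKs]
      rw [hC, hK]
      module
    have hE : ut hf (a : ι → F) K * ut hf (b : ι → F) C ∈ M := e ▸ M.mul_mem hgr'.2 hab'.2
    rcases eq_or_ne K 0 with hK0 | hK0
    · rw [hK0, ut_zero hf _ faa, one_mul] at hE
      refine ⟨b, hb0, hqb, C, hCs, ?_, hE⟩
      rw [hC, hK0, mul_zero, sub_zero]
      exact mul_ne_zero (neg_ne_zero.2 h2) hθ0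
    have ha0 : a ≠ 0 := fun e => hind 0 (by rw [e, zero_smul])
    rcases eq_or_ne C 0 with hC0 | hC0
    · rw [hC0, ut_zero hf _ fbb, mul_one] at hE
      exact ⟨a, ha0, hqa, K, hKs, hK0, hE⟩
    refine ⟨a, ha0, hqa, C + C, by rw [map_add, hCs]; ring, ?_,
      ut_of_product hM hqa hqb pab (fun m e => ?_) ha0 hE⟩
    · rw [← two_mul]; exact mul_ne_zero h2 hC0
    · rcases eq_or_ne m 0 with rfl | hm
      · exact hb0 (by rw [e, zero_smul])
      · exact hind m⁻¹ (by rw [e, inv_smul_smul₀ hm])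
  -- a nondegenerate plane
  set U := Submodule.span F₀ ({a, b} : Set R.V₀) with hU
  set W := perp R.Q₀ U with hW
  have hnot : ∀ y : R.V₀, y ∈ U → y ∈ W → y = 0 := by
    intro y hyU hyW
    obtain ⟨m, k, rfl⟩ := Submodule.mem_span_pair.1 hyU
    obtain ⟨e1, e2⟩ := (mem_perp_span_pair R.Q₀).1 hyW
    have e1' := R.zero_of e1
    have e2' := R.zero_of e2
    simp only [Submodule.coe_add, R.coe_smul, u_add_right hf, u_smul_right hf, (R.fixed _).2 m.2,
      (R.fixed _).2 k.2, hBC] at e1' e2'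
    have hs : f (b : ι → F) (a : ι → F) = f (a : ι → F) (b : ι → F) := by rw [← u_conj hf, R.sigma_f]
    rw [hs] at e2'
    set B := f (b : ι → F) (b : ι → F)
    set C := f (a : ι → F) (b : ι → F)
    have hdet : θ * θ * B * B - C * C ≠ 0 := fun h0 => by
      have h1 : (θ * B - C) * (θ * B + C) = 0 := by linear_combination h0
      have hB0 : B = 0 := by
        by_contra hB0
        have : σ (θ * B) = -(θ * B) := by rw [map_mul, hθ, R.sigma_f b b]; ring
        rcases mul_eq_zero.1 h1 with h | h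
        · rw [sub_eq_zero.1 h, R.sigma_f a b] at this
          exact mul_ne_zero hθ0 hB0 ((sub_eq_zero.1 h).trans
            ((mul_eq_zero.1 (show (2 : F) * C = 0 by linear_combination this)).resolve_left h2))
        · rw [eq_neg_of_add_eq_zero_left h, map_neg, R.sigma_f a b] at this
          refine mul_ne_zero hθ0 hB0 ((eq_neg_of_add_eq_zero_left h).trans ?_)
          rw [(mul_eq_zero.1 (show (2 : F) * C = 0 by linear_combination -this)).resolve_left h2, neg_zero]
      refine hB ⟨hB0, ?_⟩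
      rw [hB0] at h0
      exact mul_self_eq_zero.1 (by linear_combination -h0)
    have hm : (m : F) * (θ * θ * B * B - C * C) = 0 := by linear_combination B * e1' - C * e2'
    have hk : (k : F) * (θ * θ * B * B - C * C) = 0 := by linear_combination θ * θ * B * e2' - C * e1'
    have hm0 : m = 0 := Subtype.ext ((mul_eq_zero.1 hm).resolve_right hdet)
    have hk0 : k = 0 := Subtype.ext ((mul_eq_zero.1 hk).resolve_right hdet)
    rw [hm0, hk0, zero_smul, zero_smul, add_zero]
  have hWn : Nondeg (F := F₀) (V := W) (restr R.Q₀ W) := by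
    rw [nondeg_restr_iff]
    refine eq_bot_iff.2 fun y hy => (Submodule.mem_bot F₀).2 (hnot y ?_ hy.1)
    have := hy.2
    rwa [hW, R.nondeg.perp_perp] at this
  have hWd : 4 ≤ finrank F₀ W := by
    have h1 := R.nondeg.finrank_add_perp U
    have h4 : finrank F₀ U ≤ 2 := by
      refine (finrank_span_le_card ({a, b} : Set R.V₀)).trans ?_
      rw [Set.toFinset_insert, Set.toFinset_singleton]
      exact Finset.card_le_two
    rw [← hW] at h1
    omega
  obtain ⟨x, hxW, z, -, hqx, -, hxz, hx0, C₁, hC₁W, hC₁, hdC₁, hC₁x⟩ := exists_hyp R.nondeg hWn (by omega)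
  obtain ⟨v, hvC, hv⟩ := anis hC₁ (by omega)
  have hperp : ∀ c ∈ W, f p (c : ι → F) = 0 := fun c hc => by
    obtain ⟨e1, e2⟩ := (mem_perp_span_pair R.Q₀).1 hc
    rw [fpc, R.zero_of e1, R.zero_of e2, mul_zero, add_zero]
  obtain ⟨d, hud, hβ⟩ : ∃ d : R.V₀, polar R.Q₀ u d = 0 ∧
      f ((g : Matrix ι ι F) *ᵥ (d : ι → F)) (x : ι → F) ≠ 0 := by
    by_contra hc
    push Not at hc
    set r := ((g⁻¹ : GL ι F) : Matrix ι ι F) *ᵥ (x : ι → F) with hr
    have hgr : (g : Matrix ι ι F) *ᵥ r = (x : ι → F) := by rw [hr, mulVec_inv_mulVec]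
    have hrd : ∀ d : R.V₀, polar R.Q₀ u d = 0 → f r (d : ι → F) = 0 := fun d hd => by
      rw [← mem_isoGrp.1 hgi, hgr, u_symm_zero hf (hc d hd)]
    set k := f r (v₁ : ι → F) with hk
    have h0 : r - k • (u : ι → F) = 0 := R.eq_zero_of_orth fun v => by
      have hd : polar R.Q₀ u (v - polar R.Q₀ u v • v₁) = 0 := by
        rw [polar_sub_right, polar_smul_right', huv₁, mul_one, sub_self]
      have h1 := hrd _ hd
      rw [Submodule.coe_sub, R.coe_smul, R.coe, u_sub_right hf, u_smul_right hf, R.sigma_f, ← hk] at h1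
      rw [u_sub_left hf, u_smul_left hf]
      linear_combination h1
    have hxp : (x : ι → F) = k • p := by
      rw [← hgr, sub_eq_zero.1 h0, mulVec_smul, hp]
    rcases eq_or_ne k 0 with hk0 | hk0
    · exact hx0 (Subtype.ext (by rw [hxp, hk0, zero_smul]; rfl))
    · exact hout k hk0 (hxp ▸ x.2)
  set γ := σ (f ((g : Matrix ι ι F) *ᵥ (d : ι → F)) (x : ι → F)) * f (v : ι → F) (v : ι → F) with hγ
  have hγ0 : γ ≠ 0 := mul_ne_zero (fun e => hβ ((map_eq_zero_iff σ σ.injective).1 e)) hv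
  obtain ⟨c₁, c₂, hc⟩ := R.exists_parts hθ hθ0 γ
  set b' := c₁ • b + c₂ • a with hb'
  have hb'0 : b' ≠ 0 := fun e => by
    have hc2 : c₂ = 0 := by
      by_contra hc2
      refine hind (-(c₂⁻¹ * c₁)) ?_
      rw [hb', add_comm, add_eq_zero_iff_eq_neg] at e
      calc a = c₂⁻¹ • (c₂ • a) := (inv_smul_smul₀ hc2 a).symm
        _ = -(c₂⁻¹ * c₁) • b := by rw [e, neg_smul (c₂⁻¹ * c₁) b, smul_neg, mul_smul]
    rw [hb', hc2, zero_smul, add_zero, smul_eq_zero] at e
    exact hγ0 (by rw [hc, hc2, e.resolve_right hb0]; simp)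
  obtain ⟨c, hxc, hbc⟩ := exists_pairing_vec hxz (b := b') fun e => by
    have hbU : b' ∈ U := hb' ▸ U.add_mem (U.smul_mem _ (Submodule.subset_span (by simp)))
      (U.smul_mem _ (Submodule.subset_span (by simp)))
    exact hb'0 (hnot b' hbU (by rw [e]; exact W.smul_mem _ hxW))
  refine finish x _ hx0 hqx ?_ (main x v hqx hx0 hv (hC₁x v hvC).1 (hperp x hxW) (hperp v (hC₁W hvC)) d hud c hxc)
  rw [smul_smul, ← hγ, u_smul_left hf, fpc, hc, map_mul, map_add, map_add, map_mul, map_mul,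
    (R.fixed _).2 c₁.2, (R.fixed _).2 c₂.2, hθ, R.sigma_f, R.sigma_f]
  intro h0
  refine mul_ne_zero (mul_ne_zero h2 hθ0) (fun h => hbc (Subtype.ext (by rw [R.coe]; exact h))) ?_
  simp only [hb', Submodule.coe_add, R.coe_smul, u_add_left hf, u_smul_left hf]
  linear_combination h0

end ORat

end Cfsg.Agent.H98.UnitaryOrth
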