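import Cfsg.Agent.S5653
import Cfsg.Agent.S5657
import Cfsg.Agent.S5660
import Cfsg.Agent.H58.SUSmall.NondegSpace

/-!
Geometric maximal subgroups of `SU` in small even dimension: classes one, two and five.
-/

set_option autoImplicit false
open Cfsg

namespace Cfsg.Agent.H58.SUSmall.Rows

open scoped MatrixGroups Matrix
open Matrix Cfsg.Agent.H95 Cfsg.Agent.Symplectic

/-- Totally isotropic subspaces. -/
theorem isMaximalIn_tiSpace {F : Type*} [Field F] [Fintype F] (n q : ℕ) (hF : Fintype.card F = q ^ 2) (hn : 5 ≤ n) (W : Submodule F (Fin n → F)) (hW0 : W ≠ ⊥) (hW : Cfsg.Geo.IsTotallySingularFor (Cfsg.hermForm n F q) W) : Cfsg.Geo.IsMaximalIn (Cfsg.GU n F q ⊓ Cfsg.Geo.specialLinear (Fin n) F) (Cfsg.Geo.subspaceStabilizer W ⊓ (Cfsg.GU n F q ⊓ Cfsg.Geo.specialLinear (Fin n) F)) := by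
  obtain ⟨σ, hσ, hf⟩ := isUnitaryForm_hermForm (n := n) hF
  exact Cfsg.Agent.S5653.main hF hf _ rfl (fun M h => su_le_of_ut hF (by omega) hσ hf h) W hW0 hW

/-- Two totally isotropic halves. -/
theorem isMaximalIn_tiDec {F : Type*} [Field F] [Fintype F] (n q : ℕ) (hF : Fintype.card F = q ^ 2) (hn : 10 ≤ n) (k : ℕ) (hk : 2 * k = n) (D : Fin 2 → Submodule F (Fin n → F)) (hD : Cfsg.Geo.IsMDecomposition k D) (hts : ∀ i, Cfsg.Geo.IsTotallySingularFor (Cfsg.hermForm n F q) (D i)) : Cfsg.Geo.IsMaximalIn (Cfsg.GU n F q ⊓ Cfsg.Geo.specialLinear (Fin n) F) (Cfsg.Geo.decompositionStabilizer D ⊓ (Cfsg.GU n F q ⊓ Cfsg.Geo.specialLinear (Fin n) F)) := by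
  obtain ⟨σ, hσ, hf⟩ := isUnitaryForm_hermForm (n := n) hF
  exact Cfsg.Agent.S5657.main (by omega) (by simp; omega) hf D hD hts _ rfl
    fun M h => su_le_of_ut hF (by omega) hσ hf h

/-- Non-degenerate subspaces. -/
theorem isMaximalIn_nondeg {F : Type*} [Field F] [Fintype F] (n q : ℕ) (hF : Fintype.card F = q ^ 2) (hn : 6 ≤ n) (W : Submodule F (Fin n → F)) (hW0 : W ≠ ⊥) (hW : Cfsg.Geo.IsNondegenerateOn (Cfsg.hermForm n F q) W) (hdim : 2 * Module.finrank F W < n) : Cfsg.Geo.IsMaximalIn (Cfsg.GU n F q ⊓ Cfsg.Geo.specialLinear (Fin n) F) (Cfsg.Geo.subspaceStabilizer W ⊓ (Cfsg.GU n F q ⊓ Cfsg.Geo.specialLinear (Fin n) F)) := by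
  obtain ⟨σ, hσ, hf⟩ := isUnitaryForm_hermForm (n := n) hF
  refine NondegSpace.isMaximalIn_nondegSpace hF hf hn _ rfl (fun M h => su_le_of_ut hF (by omega) hσ hf h) W hW0 ?_ hdim
  intro u hu h
  by_contra h0
  obtain ⟨x, hx, hne⟩ := (hW u hu h0).2
  exact hne (h x hx)

/-- Symplectic subfield groups. -/
theorem isMaximalIn_symp_subfield {F : Type*} [Field F] [Fintype F] (n q : ℕ) (hF : Fintype.card F = q ^ 2) (hn : 6 ≤ n) (heven : Even n) (F₀ : Subfield F) (hcard : Fintype.card F = Nat.card F₀ ^ 2) (ζ : F) (hζ0 : ζ ≠ 0) (hζ : ζ + ζ ^ q = 0) (P : Matrix.GeneralLinearGroup (Fin n) F) (hP : Cfsg.Geo.IsFormRationalStructure (Cfsg.hermForm n F q) F₀ ζ P) (halt : ∀ u : Fin n → F, (∀ i, u i ∈ F₀) → Cfsg.hermForm n F q (Matrix.mulVec (P : Matrix (Fin n) (Fin n) F) u) (Matrix.mulVec (P : Matrix (Fin n) (Fin n) F) u) = 0) : Cfsg.Geo.IsMaximalIn (Cfsg.GU n F q ⊓ Cfsg.Geo.specialLinear (Fin n) F) (Cfsg.Geo.subfieldSubgroup F₀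 P ⊓ (Cfsg.GU n F q ⊓ Cfsg.Geo.specialLinear (Fin n) F)) := by
  obtain ⟨σ, hσ, hf⟩ := isUnitaryForm_hermForm (n := n) hF
  have hq : Nat.card F₀ = q := Nat.pow_left_injective two_ne_zero (hcard.symm.trans hF)
  have hfix : F₀ = Unitary.fixK hF := by
    refine SetLike.coe_injective (Set.eq_of_subset_of_ncard_le (fun x hx => ?_) ?_ (Set.toFinite _))
    · rw [SetLike.mem_coe, Unitary.mem_fixK]
      letI := Fintype.ofFinite F₀
      have := FiniteField.pow_card (⟨x, hx⟩ : F₀)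
      rw [← Nat.card_eq_fintype_card, hq] at this
      exact congrArg Subtype.val this
    · rw [← Nat.card_coe_set_eq, ← Nat.card_coe_set_eq]
      exact ((Unitary.card_fixK hF).le.trans hq.ge)
  have H : HAlt σ (Cfsg.hermForm n F q) F₀ ζ P :=
    { herm := hf
      fixed := fun x => by rw [hσ, hfix, Unitary.mem_fixK]
      zeta := by rw [hσ]; linear_combination hζ
      zeta_ne := hζ0
      rat := fun u hu v hv => by
        have := hP _ _ hu hv
        rwa [mulVec_inv_mulVec, mulVec_inv_mulVec] at this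
      alt := fun u hu => by
        have := halt _ hu
        rwa [mulVec_inv_mulVec] at this }
  exact Cfsg.Agent.S5660.main (by simp; omega) H _ rfl fun M h => su_le_of_ut hF (by omega) hσ hf h

end Cfsg.Agent.H58.SUSmall.Rows
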