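import Cfsg.Agent.S5658

/-!
Odd-degree subfield groups are maximal in `SU` from dimension eight.
-/

set_option autoImplicit false
open Cfsg

namespace Cfsg.Agent.Symplectic

open scoped MatrixGroups Matrix
open Matrix Cfsg.Agent.H95

variable {ι : Type} [Fintype ι] [DecidableEq ι] {F : Type*} [Field F]
  {σ : F ≃+* F} {f : (ι → F) → (ι → F) → F} {F₀ : Subfield F} {V : AddSubgroup (ι → F)}
  {M : Subgroup (GL ι F)}

namespace HSub

variable (H : HSub σ f F₀ V) (hO : H.Over M)
include hO

/-- Either all of `M` stabilises `V` up to scalars or there is a new parameter. -/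
theorem exists_new_eight [Finite F] (hn : 8 ≤ Fintype.card ι) {g : GL ι F} (hg : g ∈ M)
    (hgS : ¬ ∃ c : F, c ≠ 0 ∧ ∀ v ∈ V, c • ((g : Matrix ι ι F) *ᵥ v) ∈ V) :
    ∃ a, H.Par M a ∧ a ∉ F₀ := by
  by_contra hA
  push Not at hA
  have hf := H.herm
  have no : ∀ h ∈ M, (¬ ∃ c : F, c ≠ 0 ∧ ∀ v ∈ V, c • ((h : Matrix ι ι F) *ᵥ v) ∈ V) →
      ∀ u v, H.Iso0 u → H.Iso0 v → f ((h : Matrix ι ι F) *ᵥ v) u ≠ 0 := by
    intro h hh hS u v hu hv h0
    exact hS (H.exists_scalar hO (by omega) hh fun v' hv' =>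
      H.rational_all hO hA (by omega) hh hv hv'
        (H.orth_rational hO hA (by omega) hh hv hu h0))
  have toStab : ∀ z ∈ M, z * z = 1 →
      (∃ c : F, c ≠ 0 ∧ ∀ v ∈ V, c • ((z : Matrix ι ι F) *ᵥ v) ∈ V) → H.Stab z :=
    fun z _ hz ⟨c, hc, hcV⟩ => H.stab_of_scalar (by omega) hz hc hcV
  have hgi := H.iso_of_mem hO hg
  by_cases h2 : (2 : F) = 0
  · obtain ⟨e, he, -⟩ := H.isProj_id.exists_iso H (by omega)
    obtain ⟨w, d, hw, hd, we, de, dw⟩ := H.exists_indep he (by omega)
    obtain ⟨s, hs, hs0, hss⟩ := H.skew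
    have hsq : ∀ v, f v v = 0 → ut hf v s * ut hf v s = 1 := fun v hv => by
      rw [ut_add hf hv, show s + s = 0 by linear_combination s * h2, ut_zero hf v hv]
    set R := ut hf e s with hR
    set t := ut hf e s * ut hf w s with ht
    have RM : R ∈ M := H.ut_rat hO he.1 he.2.2 hs hss
    have tM : t ∈ M := M.mul_mem RM (H.ut_rat hO hw.1 hw.2.2 hs hss)
    have tV : H.Stab t := fun v hv => by
      rw [ht, mul_mulVec, ut_mulVec hf he.2.2, ut_mulVec hf hw.2.2]
      have := V.add_mem hv (H.smul _ (F₀.mul_mem hs (H.rat v hv w hw.1)) w hw.1)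
      exact V.add_mem this (H.smul _ (F₀.mul_mem hs (H.rat _ this e he.1)) e he.1)
    have hcomm : Commute (ut hf e s) (ut hf w s) := gl_ext fun x => by
      simp only [mul_mulVec, ut_mulVec hf he.2.2, ut_mulVec hf hw.2.2, u_add_left hf,
        u_smul_left hf, we, u_symm_zero hf we]
      module
    have tsq : t * t = 1 := by
      rw [ht, hcomm.symm.mul_mul_mul_comm, hsq e he.2.2, hsq w hw.2.2, one_mul]
    have ew : ∀ c : F, e ≠ c • w := fun c hc => by
      have := congrArg (fun v => f d v) hc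
      simp only [u_smul_right hf, dw, mul_one, de] at this
      exact he.2.1 (by rw [hc, (map_eq_zero_iff σ σ.injective).1 this.symm, zero_smul])
    have t2 : 2 ≤ resDim t := by
      obtain ⟨e', he', -, e'e, -⟩ := H.partner he.1 he.2.1 he.2.2
      have m1 := mem_resSp t d
      have m2 := mem_resSp t e'
      rw [ht, mul_mulVec, ut_mulVec hf he.2.2, ut_mulVec hf hw.2.2, u_add_left hf, u_smul_left hf,
        we, de, dw] at m1
      rw [ht, mul_mulVec, ut_mulVec hf he.2.2, ut_mulVec hf hw.2.2, u_add_left hf, u_smul_left hf,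
        we, e'e] at m2
      have hwm : w ∈ resSp t := by
        have := (resSp t).smul_mem s⁻¹ m1
        convert this using 1
        match_scalars <;> field_simp <;> ring
      have hem : e ∈ resSp t := by
        have := (resSp t).smul_mem s⁻¹ ((resSp t).sub_mem m2
          ((resSp t).smul_mem (s * f e' w) hwm))
        convert this using 1
        match_scalars <;> field_simp <;> ring
      have hli : LinearIndependent F ![e, w] := by
        rw [LinearIndependent.pair_iff]
        intro a b hab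
        rcases eq_or_ne a 0 with rfl | ha
        · rw [zero_smul, zero_add, smul_eq_zero] at hab
          exact ⟨rfl, hab.resolve_right hw.2.1⟩
        · refine absurd ?_ (ew (-a⁻¹ * b))
          rw [mul_smul, neg_smul, eq_neg_iff_add_eq_zero, ← inv_smul_smul₀ ha e, ← smul_add, hab,
            smul_zero]
      have := Submodule.finrank_mono (show Submodule.span F (Set.range ![e, w]) ≤ resSp t by
        rw [Submodule.span_le]; rintro _ ⟨i, rfl⟩; fin_cases i <;> assumption)
      rw [finrank_span_eq_card hli, Fintype.card_fin] at this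
      exact this
    have R1 : resDim R ≤ 1 := by
      refine (Submodule.finrank_mono (resSp_le (W := F ∙ e) fun x => ?_)).trans
        ((finrank_span_le_card ({e} : Set (ι → F))).trans (by simp))
      rw [hR, ut_mulVec hf he.2.2, add_sub_cancel_left]
      exact Submodule.mem_span_singleton.2 ⟨_, rfl⟩
    set R' := g * R * g⁻¹ with hR'
    have R'M : R' ∈ M := M.mul_mem (M.mul_mem hg RM) (M.inv_mem hg)
    have R'sq : R' * R' = 1 := by
      calc R' * R' = g * (R * R) * g⁻¹ := by rw [hR']; group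
        _ = 1 := by rw [hR, hsq e he.2.2]; group
    obtain ⟨z, hz, hz1, hzt, hzR, -⟩ := exists_invol_commute (t := (⟨t, tM⟩ : M))
      (t' := ⟨R', R'M⟩) (Subtype.ext tsq) (Subtype.ext R'sq) fun k hk => by
        have := congrArg (fun k : M => resDim (k : GL ι F)) hk
        simp only [Subgroup.coe_mul, Subgroup.coe_inv, hR', resDim_conj] at this
        omega
    have zt : (z : GL ι F) * t = t * z := congrArg Subtype.val hzt.eq
    have zR : (z : GL ι F) * R' = R' * z := congrArg Subtype.val hzR.eq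
    have hz' : (z : GL ι F) * z = 1 := congrArg Subtype.val hz
    have tne : t ≠ 1 := fun e => by
      rw [e] at t2
      have : resSp (1 : GL ι F) = ⊥ := le_bot_iff.1 (resSp_le fun x => by simp)
      rw [resDim, this, finrank_bot] at t2
      omega
    have zS : H.Stab z := toStab _ z.2 hz' <| by
      by_contra hS
      refine H.no_invol_two h2 (H.iso_of_mem hO z.2) (no _ z.2 hS) tsq (H.iso_of_mem hO tM) tV
        ?_ tne
      rwa [mul_assoc, ← zt, inv_mul_cancel_left]
    set z' := g⁻¹ * (z : GL ι F) * g with hz'def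
    have z'M : z' ∈ M := M.mul_mem (M.mul_mem (M.inv_mem hg) z.2) hg
    have z'sq : z' * z' = 1 := by
      calc z' * z' = g⁻¹ * ((z : GL ι F) * z) * g := by rw [hz'def]; group
        _ = 1 := by rw [hz']; group
    have z'R : z' * R = R * z' := by
      calc z' * R = g⁻¹ * ((z : GL ι F) * R') * g := by rw [hz'def, hR']; group
        _ = g⁻¹ * (R' * z) * g := by rw [zR]
        _ = R * z' := by rw [hz'def, hR']; group
    have RV : H.Stab R := fun v hv => by
      rw [hR, ut_mulVec hf he.2.2]
      exact V.add_mem hv (H.smul _ (F₀.mul_mem hs (H.rat v hv e he.1)) e he.1)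
    have z'S : H.Stab z' := toStab _ z'M z'sq <| by
      by_contra hS
      refine H.no_invol_two h2 (H.iso_of_mem hO z'M) (no _ z'M hS) (hsq e he.2.2)
        (H.iso_of_mem hO RM) RV (z := R) ?_ ?_
      · rwa [mul_assoc, ← z'R, inv_mul_cancel_left]
      · intro e1
        have := congrArg (fun k : GL ι F => (k : Matrix ι ι F) *ᵥ d) e1
        obtain ⟨e', he', -, e'e, -⟩ := H.partner he.1 he.2.1 he.2.2
        have h3 := congrArg (fun k : GL ι F => (k : Matrix ι ι F) *ᵥ e') e1
        simp only [hR, ut_mulVec hf he.2.2, e'e, mul_one, Units.val_one, one_mulVec,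
          add_eq_left, smul_eq_zero] at h3
        exact h3.elim hs0 he.2.1
    exact H.no_invol_two h2 hgi (no g hg hgS) hz' (H.iso_of_mem hO z.2) zS z'S
      fun e => hz1 (Subtype.ext e)
  · obtain ⟨x, hx, hxo⟩ := H.exists_frame (m := 4) H.isProj_id (by omega)
    have fact := fun i => H.refl_facts (hx i).1 (hx i).2.2
    set r := fun i => H.refl (x i) (hx i).2.2 with hr
    have cm : ∀ {i j : Fin 4}, i ≠ j → Commute (r i) (r j) := fun hij =>
      H.refl_comm (hx _).2.2 (hx _).2.2 (hxo hij)
    set t := r 0 * r 1 with ht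
    set t4 := r 0 * r 1 * (r 2 * r 3) with ht4
    have sq2 : ∀ {i j : Fin 4}, i ≠ j → r i * r j * (r i * r j) = 1 := fun hij => by
      rw [(cm hij).symm.mul_mul_mul_comm, (fact _).1, (fact _).1, one_mul]
    have tsq : t * t = 1 := sq2 (by decide)
    have t4sq : t4 * t4 = 1 := by
      have : Commute (r 0 * r 1) (r 2 * r 3) :=
        Commute.mul_left ((cm (by decide)).mul_right (cm (by decide)))
          ((cm (by decide)).mul_right (cm (by decide)))
      rw [ht4, this.symm.mul_mul_mul_comm, sq2 (by decide), sq2 (by decide), one_mul]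
    have sl2 : ∀ i j : Fin 4, r i * r j ∈ isoGrp f ⊓ Geo.specialLinear ι F := fun i j =>
      ⟨Subgroup.mul_mem _ (fact i).2.1 (fact j).2.1, by
        show Matrix.GeneralLinearGroup.det (r i * r j) = 1
        refine Units.ext ?_
        rw [Matrix.GeneralLinearGroup.val_det_apply, Units.val_mul, det_mul, (fact i).2.2.2.1,
          (fact j).2.2.2.1, Units.val_one]
        norm_num⟩
    have st2 : ∀ i j : Fin 4, H.Stab (r i * r j) := fun i j v hv => by
      rw [mul_mulVec]; exact (fact i).2.2.1 _ ((fact j).2.2.1 v hv)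
    have t4V : H.Stab t4 := fun v hv => by
      rw [ht4, mul_mulVec]; exact st2 0 1 _ (st2 2 3 v hv)
    have tV : H.Stab t := st2 0 1
    have tM : t ∈ M := hO.2 _ (sl2 0 1) tV
    have t4M : t4 ∈ M := hO.2 _ (Subgroup.mul_mem _ (sl2 0 1) (sl2 2 3)) t4V
    have hli : LinearIndependent F x := by
      rw [Fintype.linearIndependent_iff]
      intro c hc i
      let L : (ι → F) →ₗ[F] F :=
        { toFun := fun y => f y (x i)
          map_add' := fun y z => u_add_left hf y z _
          map_smul' := fun c y => u_smul_left hf c y _ }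
      have h1 := congrArg L hc
      rw [map_sum, map_zero, Finset.sum_eq_single i] at h1
      · rw [map_smul, smul_eq_mul] at h1
        exact (mul_eq_zero.1 h1).resolve_right (hx i).2.2
      · intro j _ hji
        rw [map_smul, show L (x j) = 0 from hxo hji, smul_zero]
      · simp
    have rneg : ∀ i, (r i : Matrix ι ι F) *ᵥ x i = -x i := fun i => by
      simp only [hr]
      rw [H.refl_mulVec, mul_div_assoc, div_self (hx i).2.2, mul_one, two_smul]; abel
    have rfix : ∀ {i j}, i ≠ j → (r i : Matrix ι ι F) *ᵥ x j = x j := fun hij => by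
      simp only [hr]
      rw [H.refl_mulVec, hxo (Ne.symm hij), mul_zero, zero_div, zero_smul, sub_zero]
    have rd : ∀ i, resDim (r i) ≤ 1 := fun i =>
      (Submodule.finrank_mono (fact i).2.2.2.2).trans
        ((finrank_span_le_card ({x i} : Set (ι → F))).trans (by simp))
    have d2 : resDim t = 2 := by
      refine le_antisymm ((resDim_mul _ _).trans (Nat.add_le_add (rd 0) (rd 1))) ?_
      have hle : Submodule.span F (Set.range (x ∘ ![0, 1])) ≤ resSp t := by
        rw [Submodule.span_le]
        rintro _ ⟨i, rfl⟩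
        have key : (t : Matrix ι ι F) *ᵥ x (![0, 1] i) = -x (![0, 1] i) := by
          rw [ht, mul_mulVec]; fin_cases i <;> simp [mulVec_neg, rneg, rfix]
        have := mem_resSp t (x (![0, 1] i))
        rw [key] at this
        have := (resSp t).smul_mem (-(2 : F)⁻¹) this
        rw [SetLike.mem_coe, Function.comp_apply]
        rwa [show (-(2 : F)⁻¹) • (-x (![0, 1] i) - x (![0, 1] i)) = x (![0, 1] i) by
          match_scalars; field_simp; ring] at this
      have := Submodule.finrank_mono hle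
      rwa [finrank_span_eq_card (hli.comp _ (by decide)), Fintype.card_fin] at this
    have d4 : resDim t4 = 4 := by
      refine le_antisymm ((resDim_mul _ _).trans (Nat.add_le_add
        ((resDim_mul _ _).trans (Nat.add_le_add (rd 0) (rd 1)))
        ((resDim_mul _ _).trans (Nat.add_le_add (rd 2) (rd 3))))) ?_
      have hle : Submodule.span F (Set.range x) ≤ resSp t4 := by
        rw [Submodule.span_le]
        rintro _ ⟨i, rfl⟩
        have key : (t4 : Matrix ι ι F) *ᵥ x i = -x i := by
          rw [ht4, mul_mulVec, mul_mulVec, mul_mulVec]; fin_cases i <;> simp [mulVec_neg, rneg, rfix]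
        have := mem_resSp t4 (x i)
        rw [key] at this
        have := (resSp t4).smul_mem (-(2 : F)⁻¹) this
        rw [SetLike.mem_coe]
        rwa [show (-(2 : F)⁻¹) • (-x i - x i) = x i by match_scalars; field_simp; ring] at this
      have := Submodule.finrank_mono hle
      rwa [finrank_span_eq_card hli, Fintype.card_fin] at this
    set t' := g * t4 * g⁻¹ with ht'
    have t'M : t' ∈ M := M.mul_mem (M.mul_mem hg t4M) (M.inv_mem hg)
    have t'sq : t' * t' = 1 := by
      calc t' * t' = g * (t4 * t4) * g⁻¹ := by rw [ht']; group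
        _ = 1 := by rw [t4sq]; group
    obtain ⟨z, hz, hz1, hzt, hzt', k, hk⟩ := exists_invol_commute (t := (⟨t, tM⟩ : M))
      (t' := ⟨t', t'M⟩) (Subtype.ext tsq) (Subtype.ext t'sq) fun k hk => by
        have := congrArg (fun k : M => resDim (k : GL ι F)) hk
        simp only [Subgroup.coe_mul, Subgroup.coe_inv, ht', resDim_conj] at this
        omega
    have zt : (z : GL ι F) * t = t * z := congrArg Subtype.val hzt.eq
    have zt' : (z : GL ι F) * t' = t' * z := congrArg Subtype.val hzt'.eq
    have hz' : (z : GL ι F) * z = 1 := congrArg Subtype.val hz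
    have hzsl : (z : GL ι F) ∈ Geo.specialLinear ι F := (hO.1 z.2).2
    have r2 : 2 ≤ resDim (z : GL ι F) := by
      have h0 : resDim (z : GL ι F) ≠ 0 := fun h => hz1 (Subtype.ext (resDim_eq_zero h))
      have h1 := resDim_ne_one h2 hz' hzsl
      omega
    have r6 : resDim (z : GL ι F) ≤ 6 := by
      have hzt4 : resDim ((z : GL ι F) * t) ≤ 4 := by
        rcases hk with hk | hk <;>
          have := congrArg (fun k : M => resDim (k : GL ι F)) hk <;>
          simp only [Subgroup.coe_mul, Subgroup.coe_inv, ht', resDim_conj] at this <;> omega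
      have := resDim_mul ((z : GL ι F) * t) t
      rw [mul_assoc, tsq, mul_one] at this
      omega
    have zS : H.Stab z := toStab _ z.2 hz' <| by
      by_contra hS
      refine H.no_invol_odd h2 (H.iso_of_mem hO z.2) (no _ z.2 hS) tsq (H.iso_of_mem hO tM) tV
        ?_ d2.ge (by omega)
      rwa [mul_assoc, ← zt, inv_mul_cancel_left]
    set z' := g⁻¹ * (z : GL ι F) * g with hz'def
    have z'M : z' ∈ M := M.mul_mem (M.mul_mem (M.inv_mem hg) z.2) hg
    have z'sq : z' * z' = 1 := by
      calc z' * z' = g⁻¹ * ((z : GL ι F) * z) * g := by rw [hz'def]; group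
        _ = 1 := by rw [hz']; group
    have z't4 : z' * t4 = t4 * z' := by
      calc z' * t4 = g⁻¹ * ((z : GL ι F) * t') * g := by rw [hz'def, ht']; group
        _ = g⁻¹ * (t' * z) * g := by rw [zt']
        _ = t4 * z' := by rw [hz'def, ht']; group
    have z'S : H.Stab z' := toStab _ z'M z'sq <| by
      by_contra hS
      refine H.no_invol_odd h2 (H.iso_of_mem hO z'M) (no _ z'M hS) t4sq (H.iso_of_mem hO t4M) t4V
        ?_ (by omega) (by omega)
      rwa [mul_assoc, ← z't4, inv_mul_cancel_left]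
    exact H.no_invol_odd h2 hgi (no g hg hgS) hz' (H.iso_of_mem hO z.2) zS z'S r2 (by omega)

end HSub

end Cfsg.Agent.Symplectic

namespace Cfsg.Agent.H58.SUSmall.Subfield

open scoped MatrixGroups Matrix
open Matrix Cfsg.Agent.H95 Cfsg.Agent.Symplectic Cfsg.Agent.S5650

theorem isMaximalIn_subfield {ι : Type} [Fintype ι] [DecidableEq ι] {F : Type*} [Field F] [Finite F]
    (hn : 8 ≤ Fintype.card ι) {σ : F ≃+* F} {f : (ι → F) → (ι → F) → F} {F₀ : Subfield F}
    {P : GL ι F} (H : HSub σ f F₀ (V0 F₀ P)) (G : Subgroup (GL ι F))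
    (hG : G = isoGrp f ⊓ Geo.specialLinear ι F)
    (hgen : ∀ M : Subgroup (GL ι F), (∀ v, f v v = 0 → UtIn H.herm M v) → G ≤ M)
    (hbig : ∃ b : F, σ b = -b ∧ b ∉ F₀) :
    Geo.IsMaximalIn G (Geo.subfieldSubgroup F₀ P ⊓ G) := by
  have hf := H.herm
  refine ⟨lt_of_le_of_ne inf_le_right fun hEq => ?_, fun M hSM hMG => ?_⟩
  · obtain ⟨b, hb, hbF⟩ := hbig
    obtain ⟨v, hv, -⟩ := H.isProj_id.exists_iso H (by omega)
    obtain ⟨d, hd, -, dv', vd⟩ := H.partner hv.1 hv.2.1 hv.2.2
    have hmem : ut hf v b ∈ Geo.subfieldSubgroup F₀ P ⊓ G :=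
      hEq.symm ▸ (hG ▸ ⟨ut_mem_iso hf hv.2.2 hb, ut_mem_sl hf v b⟩ : ut hf v b ∈ G)
    obtain ⟨c, hc, hcv⟩ := scalar_of_mem F₀ P hmem.1
    have h1 := hcv v hv.1
    rw [ut_mulVec hf hv.2.2, hv.2.2, mul_zero, zero_smul, add_zero] at h1
    have hcF : c⁻¹ ∈ F₀ := by
      have := H.rat _ h1 d hd
      rwa [u_smul_left hf, vd, mul_one] at this
    have h2 := H.smul _ (F₀.inv_mem hcF) _ (hcv d hd)
    rw [inv_inv, smul_inv_smul₀ hc, ut_mulVec hf hv.2.2, dv', mul_one] at h2
    have h3 := H.rat _ ((V0 F₀ P).sub_mem h2 hd) d hd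
    rw [add_sub_cancel_left, u_smul_left hf, vd, mul_one] at h3
    exact hbF h3
  by_cases hM : M ≤ Geo.subfieldSubgroup F₀ P ⊓ G
  · exact Or.inl (le_antisymm hM hSM)
  obtain ⟨g, hgM, hgS⟩ := SetLike.not_le_iff_exists.1 hM
  have hO : H.Over M := ⟨hG ▸ hMG, fun k hk hkV => hSM
    ⟨mem_subfieldSubgroup_of F₀ P one_ne_zero fun v hv => by
      rw [_root_.inv_one, one_smul]; exact hkV v hv, hG ▸ hk⟩⟩
  obtain ⟨a, ha, haF⟩ := H.exists_new_eight hO hn hgM fun ⟨c, hc, hcV⟩ =>
    hgS ⟨mem_subfieldSubgroup_of F₀ P (inv_ne_zero hc) (by simpa using hcV), hMG hgM⟩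
  exact Or.inr (le_antisymm hMG (hgen M
    (H.utIn_of_par hO (fun b hb => H.par_all hO (by omega) ha haF hb) (by omega))))

/-- Odd prime index subfield groups. -/
theorem isMaximalIn_subfield_odd {F : Type*} [Field F] [Fintype F] (n q : ℕ) (hF : Fintype.card F = q ^ 2) (hn : 8 ≤ n) (F₀ : Subfield F) (r : ℕ) (hr : r.Prime) (hro : Odd r) (hcard : Fintype.card F = Nat.card F₀ ^ r) (P : Matrix.GeneralLinearGroup (Fin n) F) (hP : Cfsg.Geo.IsFormRationalStructure (Cfsg.hermForm n F q) F₀ 1 P) : Cfsg.Geo.IsMaximalIn (Cfsg.GU n F q ⊓ Cfsg.Geo.specialLinear (Fin n) F) (Cfsg.Geo.subfieldSubgroup F₀ P ⊓ (Cfsg.GU n F q ⊓ Cfsg.Geo.specialLinear (Fin n) F)) := by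
  obtain ⟨σ, hσ, hf⟩ := isUnitaryForm_hermForm (n := n) hF
  obtain ⟨h1, h2, h3, h4, h5, h6, h7, h8⟩ := Cfsg.Agent.S5658.fieldFacts hF F₀ hr hro hcard hσ
  have hspan : Submodule.span F (V0 F₀ P : Set (Fin n → F)) = ⊤ := by
    rw [eq_top_iff]
    intro v _
    have : v = ∑ j, (((P⁻¹ : GL (Fin n) F) : Matrix (Fin n) (Fin n) F) *ᵥ v) j •
        ((P : Matrix (Fin n) (Fin n) F) *ᵥ Pi.single j 1) := by
      simp only [← mulVec_smul]
      rw [← mulVec_sum, ← pi_eq_sum_univ', mulVec_inv_mulVec]
    rw [this]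
    exact Submodule.sum_mem _ fun j _ =>
      Submodule.smul_mem _ _ (Submodule.subset_span (col_mem F₀ P j))
  have H : HSub σ (Cfsg.hermForm n F q) F₀ (V0 F₀ P) :=
    { herm := hf
      smul := fun c hc v hv => mem_V0_smul F₀ P hc hv
      rat := fun u hu v hv => by
        have := hP _ _ hu hv
        rwa [mulVec_inv_mulVec, mulVec_inv_mulVec, one_mul] at this
      span := hspan
      stable := h1, tr := h2, skew := h3, norm := h4, quad := h5, sq := h6, simple := h7 }
  exact isMaximalIn_subfield (by simpa using hn) H _ rfl (fun M h => su_le_of_ut hF (by omega) hσ hf h) h8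

end Cfsg.Agent.H58.SUSmall.Subfield
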