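import Cfsg.Agent.H63.UDec.OneStart

/-!
In even dimension at least six an overgroup of the monomial group has a non-monomial element with a zero entry.
-/

set_option autoImplicit false

namespace Cfsg.Agent.H58.SUSmall

open scoped MatrixGroups Matrix
open Finset Matrix Cfsg Cfsg.Agent.H95 Cfsg.Agent.Symplectic Cfsg.Agent.H63.UDec

variable {F : Type*} [Field F] {n q : ℕ} {σ : F ≃+* F}

theorem mon_mul {a b : GL (Fin n) F} (ha : Mon a) (hb : Mon b) : Mon (a * b) := by
  classical
  intro i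
  obtain ⟨k, hk⟩ : ∃ k, sp ((b : Matrix (Fin n) (Fin n) F) *ᵥ Pi.single i 1) ⊆ {k} := by
    rcases (sp ((b : Matrix (Fin n) (Fin n) F) *ᵥ Pi.single i 1)).eq_empty_or_nonempty with h | ⟨k, hk⟩
    · exact ⟨i, by rw [h]; exact empty_subset _⟩
    · exact ⟨k, fun m hm => Finset.mem_singleton.2 (card_le_one.1 (hb i) m hm k hk)⟩
  have e : (b : Matrix (Fin n) (Fin n) F) *ᵥ Pi.single i 1 =
      ((b : Matrix (Fin n) (Fin n) F) *ᵥ Pi.single i 1) k • Pi.single k 1 := funext fun m => by
    rcases eq_or_ne m k with rfl | hm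
    · simp
    · have h0 : m ∉ sp ((b : Matrix (Fin n) (Fin n) F) *ᵥ Pi.single i 1) := fun h =>
        hm (Finset.mem_singleton.1 (hk h))
      rw [notMem_sp.1 h0]
      simp [hm]
  refine le_trans (card_le_card fun m hm => ?_) (ha k)
  rw [mem_sp, mul_mulVec, e, mulVec_smul] at hm
  rw [mem_sp]
  exact fun h => hm (by rw [Pi.smul_apply, h, smul_zero])

/-- the pair involution of an enumeration by pairs -/
def sw {m : ℕ} (e : Fin m × Fin 2 ≃ Fin n) : Equiv.Perm (Fin n) :=
  e.permCongr (Equiv.prodCongrRight fun _ => Equiv.swap (0 : Fin 2) 1)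

theorem sw_apply {m : ℕ} (e : Fin m × Fin 2 ≃ Fin n) (b : Fin m) (x : Fin 2) :
    sw e (e (b, x)) = e (b, Equiv.swap (0 : Fin 2) 1 x) := by
  simp [sw, Equiv.permCongr_apply, Equiv.prodCongrRight]

theorem sign_sw {m : ℕ} (e : Fin m × Fin 2 ≃ Fin n) : Equiv.Perm.sign (sw e) = (-1) ^ m := by
  rw [sw, Equiv.Perm.sign_permCongr, Equiv.Perm.sign_prodCongrRight]
  simp [Finset.prod_const]

/-- the cross term of a pair -/
def crossTerm {m : ℕ} (σ : F ≃+* F) (e : Fin m × Fin 2 ≃ Fin n) (X : Fin n → F) (b : Fin m) : F :=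
  X (e (b, 1)) * σ (X (e (b, 0)))

/-- the weights of the swaps -/
def swc {m : ℕ} (σ : F ≃+* F) (e : Fin m × Fin 2 ≃ Fin n) (X : Fin n → F) (p r : Fin m → F) (i : Fin n) : F :=
  if (e.symm i).2 = 0 then p (e.symm i).1
  else r (e.symm i).1 * (crossTerm σ e X (e.symm i).1 / σ (crossTerm σ e X (e.symm i).1))

/-- A product of weighted swaps and its value at `X`. -/
theorem exists_swaps (hf : Geo.IsUnitaryForm σ (hermForm n F q)) (hσ : ∀ x, σ x = x ^ q) {m : ℕ}
    (e : Fin m × Fin 2 ≃ Fin n) {X : Fin n → F} (hX : ∀ i, X i ≠ 0) {p r : Fin m → F}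
    (hp : ∀ b, p b * σ (p b) = 1) (hr : ∀ b, r b * σ (r b) = 1)
    (hdet : ∏ b, -(p b * r b * (crossTerm σ e X b / σ (crossTerm σ e X b))) = 1) :
    ∃ s : GL (Fin n) F, s ∈ isoGrp (hermForm n F q) ⊓ Geo.specialLinear (Fin n) F ∧ Mon s ∧
      (∀ x i, ((s : Matrix (Fin n) (Fin n) F) *ᵥ x) i = swc σ e X p r i * x (sw e i)) ∧
      hermForm n F q ((s : Matrix (Fin n) (Fin n) F) *ᵥ X) X = ∑ b, crossTerm σ e X b * (p b + r b) := by
  classical
  have hu0 : ∀ b, crossTerm σ e X b ≠ 0 := fun b => mul_ne_zero (hX _) (by simpa using hX _)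
  have hσu0 : ∀ b, σ (crossTerm σ e X b) ≠ 0 := fun b => by simpa using hu0 b
  have hcn : ∀ i, swc σ e X p r i * σ (swc σ e X p r i) = 1 := by
    intro i
    simp only [swc]
    split_ifs
    · exact hp _
    · rw [map_mul, map_div₀, u_inv hf]
      have h1 := hr (e.symm i).1
      have h2 := hu0 (e.symm i).1
      have h3 := hσu0 (e.symm i).1
      field_simp
      linear_combination h1
  set d : Fin n → Fˣ := fun i => Units.mk0 _ (ne_zero_of_norm (hcn i))
  have hap : ∀ x i, ((mp (sw e) d : Matrix (Fin n) (Fin n) F) *ᵥ x) i = swc σ e X p r i * x (sw e i) :=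
    fun x i => mp_apply _ _ _ _
  refine ⟨mp (sw e) d, ⟨mp_iso hf hσ _ hcn, ?_⟩, mp_mon _ _, hap, ?_⟩
  · show mp (sw e) d ∈ Geo.specialLinear (Fin n) F
    rw [mem_specialLinear_iff, mp_det, sign_sw, ← e.prod_comp, Fintype.prod_prod_type]
    have hb : ∀ b, ∏ x : Fin 2, ((d (e (b, x)) : Fˣ) : F) =
        p b * r b * (crossTerm σ e X b / σ (crossTerm σ e X b)) := fun b => by
      rw [Fin.prod_univ_two]
      simp [d, swc, mul_assoc]
    rw [prod_congr rfl fun b _ => hb b]
    rw [prod_neg, card_univ, Fintype.card_fin] at hdet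
    push_cast
    linear_combination hdet
  · rw [herm_sum hσ, ← e.sum_comp, Fintype.sum_prod_type]
    refine sum_congr rfl fun b _ => ?_
    rw [Fin.sum_univ_two, hap, hap, sw_apply, sw_apply, Equiv.swap_apply_left, Equiv.swap_apply_right]
    simp only [swc, Equiv.symm_apply_apply, if_true, show ¬ ((1 : Fin 2) = 0) from by decide, if_false]
    have h3 := hσu0 b
    have h4 : σ (X (e (b, 1))) * X (e (b, 0)) = σ (crossTerm σ e X b) := by
      simp only [crossTerm, map_mul, u_inv hf]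
    simp only [crossTerm] at h3 h4 ⊢
    field_simp
    linear_combination (r b * (X (e (b, 1)) * σ (X (e (b, 0))))) * h4

variable [Fintype F]

/-- Two cross terms can cancel with non-zero values. -/
theorem exists_cancel (hF : Fintype.card F = q ^ 2) (hσ : ∀ x, σ x = x ^ q) (hinv : ∀ x, σ (σ x) = x)
    {u v : F} (hu : u ≠ 0) (hv : v ≠ 0) :
    ∃ p r p' r' : F, p * σ p = 1 ∧ r * σ r = 1 ∧ p' * σ p' = 1 ∧ r' * σ r' = 1 ∧
      u * (p + r) + v * (p' + r') = 0 ∧ p + r ≠ 0 ∧
      -(p * r * (u / σ u)) * -(p' * r' * (v / σ v)) = ((u * (p + r)) / σ (u * (p + r))) ^ 2 := by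
  classical
  set C := (cs σ).erase (-1)
  have hC : #C = q := by
    rw [card_erase_of_mem (mem_cs.2 (by simp)), card_cs hF hσ]; rfl
  have hne : ∀ l ∈ C, (1 : F) + l ≠ 0 := fun l hl h =>
    (mem_erase.1 hl).1 (by linear_combination h)
  have key : ∀ w : F, w ≠ 0 →
      (C.image fun l => (w * (1 + l)) * σ (w * (1 + l))) ⊆ (fx σ).erase 0 ∧
        q ≤ 2 * #(C.image fun l => (w * (1 + l)) * σ (w * (1 + l))) := by
    intro w hw
    refine ⟨fun y hy => ?_, ?_⟩
    · obtain ⟨l, hl, rfl⟩ := mem_image.1 hy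
      have := mul_ne_zero hw (hne l hl)
      refine mem_erase.2 ⟨mul_ne_zero this ((_root_.map_ne_zero σ).2 this), mem_fx.2 ?_⟩
      rw [map_mul σ (w * (1 + l)), hinv, mul_comm]
    · refine hC.ge.trans (card_le_mul_card_image _ 2 fun y hy => ?_)
      obtain ⟨l, hl, rfl⟩ := mem_image.1 hy
      refine (card_le_card (t := {l, σ l}) fun k hk => ?_).trans card_le_two
      obtain ⟨hk, he⟩ := mem_filter.1 hk
      have h1 := mem_cs.1 (mem_of_mem_erase hl)
      have h2 := mem_cs.1 (mem_of_mem_erase hk)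
      simp only [map_mul, map_add, map_one] at he
      have he' : (1 + k) * (1 + σ k) = (1 + l) * (1 + σ l) :=
        mul_left_cancel₀ (mul_ne_zero hw (by simpa using hw : σ w ≠ 0)) (by linear_combination he)
      have h3 : (k - l) * (k - σ l) = 0 := by
        linear_combination k * he' - (k + 1) * h2 + (k + 1) * h1
      rcases mul_eq_zero.1 h3 with h | h <;> simp [sub_eq_zero.1 h]
  obtain ⟨s1, c1⟩ := key u hu
  obtain ⟨s2, c2⟩ := key v hv
  have hfx : #((fx σ).erase 0) = q - 1 := by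
    rw [card_erase_of_mem (mem_fx.2 (map_zero σ)), card_fx hF hσ]
  have hq := Unitary.two_le_q hF
  obtain ⟨y, hy⟩ := inter_nonempty_of_card_lt_card_add_card s1 s2 (by omega)
  obtain ⟨hy1, hy2⟩ := mem_inter.1 hy
  obtain ⟨l, hl, rfl⟩ := mem_image.1 hy1
  obtain ⟨k, hk, he⟩ := mem_image.1 hy2
  have hl1 := mem_cs.1 (mem_of_mem_erase hl)
  have hk1 := mem_cs.1 (mem_of_mem_erase hk)
  set A := u * (1 + l) with hA
  set B := v * (1 + k) with hB
  have hA0 : A ≠ 0 := mul_ne_zero hu (hne l hl)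
  have hB0 : B ≠ 0 := mul_ne_zero hv (hne k hk)
  have hσA : σ A ≠ 0 := by simpa using hA0
  have hσB : σ B ≠ 0 := by simpa using hB0
  have hn1 : (-(A / B)) * σ (-(A / B)) = 1 := by
    rw [map_neg, map_div₀]
    field_simp
    linear_combination -he
  refine ⟨1, l, -(A / B), -(A / B) * k, by simp, hl1, hn1,
    by rw [map_mul σ (-(A / B))]; linear_combination k * σ k * hn1 + hk1, ?_, hne l hl, ?_⟩
  · rw [← hA, show v * (-(A / B) + -(A / B) * k) = -(A / B) * B by rw [hB]; ring, neg_mul,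
      div_mul_cancel₀ _ hB0, add_neg_cancel]
  · have hl0 := ne_zero_of_norm hl1
    have hk0 := ne_zero_of_norm hk1
    have hσu : σ u ≠ 0 := by simpa using hu
    have hσv : σ v ≠ 0 := by simpa using hv
    have e1 : σ A * l = σ u * (1 + l) := by
      rw [hA, map_mul, map_add, map_one]; linear_combination σ u * hl1
    have e2 : σ B * k = σ v * (1 + k) := by
      rw [hB, map_mul, map_add, map_one]; linear_combination σ v * hk1
    rw [← hA]
    have f1 : 1 * l * (u / σ u) = A / σ A := by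
      field_simp
      rw [hA]
      linear_combination u * e1
    have f2 : -(A / B) * (-(A / B) * k) * (v / σ v) = A ^ 2 / (B * σ B) := by
      field_simp
      rw [hB]
      linear_combination v * e2
    rw [f1, f2, he]
    field_simp

/-- Every element is a square in characteristic two. -/
theorem isSquare_of_two (h2 : (2 : F) = 0) (x : F) : IsSquare x :=
  FiniteField.isSquare_of_char_two
    (CharTwo.of_one_ne_zero_of_two_eq_zero one_ne_zero h2 |> fun h => ringChar.eq_iff.2 h) x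

/-- The quotient of two non-squares is a square. -/
theorem isSquare_div_of_not {x y : F} (hx : ¬ IsSquare x) (hy : ¬ IsSquare y) : IsSquare (x / y) := by
  obtain ⟨g, hg⟩ := IsCyclic.exists_generator (α := Fˣ)
  have key : ∀ z : F, ¬ IsSquare z → ∃ i : ℤ, Odd i ∧ z = ((g ^ i : Fˣ) : F) := by
    intro z hz
    have hz0 : z ≠ 0 := fun h => hz (by rw [h]; exact IsSquare.zero)
    obtain ⟨i, hi⟩ := Subgroup.mem_zpowers_iff.1 (hg (Units.mk0 z hz0))
    refine ⟨i, ?_, by rw [hi]; rfl⟩
    by_contra ho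
    obtain ⟨j, hj⟩ := Int.not_odd_iff_even.1 ho
    exact hz ⟨((g ^ j : Fˣ) : F), by rw [← Units.val_mul, ← _root_.zpow_add, ← hj, hi]; rfl⟩
  obtain ⟨i, hi, rfl⟩ := key x hx
  obtain ⟨j, hj, rfl⟩ := key y hy
  obtain ⟨k, hk⟩ := hi.sub_odd hj
  exact ⟨((g ^ k : Fˣ) : F), by
    rw [← Units.val_div_eq_div_val, ← Units.val_mul, ← _root_.zpow_add, ← hk, _root_.zpow_sub, div_eq_mul_inv]⟩

/-- An enumeration by pairs, all but one pair square-equivalent. -/
theorem exists_pairing {m : ℕ} (hn : n = m * 2) {X : Fin n → F} (hX : ∀ i, X i ≠ 0) :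
    ∃ e : Fin m × Fin 2 ≃ Fin n, ∀ b b', b < b' → ¬ IsSquare (X (e (b, 1)) / X (e (b, 0))) →
      IsSquare (X (e (b', 1)) / X (e (b', 0))) := by
  classical
  let col : Fin n → Bool := fun i => decide (IsSquare (X i))
  set ρ := Tuple.sort col
  have hmono := Tuple.monotone_sort col
  set e := (finProdFinEquiv (m := m) (n := 2)).trans ((finCongr hn.symm).trans ρ) with he
  refine ⟨e, fun b b' hbb hns => ?_⟩
  have hdiv : ∀ i j, col i = col j → IsSquare (X i / X j) := by
    intro i j h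
    simp only [col, decide_eq_decide] at h
    by_cases hi : IsSquare (X i)
    · exact hi.div (h.1 hi)
    · exact isSquare_div_of_not hi fun hj => hi (h.2 hj)
  by_contra hns'
  have hlt : ∀ (b b' : Fin m) (x x' : Fin 2), b < b' →
      ((finCongr hn.symm) (finProdFinEquiv (b, x)) : Fin n) ≤ (finCongr hn.symm) (finProdFinEquiv (b', x')) := by
    intro b b' x x' h
    show (finProdFinEquiv (b, x)).val ≤ (finProdFinEquiv (b', x')).val
    simp only [finProdFinEquiv_apply_val]
    omega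
  have hle0 : ∀ b : Fin m, col (e (b, 0)) ≤ col (e (b, 1)) := fun b => hmono (by
    show (finProdFinEquiv (b, (0 : Fin 2))).val ≤ (finProdFinEquiv (b, (1 : Fin 2))).val
    simp [finProdFinEquiv_apply_val])
  have h1 : col (e (b, 1)) ≤ col (e (b', 0)) := hmono (hlt b b' 1 0 hbb)
  have k1 : col (e (b, 1)) ≠ col (e (b, 0)) := fun h => hns (hdiv _ _ h)
  have k2 : col (e (b', 1)) ≠ col (e (b', 0)) := fun h => hns' (hdiv _ _ h)
  have := hle0 b
  have := hle0 b'
  revert h1 k1 k2
  generalize col (e (b, 1)) = A at *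
  generalize col (e (b, 0)) = B at *
  generalize col (e (b', 1)) = A' at *
  generalize col (e (b', 0)) = B' at *
  revert A B A' B'
  decide

omit [Fintype F] in
/-- A monomial element moving at most `r` dimensions has only small vectors there. -/
theorem small_image {D : GL (Fin n) F} (hD : Mon D) {R : Submodule F (Fin n → F)}
    (hR : ∀ x, (D : Matrix (Fin n) (Fin n) F) *ᵥ x - x ∈ R) (x : Fin n → F) :
    #(sp ((D : Matrix (Fin n) (Fin n) F) *ᵥ x - x)) ≤ Module.finrank F R * 2 := by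
  classical
  set v : Fin n → Fin n → F := fun i => (D : Matrix (Fin n) (Fin n) F) *ᵥ Pi.single i 1 - Pi.single i 1
  obtain ⟨B, hB, hspan, hli⟩ := exists_linearIndependent F (Set.range v)
  have hBf : B.Finite := (Set.finite_range v).subset hB
  have := hBf.fintype
  have hcard : #B.toFinset ≤ Module.finrank F R := by
    have hli' : LinearIndependent F fun w : B => (⟨w.1, by
        obtain ⟨i, hi⟩ := hB w.2; rw [← hi]; exact hR _⟩ : R) :=
      LinearIndependent.of_comp R.subtype hli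
    simpa [Set.toFinset_card] using hli'.fintype_card_le_finrank
  have hT : #(B.toFinset.biUnion sp) ≤ Module.finrank F R * 2 := by
    refine (card_biUnion_le_card_mul _ _ 2 fun w hw => ?_).trans (Nat.mul_le_mul_right _ hcard)
    obtain ⟨i, rfl⟩ := hB (Set.mem_toFinset.1 hw)
    refine (card_le_card (t := insert i (sp ((D : Matrix (Fin n) (Fin n) F) *ᵥ Pi.single i 1))) ?_).trans
      ((card_insert_le _ _).trans (Nat.succ_le_succ (hD i)))
    intro m hm
    rw [mem_sp] at hm
    rw [Finset.mem_insert, mem_sp]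
    by_contra h
    push Not at h
    exact hm (by simp only [v, Pi.sub_apply, h.2, Pi.single_eq_of_ne h.1, sub_zero])
  refine (card_le_card fun m hm => ?_).trans hT
  by_contra hmT
  refine mem_sp.1 hm ?_
  have hx : (D : Matrix (Fin n) (Fin n) F) *ᵥ x - x ∈ Submodule.span F B := by
    rw [hspan]
    conv => arg 2; rw [pi_eq_sum_univ' x, mulVec_sum, ← sum_sub_distrib]
    refine Submodule.sum_mem _ fun i _ => ?_
    rw [mulVec_smul, ← smul_sub]
    exact Submodule.smul_mem _ _ (Submodule.subset_span ⟨i, rfl⟩)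
  revert hx
  generalize (D : Matrix (Fin n) (Fin n) F) *ᵥ x - x = w
  intro hw
  induction hw using Submodule.span_induction with
  | mem a ha => exact notMem_sp.1 fun h => hmT (mem_biUnion.2 ⟨a, Set.mem_toFinset.2 ha, h⟩)
  | zero => rfl
  | add a b _ _ iha ihb => rw [Pi.add_apply, iha, ihb, add_zero]
  | smul c a _ ih => rw [Pi.smul_apply, ih, smul_zero]

/-- An overgroup of the monomial group has a non-monomial element with a zero entry. -/
theorem exists_zero (hf : Geo.IsUnitaryForm σ (hermForm n F q)) (hF : Fintype.card F = q ^ 2)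
    (hσ : ∀ x, σ x = x ^ q) {m : ℕ} (hm : 3 ≤ m) (hn : n = m * 2)
    {M : Subgroup (GL (Fin n) F)} (hM : M ≤ isoGrp (hermForm n F q))
    (hmon : HasMon (hermForm n F q) M) {g : GL (Fin n) F} (hg : g ∈ M) (hg' : ¬ Mon g) :
    ∃ y ∈ M, ¬ Mon y ∧ ∃ j z, ((y : Matrix (Fin n) (Fin n) F) *ᵥ Pi.single j 1) z = 0 := by
  classical
  have hgi : ¬ Mon g⁻¹ := fun h => hg' (mon_inv hf hσ (hM hg) h)
  by_contra hcon
  push Not at hcon
  set k : Fin n := ⟨0, by omega⟩
  set X := ((g⁻¹ : GL (Fin n) F) : Matrix (Fin n) (Fin n) F) *ᵥ Pi.single k 1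
  have hX : ∀ i, X i ≠ 0 := hcon g⁻¹ (M.inv_mem hg) hgi k
  obtain ⟨e, he⟩ := exists_pairing hn hX
  obtain ⟨b1, hb1⟩ : ∃ b1, ∀ b, b ≠ b1 → IsSquare (X (e (b, 1)) / X (e (b, 0))) := by
    by_cases h : ∃ b, ¬ IsSquare (X (e (b, 1)) / X (e (b, 0)))
    · obtain ⟨b1, h1⟩ := h
      refine ⟨b1, fun b hb => ?_⟩
      rcases lt_or_gt_of_ne hb with hlt | hlt
      · by_contra h2
        exact h1 (he b b1 hlt h2)
      · exact he b1 b hlt h1
    · push Not at h
      exact ⟨⟨0, by omega⟩, fun b _ => h b⟩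
  obtain ⟨b2, -, hb2⟩ := exists_mem_notMem_of_card_lt_card (s := ({b1} : Finset (Fin m))) (t := univ)
    (by rw [card_singleton, card_univ, Fintype.card_fin]; omega)
  rw [Finset.mem_singleton] at hb2
  obtain ⟨b0, -, hb0⟩ := exists_mem_notMem_of_card_lt_card (s := ({b1, b2} : Finset (Fin m)))
    (t := univ) (by rw [card_univ, Fintype.card_fin]; exact lt_of_le_of_lt card_le_two (by omega))
  simp only [Finset.mem_insert, Finset.mem_singleton, not_or] at hb0
  set u := fun b => crossTerm σ e X b with hu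
  have hu0 : ∀ b, u b ≠ 0 := fun b => mul_ne_zero (hX _) ((_root_.map_ne_zero σ).2 (hX _))
  -- square roots of the phases of the good pairs
  have hw : ∀ b, ∃ w : F, w * σ w = 1 ∧ (b ≠ b1 → u b / σ (u b) = w ^ 2) := by
    intro b
    by_cases hb : b = b1
    · exact ⟨1, by simp, fun h => absurd hb h⟩
    obtain ⟨a, ha⟩ := hb1 b hb
    have hx0 := hX (e (b, 0))
    have hs0 : σ (X (e (b, 0))) ≠ 0 := (_root_.map_ne_zero σ).2 hx0
    have hx1 : X (e (b, 1)) = a * a * X (e (b, 0)) := by rw [← ha, div_mul_cancel₀ _ hx0]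
    have ha0 : a ≠ 0 := fun h => hX (e (b, 1)) (by rw [hx1, h]; ring)
    have hsa : σ a ≠ 0 := (_root_.map_ne_zero σ).2 ha0
    refine ⟨a / σ a, ?_, fun _ => ?_⟩
    · rw [map_div₀, u_inv hf]; field_simp
    · simp only [u, crossTerm, hx1, map_mul, u_inv hf]
      field_simp
  choose w hw1 hw2 using hw
  obtain ⟨P, R, P', R', hP, hR, hP', hR', hzero, hne, hprod⟩ :=
    exists_cancel hF hσ (fun x => u_inv hf x) (hu0 b1) (hu0 b2)
  set z := u b1 * (P + R)
  have hz0 : z ≠ 0 := mul_ne_zero (hu0 b1) hne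
  set A := z / σ z
  have hA : A * σ A = 1 := by
    have := (_root_.map_ne_zero σ).2 hz0
    simp only [A, map_div₀, u_inv hf]
    field_simp
  set rest := (univ.erase b1).erase b2 with hrest
  set W := ∏ b ∈ rest, w b
  have hW : W * σ W = 1 := by
    simp only [W, map_prod, ← prod_mul_distrib, hw1, prod_const_one]
  set c := (A * W)⁻¹
  have hc : c * σ c = 1 := by
    simp only [c, map_inv₀, map_mul]
    rw [← mul_inv, mul_mul_mul_comm, hA, hW, one_mul, inv_one]
  set p : Fin m → F := fun b => if b = b1 then P else if b = b2 then P' else if b = b0 then c else 1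
  set r : Fin m → F := fun b => if b = b1 then R else if b = b2 then R' else -p b
  have hp : ∀ b, p b * σ (p b) = 1 := fun b => by
    simp only [p]; split_ifs <;> first | assumption | simp
  have hr : ∀ b, r b * σ (r b) = 1 := fun b => by
    simp only [r]; split_ifs
    · exact hR
    · exact hR'
    · rw [map_neg, neg_mul_neg, hp]
  have hrestm : ∀ b ∈ rest, b ≠ b1 ∧ b ≠ b2 := fun b hb =>
    ⟨(mem_erase.1 (mem_erase.1 hb).2).1, (mem_erase.1 hb).1⟩
  have hsplit : ∀ (f : Fin m → F), ∏ b, f b = f b1 * (f b2 * ∏ b ∈ rest, f b) := fun f => by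
    rw [hrest, mul_prod_erase _ f (mem_erase.2 ⟨hb2, mem_univ _⟩), mul_prod_erase _ f (mem_univ _)]
  have hdet : ∏ b, -(p b * r b * (u b / σ (u b))) = 1 := by
    rw [hsplit, prod_congr rfl (g := fun b => (p b * w b) ^ 2) fun b hb => by
      rw [hw2 b (hrestm b hb).1]
      simp only [r, if_neg (hrestm b hb).1, if_neg (hrestm b hb).2]
      ring, prod_pow, prod_mul_distrib]
    have hpc : ∏ b ∈ rest, p b = c := by
      rw [prod_eq_single b0 (fun b hb hb' => by
          simp only [p, if_neg (hrestm b hb).1, if_neg (hrestm b hb).2, if_neg hb'])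
        (fun h => absurd (mem_erase.2 ⟨hb0.2, mem_erase.2 ⟨hb0.1, mem_univ _⟩⟩) h)]
      simp only [p, if_neg hb0.1, if_neg hb0.2, if_true]
    rw [hpc, show ∏ b ∈ rest, w b = W from rfl, ← mul_assoc]
    simp only [p, r, if_true, if_neg hb2]
    rw [hprod]
    have h1 := ne_zero_of_norm hA
    have h2 := ne_zero_of_norm hW
    simp only [c]
    field_simp
  have hval : ∑ b, u b * (p b + r b) = 0 := by
    rw [sum_eq_add b1 b2 (Ne.symm hb2) (fun b _ hb => by
      simp only [r, if_neg hb.1, if_neg hb.2, add_neg_cancel, mul_zero])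
      (fun h => absurd (mem_univ _) h) (fun h => absurd (mem_univ _) h)]
    simp only [p, r, if_true, if_neg hb2]
    exact hzero
  -- a pair whose weights differ
  obtain ⟨bs, hbs⟩ : ∃ bs, p bs ≠ r bs := by
    by_cases h2 : (2 : F) = 0
    · refine ⟨b1, ?_⟩
      simp only [p, r, if_true]
      exact fun h => hne (by rw [h]; linear_combination R * h2)
    · refine ⟨b0, ?_⟩
      simp only [r, if_neg hb0.1, if_neg hb0.2]
      exact fun h => h2 ((mul_eq_zero.1 (show (2 : F) * p b0 = 0 by linear_combination h)).resolve_right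
        (ne_zero_of_norm (hp b0)))
  set p2 : Fin m → F := fun b => if b = bs then r b else p b
  set r2 : Fin m → F := fun b => if b = bs then p b else r b
  have hp2 : ∀ b, p2 b * σ (p2 b) = 1 := fun b => by simp only [p2]; split_ifs <;> simp [hp, hr]
  have hr2 : ∀ b, r2 b * σ (r2 b) = 1 := fun b => by simp only [r2]; split_ifs <;> simp [hp, hr]
  have hmul2 : ∀ b, p2 b * r2 b = p b * r b := fun b => by
    simp only [p2, r2]; split_ifs <;> ring
  have hadd2 : ∀ b, p2 b + r2 b = p b + r b := fun b => by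
    simp only [p2, r2]; split_ifs <;> ring
  obtain ⟨s1, hs1, hm1, ha1, hv1⟩ := exists_swaps hf hσ e hX hp hr (by simpa [u] using hdet)
  obtain ⟨s2, hs2, hm2, ha2, hv2⟩ := exists_swaps hf hσ e hX hp2 hr2
    (by simpa [u, hmul2] using hdet)
  have hy : ∀ s : GL (Fin n) F, s ∈ M →
      hermForm n F q ((s : Matrix (Fin n) (Fin n) F) *ᵥ X) X = 0 → Mon (g * s * g⁻¹) := by
    intro s hs h0
    by_contra hno
    refine hcon _ (M.mul_mem (M.mul_mem hg hs) (M.inv_mem hg)) hno k k ?_
    rw [mul_mulVec, mul_mulVec, ← herm_single_right' hσ (_ *ᵥ _) k,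
      ← mem_isoGrp.1 (Subgroup.inv_mem _ (hM hg)), inv_mulVec_mulVec]
    exact h0
  have h1 := hy s1 (hmon s1 hs1 hm1) (hv1.trans hval)
  have h2 := hy s2 (hmon s2 hs2 hm2) (hv2.trans (by simpa only [hadd2] using hval))
  have h1' : Mon (g * s1 * g⁻¹)⁻¹ := mon_inv hf hσ
    (Subgroup.inv_mem _ (hM (M.mul_mem (M.mul_mem hg (hmon s1 hs1 hm1)) (M.inv_mem hg))))
    (by rwa [inv_inv])
  set D := g * (s2 * s1⁻¹) * g⁻¹ with hDdef
  have hD : Mon D := by
    rw [show D = g * s2 * g⁻¹ * (g * s1 * g⁻¹)⁻¹ by rw [hDdef]; group]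
    exact mon_mul h2 h1'
  set c1 := swc σ e X p r with hc1def
  set c2 := swc σ e X p2 r2 with hc2def
  have hc1 : ∀ i, c1 i ≠ 0 := fun i h => by
    have e1 := congrFun (mulVec_inv_mulVec s1 (Pi.single i (1 : F))) i
    simp only [ha1] at e1
    rw [h, zero_mul, Pi.single_eq_same] at e1
    exact zero_ne_one e1
  have ht : ∀ x i, ((((s2 * s1⁻¹ : GL (Fin n) F)) : Matrix (Fin n) (Fin n) F) *ᵥ x) i =
      c2 i / c1 i * x i := by
    intro x i
    rw [mul_mulVec, ha2]
    conv_rhs => rw [← mulVec_inv_mulVec s1 x, ha1]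
    rw [← mul_assoc, div_mul_cancel₀ _ (hc1 i)]
  have hout : ∀ i, (e.symm i).1 ≠ bs → c2 i = c1 i := fun i hi => by
    simp only [c1, c2, swc, p2, r2, if_neg hi]
  set a := e (bs, 0)
  set b := e (bs, 1)
  set R2 := Submodule.span F ({(g : Matrix (Fin n) (Fin n) F) *ᵥ Pi.single a 1,
    (g : Matrix (Fin n) (Fin n) F) *ᵥ Pi.single b 1} : Set (Fin n → F))
  have hDx : ∀ x, (D : Matrix (Fin n) (Fin n) F) *ᵥ x - x = (g : Matrix (Fin n) (Fin n) F) *ᵥ
      fun i => (c2 i / c1 i - 1) * (((g⁻¹ : GL (Fin n) F) : Matrix (Fin n) (Fin n) F) *ᵥ x) i := by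
    intro x
    rw [hDdef, mul_mulVec, mul_mulVec]
    conv_lhs => arg 2; rw [← mulVec_inv_mulVec g x]
    rw [← mulVec_sub]
    congr 1
    funext i
    rw [Pi.sub_apply, ht]
    ring
  have hR2 : ∀ x, (D : Matrix (Fin n) (Fin n) F) *ᵥ x - x ∈ R2 := by
    intro x
    rw [hDx]
    set v := fun i => (c2 i / c1 i - 1) * (((g⁻¹ : GL (Fin n) F) : Matrix (Fin n) (Fin n) F) *ᵥ x) i
    have hv : v = v a • Pi.single a 1 + v b • Pi.single b 1 := by
      have hab : a ≠ b := fun h => by simpa using congrArg Prod.snd (e.injective h)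
      funext i
      simp only [Pi.add_apply, Pi.smul_apply, smul_eq_mul, Pi.single_apply]
      rcases eq_or_ne i a with rfl | hia
      · simp [hab]
      rcases eq_or_ne i b with rfl | hib
      · simp [hia]
      · have : (e.symm i).1 ≠ bs := by
          intro h
          rcases Fin.exists_fin_two.1 ⟨(e.symm i).2, rfl⟩ with h' | h'
          · exact hia (by rw [← e.apply_symm_apply i]; exact congrArg e (Prod.ext h h'))
          · exact hib (by rw [← e.apply_symm_apply i]; exact congrArg e (Prod.ext h h'))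
        simp [v, hout i this, hc1 i, hia, hib]
    rw [hv, mulVec_add, mulVec_smul, mulVec_smul]
    exact Submodule.add_mem _ (Submodule.smul_mem _ _ (Submodule.subset_span (Or.inl rfl)))
      (Submodule.smul_mem _ _ (Submodule.subset_span (Or.inr rfl)))
  have hca : c2 a / c1 a - 1 ≠ 0 := by
    rw [sub_ne_zero, Ne, div_eq_one_iff_eq (hc1 a)]
    simp only [c1, c2, swc, p2, a, Equiv.symm_apply_apply, if_true]
    exact Ne.symm hbs
  have hfin : Module.finrank F R2 ≤ 2 := by
    have := finrank_span_finset_le_card (R := F)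
      ({(g : Matrix (Fin n) (Fin n) F) *ᵥ Pi.single a 1,
        (g : Matrix (Fin n) (Fin n) F) *ᵥ Pi.single b 1} : Finset (Fin n → F))
    rw [Finset.coe_insert, Finset.coe_singleton] at this
    exact this.trans Finset.card_le_two
  have hsmall := (small_image hD hR2 ((g : Matrix (Fin n) (Fin n) F) *ᵥ Pi.single a 1)).trans
    (Nat.mul_le_mul_right _ hfin)
  have hfull : sp ((D : Matrix (Fin n) (Fin n) F) *ᵥ ((g : Matrix (Fin n) (Fin n) F) *ᵥ Pi.single a 1) -
      (g : Matrix (Fin n) (Fin n) F) *ᵥ Pi.single a 1) = univ := by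
    refine eq_univ_of_forall fun i => mem_sp.2 ?_
    rw [hDx, inv_mulVec_mulVec, show (fun i => (c2 i / c1 i - 1) * (Pi.single a (1 : F) : Fin n → F) i) =
      (c2 a / c1 a - 1) • Pi.single a 1 from funext fun i => by
        rcases eq_or_ne i a with rfl | hi <;> simp [*], mulVec_smul, Pi.smul_apply, smul_eq_mul]
    exact mul_ne_zero hca (hcon g hg hg' a i)
  rw [hfull, card_univ, Fintype.card_fin] at hsmall
  omega

end Cfsg.Agent.H58.SUSmall
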