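import Cfsg.Agent.H63.UDec.OneTop
import Cfsg.Agent.H58.SUSmall.Zero

/-!
A non-monomial element with a monomial column, in even dimension at least six.
-/

set_option autoImplicit false

namespace Cfsg.Agent.H58.SUSmall

open scoped MatrixGroups Matrix
open Finset Matrix Cfsg Cfsg.Agent.H95 Cfsg.Agent.Symplectic
open Cfsg.Agent.H63.UDec hiding no_two gOne_of_unit gOne_of_swap gOne_odd gOne_even exists_zero

variable {F : Type*} [Field F] [Fintype F] {n q : ℕ} {σ : F ≃+* F} {M : Subgroup (GL (Fin n) F)}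

/-- All columns are nearly full. -/
theorem no_two (hf : Geo.IsUnitaryForm σ (hermForm n F q)) (hF : Fintype.card F = q ^ 2) (hσ : ∀ x, σ x = x ^ q) (hq : 3 ≤ q) (hn : 5 ≤ n)
    (hM : M ≤ isoGrp (hermForm n F q)) (hph : Phases σ M) (hno : ¬ GOne M) {y : GL (Fin n) F}
    (hy : y ∈ M) (hy' : ¬ Mon y) (j : Fin n) :
    n ≤ #(sp ((y : Matrix (Fin n) (Fin n) F) *ᵥ Pi.single j 1)) + 1 := by
  classical
  -- first, the step
  have step2 : ∀ y ∈ M, ¬ Mon y → ∀ j, #(sp ((y : Matrix (Fin n) (Fin n) F) *ᵥ Pi.single j 1)) + 2 ≤ n →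
      ∃ y' ∈ M, ¬ Mon y' ∧ ∃ k, #(sp ((y' : Matrix (Fin n) (Fin n) F) *ᵥ Pi.single k 1)) = 2 := by
    intro y hy hy' j hj
    obtain ⟨z1, z2, hz1, hz2, hz⟩ := one_lt_card_iff.1
      (show 1 < #(sp ((y : Matrix (Fin n) (Fin n) F) *ᵥ Pi.single j 1))ᶜ by
        rw [card_compl, Fintype.card_fin]; omega)
    rw [Finset.mem_compl, notMem_sp] at hz1 hz2
    obtain ⟨S, hS, h1, -⟩ := two_zero hf hF hσ hq (by omega) hM hph hno hy hz hz1 hz2
    have hinv : ¬ Mon y⁻¹ := fun h => hy' (mon_inv hf hσ (hM hy) h)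
    refine ⟨y⁻¹, M.inv_mem hy, hinv, z1, ?_⟩
    have := (card_le_card h1).trans hS
    by_contra hne
    exact hno ⟨y⁻¹, M.inv_mem hy, hinv, z1, by omega⟩
  by_contra hj
  obtain ⟨y', hy1, hy2, k, hk⟩ := step2 y hy hy' j (by omega)
  obtain ⟨z1, z2, z3, hz1, hz2, hz3, h12, h13, h23⟩ := two_lt_card_iff.1
    (show 2 < #(sp ((y' : Matrix (Fin n) (Fin n) F) *ᵥ Pi.single k 1))ᶜ by
      rw [card_compl, Fintype.card_fin]; omega)
  rw [Finset.mem_compl, notMem_sp] at hz1 hz2 hz3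
  set c := fun z => ((y'⁻¹ : GL (Fin n) F) : Matrix (Fin n) (Fin n) F) *ᵥ Pi.single z 1
  obtain ⟨S, hS, a1, a2⟩ := two_zero hf hF hσ hq (by omega) hM hph hno hy1 h12 hz1 hz2
  obtain ⟨S', hS', b1, b3⟩ := two_zero hf hF hσ hq (by omega) hM hph hno hy1 h13 hz1 hz3
  have hinv : ¬ Mon y'⁻¹ := fun h => hy2 (mon_inv hf hσ (hM hy1) h)
  have h2 : 2 ≤ #(sp (c z1)) := by
    by_contra h
    exact hno ⟨y'⁻¹, M.inv_mem hy1, hinv, z1, by simp only [c] at h; omega⟩
  have e1 : sp (c z1) = S := eq_of_subset_of_card_le a1 (hS.trans h2)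
  have e2 : sp (c z1) = S' := eq_of_subset_of_card_le b1 (hS'.trans h2)
  rw [← e1] at a2
  rw [← e2] at b3
  obtain ⟨p, r, hpr, hs⟩ := card_eq_two.1 (le_antisymm (e1 ▸ hS) h2)
  have hmem : ∀ v, sp v ⊆ sp (c z1) →
      v ∈ Submodule.span F ({Pi.single p 1, Pi.single r 1} : Set (Fin n → F)) := by
    intro v hv
    refine Submodule.mem_span_pair.2 ⟨v p, v r, funext fun m => ?_⟩
    rcases eq_or_ne m p with rfl | a
    · simp [hpr]
    rcases eq_or_ne m r with rfl | b
    · simp [hpr.symm]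
    · have : v m = 0 := notMem_sp.1 fun h => by
        have := hv h
        simp [hs, a, b] at this
      simp [this, a, b]
  have hli : LinearIndependent F fun i : Fin 3 => (⟨c (![z1, z2, z3] i), by
      fin_cases i
      · exact hmem _ subset_rfl
      · exact hmem _ a2
      · exact hmem _ b3⟩ : Submodule.span F ({Pi.single p 1, Pi.single r 1} : Set (Fin n → F))) := by
    refine LinearIndependent.of_comp (Submodule.subtype _) ?_
    exact (gl_cols_independent y'⁻¹).comp ![z1, z2, z3] (by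
      intro i i' h
      fin_cases i <;> fin_cases i' <;>
        simp [h12, h13, h23, h12.symm, h13.symm, h23.symm] at h ⊢)
  have h3 := hli.fintype_card_le_finrank
  have h4 : Module.finrank F
      (Submodule.span F ({Pi.single p 1, Pi.single r 1} : Set (Fin n → F))) ≤ 2 := by
    have := finrank_span_finset_le_card (R := F)
      ({Pi.single p 1, Pi.single r 1} : Finset (Fin n → F))
    rw [Finset.coe_insert, Finset.coe_singleton] at this
    exact this.trans Finset.card_le_two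
  rw [Fintype.card_fin] at h3
  omega

theorem gOne_of_unit (hf : Geo.IsUnitaryForm σ (hermForm n F q)) (hσ : ∀ x, σ x = x ^ q) (hn : 4 ≤ n)
    (hM : M ≤ isoGrp (hermForm n F q)) (hph : Phases σ M) {y : GL (Fin n) F} (hy : y ∈ M)
    (hfull : ∀ i, n ≤ #(sp (((y⁻¹ : GL (Fin n) F) : Matrix (Fin n) (Fin n) F) *ᵥ Pi.single i 1)) + 1)
    {j z : Fin n} (hjz : ((y : Matrix (Fin n) (Fin n) F) *ᵥ Pi.single j 1) z = 0) {μ : F}
    (hμ : μ * σ μ = 1) (hμn : μ ^ n ≠ 1) : GOne M := by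
  classical
  set w := (y : Matrix (Fin n) (Fin n) F) *ᵥ Pi.single j 1
  obtain ⟨θ, hθ, hθi⟩ := ph_fix (σ := σ) (r := fun _ => μ) (fun _ => hμ) z
  have hθz : θ z * μ ^ (n - 1) = 1 := by
    have := hθ.2
    rw [← mul_prod_erase univ _ (mem_univ z), prod_congr rfl fun m hm => hθi m (mem_erase.1 hm).1,
      prod_const, card_erase_of_mem (mem_univ z), card_univ, Fintype.card_fin] at this
    exact this
  have hne : θ z - μ ≠ 0 := fun h => hμn (by
    rw [sub_eq_zero.1 h, ← pow_succ', show n - 1 + 1 = n by omega] at hθz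
    exact hθz)
  obtain ⟨g, hg, hgx⟩ := hph θ hθ
  set h := y⁻¹ * g * y
  have hh : h ∈ M := M.mul_mem (M.mul_mem (M.inv_mem hy) hg) hy
  set x := ((y⁻¹ : GL (Fin n) F) : Matrix (Fin n) (Fin n) F) *ᵥ Pi.single z 1 with hx
  have hhv : ∀ v, (h : Matrix (Fin n) (Fin n) F) *ᵥ v =
      μ • v + ((θ z - μ) * ((y : Matrix (Fin n) (Fin n) F) *ᵥ v) z) • x := by
    intro v
    have e : (g : Matrix (Fin n) (Fin n) F) *ᵥ ((y : Matrix (Fin n) (Fin n) F) *ᵥ v) =
        μ • ((y : Matrix (Fin n) (Fin n) F) *ᵥ v) +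
          ((θ z - μ) * ((y : Matrix (Fin n) (Fin n) F) *ᵥ v) z) • Pi.single z 1 := by
      funext m
      rw [hgx]
      rcases eq_or_ne m z with rfl | hm
      · simp; ring
      · simp [hθi m hm, hm]
    rw [show (h : Matrix (Fin n) (Fin n) F) *ᵥ v = _ from by rw [mul_mulVec, mul_mulVec], e,
      mulVec_add, mulVec_smul, mulVec_smul, inv_mulVec_mulVec]
  obtain ⟨i, hi⟩ : ∃ i, i ∈ sp x := card_pos.1 (by have := hfull z; rw [← hx] at this; omega)
  refine ⟨h, hh, not_mon_of (j := i) ?_, j, single_col (c := μ) ?_⟩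
  · have hsub : (sp x).erase i ⊆ sp ((h : Matrix (Fin n) (Fin n) F) *ᵥ Pi.single i 1) := by
      intro m hm
      obtain ⟨hmi, hm⟩ := mem_erase.1 hm
      rw [mem_sp, hhv]
      simp only [Pi.add_apply, Pi.smul_apply, Pi.single_eq_of_ne hmi, smul_eq_mul, mul_zero,
        zero_add]
      refine mul_ne_zero (mul_ne_zero hne ?_) (mem_sp.1 hm)
      have := mem_sp.1 hi
      rw [hx, entry_inv hf hσ (hM hy)] at this
      simpa using this
    refine le_trans ?_ (card_le_card hsub)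
    have := hfull z
    rw [← hx] at this
    rw [card_erase_of_mem hi]
    omega
  · rw [hhv, show ((y : Matrix (Fin n) (Fin n) F) *ᵥ Pi.single j 1) z = 0 from hjz, mul_zero,
      zero_smul, add_zero]

theorem gOne_of_swap (hf : Geo.IsUnitaryForm σ (hermForm n F q)) (hσ : ∀ x, σ x = x ^ q)
    (hn : 6 ≤ n) (hM : M ≤ isoGrp (hermForm n F q)) (hS : HasMon (hermForm n F q) M)
    (h2 : (2 : F) ≠ 0) {y : GL (Fin n) F} (hy : y ∈ M)
    (hfull : ∀ i, n ≤ #(sp (((y⁻¹ : GL (Fin n) F) : Matrix (Fin n) (Fin n) F) *ᵥ Pi.single i 1)) + 1)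
    {j z a b : Fin n} (hjz : ((y : Matrix (Fin n) (Fin n) F) *ᵥ Pi.single j 1) z = 0)
    (hab : a ≠ b) (haz : a ≠ z) (hbz : b ≠ z)
    (hb : ((y : Matrix (Fin n) (Fin n) F) *ᵥ Pi.single j 1) b ≠ 0)
    (hN : ((y : Matrix (Fin n) (Fin n) F) *ᵥ Pi.single j 1) a *
        σ (((y : Matrix (Fin n) (Fin n) F) *ᵥ Pi.single j 1) a) =
      ((y : Matrix (Fin n) (Fin n) F) *ᵥ Pi.single j 1) b *
        σ (((y : Matrix (Fin n) (Fin n) F) *ᵥ Pi.single j 1) b)) :
    GOne M := by
  classical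
  set w := (y : Matrix (Fin n) (Fin n) F) *ᵥ Pi.single j 1
  have ha : w a ≠ 0 := fun h => by
    rw [h, zero_mul, eq_comm, mul_eq_zero] at hN
    rcases hN with h' | h' <;> simp_all
  set cc : Fˣ := Units.mk0 (w a / w b) (div_ne_zero ha hb)
  have hcc : (cc : F) * σ cc = 1 := by
    have : σ (w b) ≠ 0 := by simpa using hb
    simp only [cc, Units.val_mk0, map_div₀]
    field_simp
    linear_combination hN
  set d : Fin n → Fˣ := fun i => if i = a then cc else if i = b then cc⁻¹ else if i = z then -1 else 1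
  have hd : ∀ i, (d i : F) * σ (d i) = 1 := fun i => by
    simp only [d]
    split_ifs
    · exact hcc
    · rw [Units.val_inv_eq_inv_val, map_inv₀, ← mul_inv, hcc, inv_one]
    · simp
    · simp
  set π := mp (Equiv.swap a b) d
  have hπi : π ∈ isoGrp (hermForm n F q) := mp_iso hf hσ _ hd
  have hπ : π ∈ M := hS π ⟨hπi, by
    show π ∈ Geo.specialLinear (Fin n) F
    rw [mem_specialLinear_iff, mp_det, Equiv.Perm.sign_swap hab,
      ← prod_subset (subset_univ ({a, b, z} : Finset (Fin n))) (fun i _ hi => by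
        simp only [mem_insert, Finset.mem_singleton, not_or] at hi
        simp [d, hi.1, hi.2.1, hi.2.2]), prod_insert (by simp [hab, haz]),
      prod_insert (by simp [hbz]), prod_singleton]
    simp [d, hab.symm, haz.symm, hbz.symm]⟩ (mp_mon _ _)
  have hπv : ∀ v m, ((π : Matrix (Fin n) (Fin n) F) *ᵥ v) m = (d m : F) * v (Equiv.swap a b m) :=
    fun v m => mp_apply _ _ _ _
  set h := y⁻¹ * π * y
  have hh : h ∈ M := M.mul_mem (M.mul_mem (M.inv_mem hy) hπ) hy
  set Yi := ((y⁻¹ : GL (Fin n) F) : Matrix (Fin n) (Fin n) F)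
  set p : Fin n → F := Yi *ᵥ (Pi.single a 1 - ((cc⁻¹ : Fˣ) : F) • Pi.single b 1)
  set x := Yi *ᵥ Pi.single z 1
  have hhv : ∀ v, (h : Matrix (Fin n) (Fin n) F) *ᵥ v - v =
      ((cc : F) * ((y : Matrix (Fin n) (Fin n) F) *ᵥ v) b - ((y : Matrix (Fin n) (Fin n) F) *ᵥ v) a) • p +
        (-2 * ((y : Matrix (Fin n) (Fin n) F) *ᵥ v) z) • x := by
    intro v
    set u := (y : Matrix (Fin n) (Fin n) F) *ᵥ v
    have e : (π : Matrix (Fin n) (Fin n) F) *ᵥ u = u +
        (((cc : F) * u b - u a) • (Pi.single a 1 - ((cc⁻¹ : Fˣ) : F) • Pi.single b 1) +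
          (-2 * u z) • Pi.single z 1) := by
      funext m
      rw [hπv]
      rcases eq_or_ne m a with rfl | h1
      · simp [d, hab, haz]
      rcases eq_or_ne m b with rfl | h2'
      · simp [d, hab.symm, hbz]
        field_simp
        ring
      rw [Equiv.swap_apply_of_ne_of_ne h1 h2']
      rcases eq_or_ne m z with rfl | h3
      · simp [d, h1, h2']
        ring
      · simp [d, h1, h2', h3]
    rw [show (h : Matrix (Fin n) (Fin n) F) *ᵥ v = _ from by rw [mul_mulVec, mul_mulVec], e,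
      mulVec_add, mulVec_add, mulVec_smul, mulVec_smul, inv_mulVec_mulVec, add_sub_cancel_left]
  refine ⟨h, hh, fun hm => ?_, j, single_col (c := 1) ?_⟩
  · -- the axis would be spanned by at most four coordinates
    set R := Submodule.span F ({p, x} : Set (Fin n → F))
    have hR : ∀ v, (h : Matrix (Fin n) (Fin n) F) *ᵥ v - v ∈ R := fun v => by
      rw [hhv]
      exact Submodule.add_mem _ (Submodule.smul_mem _ _ (Submodule.subset_span (Or.inl rfl)))
        (Submodule.smul_mem _ _ (Submodule.subset_span (Or.inr rfl)))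
    have h2' : Module.finrank F R ≤ 2 := by
      have := finrank_span_finset_le_card (R := F) ({p, x} : Finset (Fin n → F))
      rw [Finset.coe_insert, Finset.coe_singleton] at this
      exact this.trans Finset.card_le_two
    have e : (h : Matrix (Fin n) (Fin n) F) *ᵥ x - x = (-2 : F) • x := by
      rw [hhv, show (y : Matrix (Fin n) (Fin n) F) *ᵥ x = Pi.single z 1 from mulVec_inv_mulVec y _]
      simp [haz, hbz]
    have hle := (small_image hm hR x).trans (Nat.mul_le_mul_right _ h2')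
    rw [e, show sp ((-2 : F) • x) = sp x by ext m; simp [mem_sp, h2]] at hle
    have : n ≤ #(sp x) + 1 := hfull z
    omega
  · have e := hhv (Pi.single j 1)
    rw [show ((y : Matrix (Fin n) (Fin n) F) *ᵥ Pi.single j 1) = w from rfl, hjz, mul_zero, zero_smul,
      add_zero, show (cc : F) * w b - w a = 0 by
        simp only [cc, Units.val_mk0]; rw [div_mul_cancel₀ _ hb, sub_self], zero_smul, sub_eq_zero] at e
    rw [e, one_smul]

theorem gOne_odd (hf : Geo.IsUnitaryForm σ (hermForm n F q)) (hF : Fintype.card F = q ^ 2)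
    (hσ : ∀ x, σ x = x ^ q) (hq : 3 ≤ q) {m : ℕ} (hm : 3 ≤ m) (hnm : n = m * 2) (hM : M ≤ isoGrp (hermForm n F q))
    (hph : Phases σ M) (hS : HasMon (hermForm n F q) M) (h2 : (2 : F) ≠ 0) {g : GL (Fin n) F}
    (hg : g ∈ M) (hg' : ¬ Mon g) : GOne M := by
  classical
  by_contra hno
  obtain ⟨y, hy, hy', j, z, hjz⟩ := exists_zero hf hF hσ hm hnm hM hS hg hg'
  have hfull := fun y (hy : y ∈ M) (hy' : ¬ Mon y) => no_two hf hF hσ hq (by omega) hM hph hno hy hy'
  have hyi := hfull y⁻¹ (M.inv_mem hy) fun h => hy' (mon_inv hf hσ (hM hy) h)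
  by_cases hμ : ∃ μ : F, μ * σ μ = 1 ∧ μ ^ n ≠ 1
  · obtain ⟨μ, hμ, hμn⟩ := hμ
    exact hno (gOne_of_unit hf hσ (by omega) hM hph hy hyi hjz hμ hμn)
  push Not at hμ
  have hqn : q + 1 ≤ n := by
    rw [← card_cs hF hσ]
    refine (card_le_card (t := (Polynomial.nthRoots n (1 : F)).toFinset) fun μ hm => ?_).trans
      ((Multiset.toFinset_card_le _).trans (Polynomial.card_nthRoots n 1))
    rw [Multiset.mem_toFinset, Polynomial.mem_nthRoots (by omega)]
    exact hμ μ (mem_cs.1 hm)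
  set w := (y : Matrix (Fin n) (Fin n) F) *ᵥ Pi.single j 1
  have hsp : ∀ i, i ≠ z → w i ≠ 0 := by
    intro i hi h0
    have hcard : n ≤ #(sp w) + 1 := hfull y hy hy' j
    have hsub : sp w ⊆ univ \ {i, z} := fun m hm => by
      rw [Finset.mem_sdiff]
      refine ⟨mem_univ _, fun h => ?_⟩
      simp only [mem_insert, Finset.mem_singleton] at h
      rcases h with rfl | rfl
      · exact mem_sp.1 hm h0
      · exact mem_sp.1 hm hjz
    have := card_le_card hsub
    rw [card_sdiff_of_subset (subset_univ _), card_univ, Fintype.card_fin, card_pair hi] at this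
    omega
  obtain ⟨a, ha, b, hb, hab, he⟩ := exists_ne_map_eq_of_card_lt_of_maps_to
    (s := univ.erase z) (t := (fx σ).erase 0) (f := fun i => w i * σ (w i))
    (by rw [card_erase_of_mem (mem_univ z), card_univ, Fintype.card_fin,
      card_erase_of_mem (mem_fx.2 (map_zero σ)), card_fx hF hσ]; omega)
    (fun i hi => by
      have h0 := hsp i (mem_erase.1 hi).1
      exact mem_erase.2 ⟨mul_ne_zero h0 (by simpa using h0), mem_fx.2 (by
        rw [map_mul, u_inv hf, mul_comm])⟩)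
  exact hno (gOne_of_swap hf hσ (by omega) hM hS h2 hy hyi hjz hab (mem_erase.1 ha).1 (mem_erase.1 hb).1
    (hsp b (mem_erase.1 hb).1) he)

/-- In characteristic two `(q + 1) ∣ n` gives `2 (q + 1) ≤ n` for even `n`. -/
theorem two_mul_le_of_pow (hF : Fintype.card F = q ^ 2) (hσ : ∀ x, σ x = x ^ q) (h2 : (2 : F) = 0)
    (hn0 : 0 < n) (hn : 2 ∣ n) (hμ : ∀ μ : F, μ * σ μ = 1 → μ ^ n = 1) : 2 * (q + 1) ≤ n := by
  classical
  have hodd : ¬ 2 ∣ q + 1 := by
    intro h
    obtain ⟨r, hr⟩ := h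
    obtain ⟨s, hs⟩ : ∃ s, q = 2 * s + 1 := ⟨r - 1, by omega⟩
    have h0 : (q : F) = 0 := Unitary.natCast_q_eq_zero hF
    rw [hs] at h0
    push_cast at h0
    exact one_ne_zero (α := F) (by linear_combination h0 - (s : F) * h2)
  have hg0 : 0 < Nat.gcd n (q + 1) := Nat.gcd_pos_of_pos_left _ hn0
  have hle : q + 1 ≤ Nat.gcd n (q + 1) := by
    rw [← card_cs hF hσ]
    refine (card_le_card (t := (Polynomial.nthRoots (Nat.gcd n #(cs σ)) (1 : F)).toFinset)
      fun μ hm => ?_).trans ((Multiset.toFinset_card_le _).trans (Polynomial.card_nthRoots _ 1))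
    rw [card_cs hF hσ, Multiset.mem_toFinset, Polynomial.mem_nthRoots hg0]
    have h1 := mem_cs.1 hm
    exact pow_gcd_eq_one.2 ⟨hμ μ h1, by rw [pow_succ', ← hσ]; exact h1⟩
  obtain ⟨j, hj⟩ : q + 1 ∣ n := by
    rw [← le_antisymm (Nat.le_of_dvd (by omega) (Nat.gcd_dvd_right n (q + 1))) hle]
    exact Nat.gcd_dvd_left _ _
  rcases (show j = 0 ∨ j = 1 ∨ 2 ≤ j by omega) with h | h | h
  · rw [hj, h, mul_zero] at hn0; omega
  · rw [hj, h, mul_one] at hn; exact absurd hn hodd
  · rw [hj, mul_comm 2]; exact Nat.mul_le_mul_left _ h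

/-- Phases on three pairs with value one. -/
theorem exists_six (hF : Fintype.card F = q ^ 2) (hσ : ∀ x, σ x = x ^ q) (hq : 4 ≤ q)
    (h2 : (2 : F) = 0) {a b : F} (ha : σ a = a) (hb : σ b = b) (ha0 : a ≠ 0) (hb0 : b ≠ 0) :
    ∃ A A' B B' C : F, A * σ A = 1 ∧ A' * σ A' = 1 ∧ B * σ B = 1 ∧ B' * σ B' = 1 ∧ C * σ C = 1 ∧
      A ≠ 1 ∧ A' ≠ 1 ∧ B ≠ 1 ∧ A * A' * (B * B') * (C * C) = 1 ∧ a * (A + A') + b * (B + B') = 1 := by
  classical
  have hinv : ∀ l : F, l * σ l = 1 → σ l = l⁻¹ := fun l hl => eq_inv_of_mul_eq_one_right hl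
  have hfix : ∀ l : F, l * σ l = 1 → σ (l + σ l) = l + σ l := fun l hl => by
    rw [map_add, hinv l hl, map_inv₀, hinv l hl, inv_inv, add_comm]
  have key : ∀ r s : F, σ r = r → r ≠ 0 → σ s = s →
      ((cs σ).image fun l => r * (l + σ l) + s) ⊆ fx σ ∧
        q + 1 ≤ 2 * #((cs σ).image fun l => r * (l + σ l) + s) := by
    intro r s hr hr0 hs
    refine ⟨fun y hy => ?_, ?_⟩
    · obtain ⟨l, hl, rfl⟩ := mem_image.1 hy
      rw [mem_fx, map_add, map_mul, hr, hs, hfix l (mem_cs.1 hl)]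
    · refine (card_cs hF hσ).ge.trans (card_le_mul_card_image _ 2 fun y hy => ?_)
      obtain ⟨l, hl, rfl⟩ := mem_image.1 hy
      refine (card_le_card (t := {l, σ l}) fun k hk => ?_).trans card_le_two
      obtain ⟨hk, he⟩ := mem_filter.1 hk
      have h1 := mem_cs.1 hl
      have h3 := mem_cs.1 hk
      have he' : k + σ k = l + σ l := mul_left_cancel₀ hr0 (by linear_combination he)
      have : (k - l) * (k - σ l) = 0 := by linear_combination k * he' - h3 + h1
      rcases mul_eq_zero.1 this with h | h <;> simp [sub_eq_zero.1 h]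
  obtain ⟨s1, c1⟩ := key a 0 ha ha0 (map_zero σ)
  obtain ⟨s2, c2⟩ := key (-b) 1 (by rw [map_neg, hb]) (neg_ne_zero.2 hb0) (map_one σ)
  obtain ⟨y, hy⟩ := inter_nonempty_of_card_lt_card_add_card s1 s2 (by rw [card_fx hF hσ]; omega)
  obtain ⟨l, hl, rfl⟩ := mem_image.1 (mem_inter.1 hy).1
  obtain ⟨m, hm, he⟩ := mem_image.1 (mem_inter.1 hy).2
  rw [mem_cs] at hl hm
  obtain ⟨ν, hν, hν1⟩ := exists_mem_ne (a := (1 : F)) (s := cs σ) (by rw [card_cs hF hσ]; omega)
  rw [mem_cs] at hν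
  have hν0 := ne_zero_of_norm hν
  have hνi : ν⁻¹ * σ ν⁻¹ = 1 := by rw [map_inv₀, ← mul_inv, hν, inv_one]
  have hsl : σ l * σ (σ l) = 1 := by rw [← map_mul, hl, map_one]
  have hsm : σ m * σ (σ m) = 1 := by rw [← map_mul, hm, map_one]
  have hσ1 : ∀ x : F, σ x = 1 → x = 1 := fun x hx => σ.injective (hx.trans (map_one σ).symm)
  by_cases hl1 : l = 1
  · have hm1 : m ≠ 1 := fun h => by
      rw [hl1, h, map_one] at he
      exact one_ne_zero (α := F) (by linear_combination he + (a + b) * h2)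
    refine ⟨ν, ν, m, σ m, ν⁻¹, hν, hν, hm, hsm, hνi, hν1, hν1, hm1, ?_, ?_⟩
    · rw [hm]; field_simp
    · rw [hl1, map_one] at he
      linear_combination -he + (a * ν - a) * h2
  by_cases hm1 : m = 1
  · refine ⟨l, σ l, ν, ν, ν⁻¹, hl, hsl, hν, hν, hνi, hl1, fun h => hl1 (hσ1 l h), hν1, ?_, ?_⟩
    · rw [hl]; field_simp
    · rw [hm1, map_one] at he
      linear_combination -he + (b * ν - b) * h2
  · refine ⟨l, σ l, m, σ m, 1, hl, hsl, hm, hsm, by simp, hl1, fun h => hl1 (hσ1 l h), hm1, ?_, ?_⟩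
    · rw [hl, hm]; ring
    · linear_combination -he

theorem gOne_even (hf : Geo.IsUnitaryForm σ (hermForm n F q)) (hF : Fintype.card F = q ^ 2)
    (hσ : ∀ x, σ x = x ^ q) (hq : 4 ≤ q) {m : ℕ} (hm : 3 ≤ m) (hnm : n = m * 2) (hM : M ≤ isoGrp (hermForm n F q))
    (hph : Phases σ M) (hS : HasMon (hermForm n F q) M) (h2 : (2 : F) = 0) {g : GL (Fin n) F}
    (hg : g ∈ M) (hg' : ¬ Mon g) : GOne M := by
  classical
  by_contra hno
  have hfullc := fun y (hy : y ∈ M) (hy' : ¬ Mon y) => no_two hf hF hσ (by omega) (by omega) hM hph hno hy hy'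
  obtain ⟨y, hy, hy', j, z, hjz⟩ := exists_zero hf hF hσ hm hnm hM hS hg hg'
  by_cases hμ : ∃ μ : F, μ * σ μ = 1 ∧ μ ^ n ≠ 1
  · obtain ⟨μ, hμ, hμn⟩ := hμ
    exact hno (gOne_of_unit hf hσ (by omega) hM hph hy
      (hfullc y⁻¹ (M.inv_mem hy) fun h => hy' (mon_inv hf hσ (hM hy) h)) hjz hμ hμn)
  push Not at hμ
  have hqn := two_mul_le_of_pow hF hσ h2 (n := n) (by omega) ⟨m, by omega⟩ hμ
  have hcol := hfullc g hg hg'
  set a : Fin n := ⟨0, by omega⟩
  set b : Fin n := ⟨1, by omega⟩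
  have hab : a ≠ b := by simp [a, b]
  have hone : σ (1 : F) = -1 := by rw [map_one]; linear_combination h2
  -- a transposition
  have htr : ∀ θ : F, θ * σ θ = 1 →
      hermForm n F q (Pi.single a 1 + θ • Pi.single b 1) (Pi.single a 1 + θ • Pi.single b 1) = 0 ∧
      ut hf (Pi.single a 1 + θ • Pi.single b 1) 1 ∈ M := by
    intro θ hθ
    set v : Fin n → F := Pi.single a 1 + θ • Pi.single b 1
    have hv : ∀ i, i ≠ a → i ≠ b → v i = 0 := fun i h1 h2 => by simp [v, h1, h2]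
    have hva : v a = 1 := by simp [v, hab]
    have hvb : v b = θ := by simp [v, hab.symm]
    have hvv : hermForm n F q v v = 0 := by
      rw [norm_two hσ hab hv, hva, hvb, map_one, hθ]; linear_combination h2
    refine ⟨hvv, hS _ ⟨ut_mem_iso hf hvv hone, ut_mem_sl hf v 1⟩ fun i => ?_⟩
    have e : ∀ m, ((ut hf v 1 : Matrix (Fin n) (Fin n) F) *ᵥ Pi.single i 1) m =
        (Pi.single i 1 : Fin n → F) m + σ (v i) * v m := fun m => by
      rw [ut_mulVec hf hvv, ← u_conj hf v, herm_single_right' hσ]; simp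
    refine card_le_one.2 fun m hm m' hm' => ?_
    rw [mem_sp, e] at hm hm'
    rcases eq_or_ne i a with rfl | hia
    · have : ∀ m, (Pi.single a 1 : Fin n → F) m + σ (v a) * v m ≠ 0 → m = b := fun m hm => by
        by_contra hmb
        apply hm
        rcases eq_or_ne m a with rfl | hma
        · rw [hva]; simp; linear_combination h2
        · simp [hv m hma hmb, hma]
      rw [this m hm, this m' hm']
    rcases eq_or_ne i b with rfl | hib
    · have : ∀ m, (Pi.single b 1 : Fin n → F) m + σ (v b) * v m ≠ 0 → m = a := fun m hm => by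
        by_contra hma
        apply hm
        rcases eq_or_ne m b with rfl | hmb
        · rw [hvb, Pi.single_eq_same]; linear_combination hθ + h2
        · simp [hv m hma hmb, hmb]
      rw [this m hm, this m' hm']
    · simp only [hv i hia hib, map_zero, zero_mul, add_zero, ne_eq] at hm hm'
      rw [Pi.single_apply, ite_eq_right_iff, Classical.not_imp] at hm hm'
      rw [hm.1, hm'.1]
  set col := fun c => (g : Matrix (Fin n) (Fin n) F) *ᵥ Pi.single c 1
  obtain ⟨x, hxx, hxU, hx3⟩ : ∃ x : Fin n → F, hermForm n F q x x = 0 ∧ ut hf x 1 ∈ M ∧ 3 ≤ #(sp x) := by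
    by_contra hcon
    push Not at hcon
    have hsmall : ∀ θ, θ * σ θ = 1 → #(sp (col a + θ • col b)) ≤ 2 := by
      intro θ hθ
      obtain ⟨hvv, hmem⟩ := htr θ hθ
      set v : Fin n → F := Pi.single a 1 + θ • Pi.single b 1
      have e : col a + θ • col b = (g : Matrix (Fin n) (Fin n) F) *ᵥ v := by
        simp only [v, col, mulVec_add, mulVec_smul]
      rw [e]
      have := hcon _ (by rw [mem_isoGrp.1 (hM hg)]; exact hvv)
        (conj_ut hf (hM hg) hvv 1 ▸ M.mul_mem (M.mul_mem hg hmem) (M.inv_mem hg))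
      omega
    obtain ⟨t, ht, ht1⟩ := exists_mem_ne (a := (1 : F)) (s := cs σ) (by rw [card_cs hF hσ]; omega)
    have hsub : sp (col b) ⊆ sp (col a + (1 : F) • col b) ∪ sp (col a + t • col b) := by
      intro m hm
      by_contra hc
      rw [Finset.mem_union, not_or, notMem_sp, notMem_sp] at hc
      simp only [Pi.add_apply, Pi.smul_apply, smul_eq_mul] at hc
      refine mem_sp.1 hm ((mul_eq_zero.1 (show (t - 1) * col b m = 0 by
        linear_combination hc.2 - hc.1)).resolve_left (sub_ne_zero.2 ht1))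
    have := (card_le_card hsub).trans (card_union_le _ _)
    have := hsmall 1 (by simp)
    have := hsmall t (mem_cs.1 ht)
    have : n ≤ #(sp (col b)) + 1 := hcol b
    omega
  by_cases hzero : ∃ z, x z = 0
  · obtain ⟨z, hz⟩ := hzero
    exact hno (gOne_of_ut hf hσ hxx hxU hz hx3)
  push Not at hzero
  set N : Fin n → F := fun i => x i * σ (x i)
  have hN0 : ∀ i, N i ∈ (fx σ).erase 0 := fun i => mem_erase.2
    ⟨mul_ne_zero (hzero i) ((_root_.map_ne_zero σ).2 (hzero i)), mem_fx.2 (by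
      simp only [N, map_mul, u_inv hf, mul_comm])⟩
  have pick : ∀ S : Finset (Fin n), #S ≤ 4 → ∃ p r, p ∉ S ∧ r ∉ S ∧ p ≠ r ∧ N p = N r := by
    intro S hS
    obtain ⟨p, hp, r, hr, hpr, he⟩ := exists_ne_map_eq_of_card_lt_of_maps_to
      (s := Sᶜ) (t := (fx σ).erase 0) (f := N)
      (by rw [card_compl, Fintype.card_fin, card_erase_of_mem (mem_fx.2 (map_zero σ)), card_fx hF hσ]; omega)
      (fun i _ => hN0 i)
    exact ⟨p, r, Finset.mem_compl.1 hp, Finset.mem_compl.1 hr, hpr, he⟩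
  obtain ⟨a1, a2, -, -, h12, hN12⟩ := pick ∅ (by simp)
  obtain ⟨b1, b2, hb1, hb2, h34, hN34⟩ := pick {a1, a2} (card_le_two.trans (by omega))
  obtain ⟨c1, c2, hc1, hc2, h56, hN56⟩ := pick {a1, a2, b1, b2} card_le_four
  obtain ⟨k, -, hk⟩ := exists_mem_notMem_of_card_lt_card
    (s := ({a1, a2, b1, b2, c1, c2} : Finset (Fin n))) (t := univ)
    (by rw [card_univ, Fintype.card_fin]; exact lt_of_le_of_lt card_le_six (by omega))
  simp only [mem_insert, Finset.mem_singleton, not_or] at hb1 hb2 hc1 hc2 hk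
  have fN : ∀ i, σ (N i) = N i := fun i => mem_fx.1 (mem_erase.1 (hN0 i)).2
  obtain ⟨A, A', B, B', C, hA, hA', hB, hB', hC, hA1, hA1', hB1, hdet, hsum⟩ :=
    exists_six hF hσ hq h2 (fN a1) (fN b1) (mem_erase.1 (hN0 a1)).1 (mem_erase.1 (hN0 b1)).1
  set θ : Fin n → F := fun i => if i = a1 then A else if i = a2 then A' else if i = b1 then B
    else if i = b2 then B' else if i = c1 then C else if i = c2 then C else 1
  have t1 : θ a1 = A := by simp [θ]
  have t2 : θ a2 = A' := by simp [θ, h12.symm]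
  have t3 : θ b1 = B := by simp [θ, hb1.1, hb1.2]
  have t4 : θ b2 = B' := by simp [θ, hb2.1, hb2.2, h34.symm]
  have t5 : θ c1 = C := by simp [θ, hc1.1, hc1.2.1, hc1.2.2.1, hc1.2.2.2]
  have t6 : θ c2 = C := by simp [θ, hc2.1, hc2.2.1, hc2.2.2.1, hc2.2.2.2]
  have tn : ∀ i, i ∉ ({a1, a2, b1, b2, c1, c2} : Finset (Fin n)) → θ i = 1 := fun i hi => by
    simp only [mem_insert, Finset.mem_singleton, not_or] at hi
    simp [θ, hi]
  have hd1 : a1 ∉ ({a2, b1, b2, c1, c2} : Finset (Fin n)) := by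
    simp [h12, Ne.symm hb1.1, Ne.symm hb2.1, Ne.symm hc1.1, Ne.symm hc2.1]
  have hd2 : a2 ∉ ({b1, b2, c1, c2} : Finset (Fin n)) := by
    simp [Ne.symm hb1.2, Ne.symm hb2.2, Ne.symm hc1.2.1, Ne.symm hc2.2.1]
  have hd3 : b1 ∉ ({b2, c1, c2} : Finset (Fin n)) := by
    simp [h34, Ne.symm hc1.2.2.1, Ne.symm hc2.2.2.1]
  have hd4 : b2 ∉ ({c1, c2} : Finset (Fin n)) := by
    simp [Ne.symm hc1.2.2.2, Ne.symm hc2.2.2.2]
  have hθp : Ph σ θ := by
    refine ⟨fun i => by simp only [θ]; split_ifs <;> first | assumption | simp, ?_⟩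
    rw [← prod_subset (subset_univ _) (fun i _ hi => tn i hi), prod_insert hd1, prod_insert hd2,
      prod_insert hd3, prod_insert hd4, prod_pair h56, t1, t2, t3, t4, t5, t6]
    linear_combination hdet
  obtain ⟨t, ht, htx⟩ := hph θ hθp
  set x' := (t : Matrix (Fin n) (Fin n) F) *ᵥ x
  have hxx' : hermForm n F q x' x' = 0 := by
    simp only [x']; rw [mem_isoGrp.1 (hM ht), hxx]
  have hx'U : ut hf x' 1 ∈ M := conj_ut hf (hM ht) hxx 1 ▸ M.mul_mem (M.mul_mem ht hxU) (M.inv_mem ht)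
  have hfx : hermForm n F q x' x = 1 := by
    have h0 : ∑ i, N i = 0 := by rw [← hxx, herm_sum hσ]
    have e : hermForm n F q x' x = ∑ i, (θ i - 1) * N i + ∑ i, N i := by
      rw [herm_sum hσ, ← sum_add_distrib]
      exact sum_congr rfl fun i _ => by simp only [x', htx, N]; ring
    rw [e, h0, add_zero, ← sum_subset (subset_univ _) (fun i _ hi => by rw [tn i hi, sub_self, zero_mul]),
      sum_insert hd1, sum_insert hd2, sum_insert hd3, sum_insert hd4, sum_pair h56, t1, t2, t3, t4,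
      t5, t6, ← hN12, ← hN34, ← hN56]
    linear_combination hsum + ((C - 1) * N c1 - N a1 - N b1) * h2
  set x'' := (ut hf x 1 : Matrix (Fin n) (Fin n) F) *ᵥ x'
  have hx'' : hermForm n F q x'' x'' = 0 := by
    simp only [x'']; rw [mem_isoGrp.1 (hM hxU), hxx']
  have hx''U : ut hf x'' 1 ∈ M :=
    conj_ut hf (hM hxU) hxx' 1 ▸ M.mul_mem (M.mul_mem hxU hx'U) (M.inv_mem hxU)
  have hx''i : ∀ i, x'' i = (θ i - 1) * x i := fun i => by
    simp only [x'', ut_mulVec hf hxx, hfx, one_mul, Pi.add_apply, Pi.smul_apply, smul_eq_mul,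
      show x' i = θ i * x i from htx x i]
    linear_combination x i * h2
  refine hno (gOne_of_ut hf hσ hx'' hx''U (z := k) (by rw [hx''i, tn k (by simp [hk]), sub_self, zero_mul]) ?_)
  refine le_trans ?_ (card_le_card (s := ({a1, a2, b1} : Finset (Fin n))) fun i hi => ?_)
  · rw [card_insert_of_notMem (by simp [h12, Ne.symm hb1.1]), card_pair (Ne.symm hb1.2)]
  · rw [mem_sp, hx''i]
    refine mul_ne_zero (sub_ne_zero.2 ?_) (hzero i)
    simp only [mem_insert, Finset.mem_singleton] at hi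
    rcases hi with rfl | rfl | rfl
    · rwa [t1]
    · rwa [t2]
    · rwa [t3]

/-- A non-monomial element gives one fixing an axis. -/
theorem exists_gOne (hf : Geo.IsUnitaryForm σ (hermForm n F q)) (hF : Fintype.card F = q ^ 2)
    (hσ : ∀ x, σ x = x ^ q) (hq : 3 ≤ q) {m : ℕ} (hm : 3 ≤ m) (hnm : n = m * 2)
    (hM : M ≤ isoGrp (hermForm n F q)) (hph : Phases σ M) (hS : HasMon (hermForm n F q) M)
    {g : GL (Fin n) F} (hg : g ∈ M) (hg' : ¬ Mon g) : GOne M := by
  by_cases h2 : (2 : F) = 0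
  · refine gOne_even hf hF hσ ?_ hm hnm hM hph hS h2 hg hg'
    by_contra h
    have : q = 3 := by omega
    subst this
    have h3 : (3 : F) = 0 := by simpa using Unitary.natCast_q_eq_zero hF
    exact one_ne_zero (α := F) (by linear_combination h3 - h2)
  · exact gOne_odd hf hF hσ hq hm hnm hM hph hS h2 hg hg'

end Cfsg.Agent.H58.SUSmall
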