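import Cfsg.Agent.H63.UDec.Top

/-!
Overgroups over the field with four elements, in small dimension.
-/

set_option autoImplicit false

namespace Cfsg.Agent.H58.SUSmall

open scoped MatrixGroups Matrix
open Finset Matrix Cfsg Cfsg.Agent.H95 Cfsg.Agent.Symplectic
open Cfsg.Agent.H63.UDec hiding shrink four_all utIn_all_two top

section

variable {F : Type*} [Field F] [Fintype F] {n q : ℕ} {σ : F ≃+* F}
  {hf : Geo.IsUnitaryForm σ (hermForm n F q)} {M : Subgroup (GL (Fin n) F)}

variable (hF : Fintype.card F = q ^ 2) (hq : q = 2) (hσ : ∀ x, σ x = x ^ q)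

include hF hq hσ

variable (hM : M ≤ isoGrp (hermForm n F q)) (hph : Phases σ M)

include hM hph

/-- Shrinking to four coordinates. -/
theorem shrink (hn : 8 ≤ n) {P Q : Fin n} (hPQ : P ≠ Q) :
    ∀ (s : ℕ) (x : Fin n → F), #(sp x) = s → 4 ≤ s → hermForm n F q x x = 0 → UtIn hf M x →
      P ∈ sp x → Q ∈ sp x →
      ∃ y : Fin n → F, hermForm n F q y y = 0 ∧ UtIn hf M y ∧ #(sp y) = 4 ∧ P ∈ sp y ∧ Q ∈ sp y := by
  classical
  intro s
  induction s using Nat.strong_induction_on with
  | _ s ih =>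
  intro x hs h4 hxx hU hP hQ
  obtain ⟨r, hr⟩ := hs ▸ even_sp hF hq hσ hxx
  rcases eq_or_lt_of_le h4 with h | h
  · exact ⟨x, hxx, hU, by omega, hP, hQ⟩
  have hrest : #((sp x).erase P |>.erase Q) = s - 2 := by
    rw [card_erase_of_mem (mem_erase.2 ⟨hPQ.symm, hQ⟩), card_erase_of_mem hP, hs]; rfl
  have next : ∀ (A U : Finset (Fin n)), A ∩ sp x = {P} → U ⊆ ((sp x).erase P).erase Q →
      Disjoint A U → Even #U → 2 * #A + #U = 6 → 0 < #U → #U + 4 ≤ s →
      ∃ y : Fin n → F, hermForm n F q y y = 0 ∧ UtIn hf M y ∧ #(sp y) = 4 ∧ P ∈ sp y ∧ Q ∈ sp y := by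
    intro A U hA hUs hAU hUe hc hpos hle
    have hU' : U ⊆ sp x := hUs.trans ((erase_subset _ _).trans (erase_subset _ _))
    have hQU : Q ∉ U := fun h => (mem_erase.1 (hUs h)).1 rfl
    have hPU : P ∉ U := fun h => (mem_erase.1 (mem_of_mem_erase (hUs h))).1 rfl
    obtain ⟨y, hyy, hy, hsy⟩ := remove hF hq hσ hM hph hxx hU hP hQ hPQ hA hU' hAU hQU hUe hc
    have hcy : #(sp y) = s - #U := by rw [hsy, card_sdiff_of_subset hU', hs]
    exact ih _ (by omega) y hcy (by omega) hyy hy (by rw [hsy]; exact Finset.mem_sdiff.2 ⟨hP, hPU⟩)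
      (by rw [hsy]; exact Finset.mem_sdiff.2 ⟨hQ, hQU⟩)
  by_cases he : ∃ e, e ∉ sp x
  · obtain ⟨e, he⟩ := he
    obtain ⟨U, hUs, hUc⟩ := exists_subset_card_eq (n := 2)
      (show 2 ≤ #(((sp x).erase P).erase Q) by omega)
    refine next {P, e} U ?_ hUs ?_ (hUc ▸ even_two) ?_ (by omega) (by omega)
    · ext i
      simp only [mem_inter, mem_insert, Finset.mem_singleton]
      constructor
      · rintro ⟨h1 | h1, h2⟩
        · exact h1
        · exact absurd (h1 ▸ h2) he
      · rintro rfl; exact ⟨Or.inl rfl, hP⟩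
    · rw [disjoint_insert_left, disjoint_singleton_left]
      exact ⟨fun h => (mem_erase.1 (mem_of_mem_erase (hUs h))).1 rfl,
        fun h => he (mem_of_mem_erase (mem_of_mem_erase (hUs h)))⟩
    · rw [card_pair (fun h : P = e => he (h ▸ hP)), hUc]
  · push Not at he
    have hsn : s = n := by
      rw [← hs, Finset.eq_univ_iff_forall.2 he, card_univ, Fintype.card_fin]
    obtain ⟨U, hUs, hUc⟩ := exists_subset_card_eq (n := 4)
      (show 4 ≤ #(((sp x).erase P).erase Q) by omega)
    refine next {P} U (by simp [hP]) hUs ?_ (hUc ▸ by decide) (by simp [hUc]) (by omega) (by omega)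
    rw [disjoint_singleton_left]
    exact fun h => (mem_erase.1 (mem_of_mem_erase (hUs h))).1 rfl

/-- With all pairs, one vector on four coordinates gives all. -/
theorem four_all (hn : 5 ≤ n) (hall : ∀ a b : Fin n, a ≠ b → Pair hf M a b) {y : Fin n → F}
    (hy4 : #(sp y) = 4) :
    ∀ (d : ℕ) (x : Fin n → F), #(sp x \ sp y) = d → #(sp x) = 4 → hermForm n F q x x = 0 →
      UtIn hf M x → UtIn hf M y := by
  classical
  obtain ⟨h2, nz, -⟩ := four hF hq hσ
  intro d
  induction d with
  | zero =>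
    intro x hd h4 hxx hU
    have hs : sp x = sp y := Finset.eq_of_subset_of_card_le
      (Finset.sdiff_eq_empty_iff_subset.1 (card_eq_zero.1 hd)) (by omega)
    obtain ⟨e, -, he⟩ := exists_mem_notMem_of_card_lt_card (s := sp x) (t := univ)
      (by rw [card_univ, Fintype.card_fin]; omega)
    set r : Fin n → F := fun i => if i ∈ sp x then y i / x i else 1
    have hr0 : ∀ i, r i ≠ 0 := fun i => by
      simp only [r]
      split_ifs with h
      · exact div_ne_zero (mem_sp.1 (hs ▸ h)) (mem_sp.1 h)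
      · exact one_ne_zero
    set θ : Fin n → F := fun i => if i = e then (∏ j ∈ sp x, r j)⁻¹ else r i
    have hθ : Ph σ θ := by
      refine ⟨fun i => nz _ ?_, ?_⟩
      · simp only [θ]
        split_ifs
        · exact inv_ne_zero (prod_ne_zero_iff.2 fun j _ => hr0 j)
        · exact hr0 i
      · rw [← prod_subset (subset_univ (insert e (sp x))) (fun i _ hi => by
          rw [Finset.mem_insert, not_or] at hi; simp [θ, r, hi.1, hi.2]), prod_insert he,
          prod_congr rfl (fun i (hi : i ∈ sp x) => show θ i = r i from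
            if_neg fun h : i = e => he (h ▸ hi))]
        simp only [θ, if_pos rfl]
        exact inv_mul_cancel₀ (prod_ne_zero_iff.2 fun j _ => hr0 j)
    obtain ⟨g, hg, hgx⟩ := hph θ hθ
    have hgy : (g : Matrix (Fin n) (Fin n) F) *ᵥ x = y := by
      funext i
      rw [hgx]
      by_cases hi : i ∈ sp x
      · rw [show θ i = y i / x i by simp [θ, r, hi, show i ≠ e from fun h => he (h ▸ hi)],
          div_mul_cancel₀ _ (mem_sp.1 hi)]
      · rw [notMem_sp.1 hi, mul_zero, (notMem_sp.1 (fun h => hi (hs ▸ h)) : y i = 0)]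
    exact hgy ▸ hU.conj hf hxx hg (hM hg)
  | succ d ih =>
    intro x hd h4 hxx hU
    obtain ⟨a, ha⟩ := card_pos.1 (by omega : 0 < #(sp x \ sp y))
    obtain ⟨hax, hay⟩ := Finset.mem_sdiff.1 ha
    obtain ⟨b, hby, hbx⟩ : ∃ b ∈ sp y, b ∉ sp x := by
      by_contra h
      push Not at h
      exact hay (Finset.eq_of_subset_of_card_le h (by omega) ▸ hax)
    have hab : a ≠ b := fun h => hbx (h ▸ hax)
    let v : Fin n → F := fun i => if i = a ∨ i = b then 1 else 0
    have hv : ∀ i, i ≠ a → i ≠ b → v i = 0 := fun i h h' => by simp [v, h, h']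
    have hvv : hermForm n F q v v = 0 := by
      rw [norm_two hσ hab hv]; simp [v]; linear_combination h2
    have hxv : hermForm n F q x v = x a := by
      rw [← u_conj hf v x, norm_two hσ hab hv, map_add, map_mul, map_mul, u_inv hf, u_inv hf]
      simp [v, notMem_sp.1 hbx]
    have hl := skew_one (σ := σ) hF hσ h2
    have hU' := hU.conj hf hxx (hall a b hab v hv hvv 1 hl) (ut_mem_iso hf hvv hl)
    set x' := (ut hf v 1 : Matrix (Fin n) (Fin n) F) *ᵥ x
    have hxx' : hermForm n F q x' x' = 0 := by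
      simp only [x', mem_isoGrp.1 (ut_mem_iso hf hvv hl), hxx]
    have hx'i : ∀ i, x' i = x i + x a * v i := fun i => by
      simp only [x', ut_mulVec hf hvv, hxv, one_mul, Pi.add_apply, Pi.smul_apply, smul_eq_mul]
    have hs' : sp x' = insert b ((sp x).erase a) := by
      ext i
      rw [mem_sp, hx'i, Finset.mem_insert, mem_erase, mem_sp]
      rcases eq_or_ne i a with rfl | h1
      · simp [v, hab, show x i + x i = 0 by linear_combination x i * h2]
      rcases eq_or_ne i b with rfl | h2'
      · simp [v, notMem_sp.1 hbx, mem_sp.1 hax]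
      simp [hv i h1 h2', h1, h2']
    refine ih x' ?_ ?_ hxx' hU'
    · rw [hs', insert_sdiff_of_mem _ hby, erase_sdiff_comm, card_erase_of_mem ha]
      omega
    · rw [hs', card_insert_of_notMem (fun h => hbx (mem_of_mem_erase h)), card_erase_of_mem hax]
      omega

/-- All isotropic vectors from one on four coordinates. -/
theorem utIn_four (hn : 5 ≤ n) (hall : ∀ a b : Fin n, a ≠ b → Pair hf M a b) {y : Fin n → F}
    (hy4 : #(sp y) = 4) (hyy : hermForm n F q y y = 0) (hyU : UtIn hf M y) :
    ∀ x : Fin n → F, hermForm n F q x x = 0 → UtIn hf M x := by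
  classical
  obtain ⟨h2, nz, ω, hω, hω0, hω1, hσω⟩ := four hF hq hσ
  have hfour : ∀ x : Fin n → F, #(sp x) = 4 → UtIn hf M x := fun x hx =>
    four_all hF hq hσ hM hph hn hall hx _ y rfl hy4 hyy hyU
  suffices ∀ s, ∀ x : Fin n → F, #(sp x) = s → hermForm n F q x x = 0 → UtIn hf M x from
    fun x hx => this _ x rfl hx
  intro s
  induction s using Nat.strong_induction_on with
  | _ s ih =>
  intro x hs hxx
  obtain ⟨r, hr⟩ := hs ▸ even_sp hF hq hσ hxx
  rcases (show r = 0 ∨ r = 1 ∨ r = 2 ∨ 3 ≤ r by omega) with h | h | h | h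
  · have : x = 0 := funext fun i => notMem_sp.1 fun hi => by
      have := card_pos.2 ⟨i, hi⟩
      omega
    exact this ▸ utIn_zero
  · obtain ⟨u, w, huw, huw'⟩ := card_eq_two.1 (show #(sp x) = 2 by omega)
    exact hall u w huw x (fun i h1 h2 => notMem_sp.1 (by simp [huw', h1, h2])) hxx
  · exact hfour x (by omega)
  obtain ⟨J, hJs, hJ4⟩ := exists_subset_card_eq (s := sp x) (n := 4) (by omega)
  obtain ⟨j1, j2, l1, l2, h12, h13, h14, h23, h24, h34, hJ⟩ := card_eq_four.1 hJ4
  have hmem : ∀ i ∈ J, x i ≠ 0 := fun i hi => mem_sp.1 (hJs hi)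
  have hx1 : x j1 ≠ 0 := hmem _ (by simp [hJ])
  have hx2 : x j2 ≠ 0 := hmem _ (by simp [hJ])
  have hx3 : x l1 ≠ 0 := hmem _ (by simp [hJ])
  have hx4 : x l2 ≠ 0 := hmem _ (by simp [hJ])
  set y1 : Fin n → F := fun i => if i = j1 ∨ i = j2 then x i else if i = l1 then ω * x i
    else if i = l2 then ω * ω * x i else 0 with hy1def
  have hy1s : sp y1 = J := by
    ext i
    rw [mem_sp, hJ]
    simp only [hy1def, mem_insert, Finset.mem_singleton]
    split_ifs with a1 a2 a3
    · rcases a1 with rfl | rfl <;> simp [hx1, hx2]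
    · subst a2; simp [hx3, hω0]
    · subst a3; simp [hx4, hω0]
    · simp [a2, a3, not_or.1 a1]
  have hy1y1 : hermForm n F q y1 y1 = 0 := by
    rw [herm_sum hσ, ← sum_subset (subset_univ J) (fun i _ hi => by
      rw [(notMem_sp.1 (fun h => hi (hy1s ▸ h)) : y1 i = 0), zero_mul]), sum_congr rfl (fun i hi => nz _ (mem_sp.1 (hy1s ▸ hi))),
      sum_const, hJ4, nsmul_eq_mul]
    push_cast
    linear_combination 2 * h2
  have hfx : hermForm n F q x y1 = 1 := by
    rw [herm_sum hσ, ← sum_subset (subset_univ J) (fun i _ hi => by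
      rw [(notMem_sp.1 (fun h => hi (hy1s ▸ h)) : y1 i = 0), map_zero, mul_zero]), hJ]
    simp only [sum_insert, mem_insert, Finset.mem_singleton, h12, h13, h14, h23, h24, h34, or_self,
      not_false_eq_true, sum_singleton, hy1def, h12.symm, h13.symm, h14.symm, h23.symm, h24.symm,
      h34.symm, true_or, or_true, if_true, if_false, map_mul, hσω]
    linear_combination nz _ hx1 + nz _ hx2 + ω * ω * nz _ hx3 + ω * ω * ω * ω * nz _ hx4 +
      (1 : F) * h2 + (ω * ω - ω + 1) * hω - ω * 0 + (-1 : F) * h2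
  set y2 : Fin n → F := x - y1
  have hy2 : hermForm n F q y2 y2 = 0 := by
    simp only [y2, u_sub_left hf, u_sub_right hf, hxx, hy1y1, hfx, ← u_conj hf x y1, map_one]
    linear_combination (-1 : F) * h2
  have hsub : sp y2 ⊆ sp x \ {j1, j2} := fun i hi => by
    rw [mem_sp] at hi
    simp only [y2, Pi.sub_apply, hy1def] at hi
    rw [Finset.mem_sdiff, mem_sp]
    simp only [mem_insert, Finset.mem_singleton]
    by_cases a1 : i = j1 ∨ i = j2
    · simp [a1] at hi
    refine ⟨fun h0 => hi ?_, a1⟩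
    simp [h0]
  have hlt : #(sp y2) < s := by
    have := card_le_card hsub
    rw [card_sdiff_of_subset (by
      intro i hi
      simp only [mem_insert, Finset.mem_singleton] at hi
      rcases hi with rfl | rfl <;> rw [mem_sp] <;> assumption), card_pair h12] at this
    omega
  have hU2 := ih _ hlt y2 rfl hy2
  have hl := skew_one (σ := σ) hF hσ h2
  have hU' := hU2.conj hf hy2 (hfour y1 (hy1s ▸ hJ4) 1 hl) (ut_mem_iso hf hy1y1 hl)
  rwa [ut_mulVec hf hy1y1, show hermForm n F q y2 y1 = 1 by
    simp only [y2, u_sub_left hf, hy1y1, hfx, sub_zero], mul_one, one_smul, sub_add_cancel] at hU'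

/-- All isotropic vectors. -/
theorem utIn_all_two (hn : 8 ≤ n) (hall : ∀ a b : Fin n, a ≠ b → Pair hf M a b) {g : GL (Fin n) F}
    (hg : g ∈ M) {a : Fin n} (ha : 2 ≤ #(sp ((g : Matrix (Fin n) (Fin n) F) *ᵥ Pi.single a 1))) :
    ∀ x : Fin n → F, hermForm n F q x x = 0 → UtIn hf M x := by
  classical
  obtain ⟨h2, nz, ω, hω, hω0, hω1, hσω⟩ := four hF hq hσ
  set col : Fin n → Fin n → F := fun b => (g : Matrix (Fin n) (Fin n) F) *ᵥ Pi.single b 1
  obtain ⟨b, hba, hb⟩ : ∃ b, b ≠ a ∧ 4 ≤ #(sp (col a) ∪ sp (col b)) := by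
    by_contra h
    push Not at h
    obtain ⟨c, hca⟩ := exists_mem_ne (s := (univ : Finset (Fin n)))
      (by rw [card_univ, Fintype.card_fin]; omega) a
    have hA : #(sp (col a)) ≤ 3 := by
      have := h c hca.2
      have := card_le_card (subset_union_left (s₁ := sp (col a)) (s₂ := sp (col c)))
      omega
    have hodd : Odd #(sp (col a)) := by
      have e : hermForm n F q (col a) (col a) = 1 := by
        rw [mem_isoGrp.1 (hM hg), herm_single_right' hσ, Pi.single_eq_same]
      rcases Nat.even_or_odd #(sp (col a)) with he | ho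
      · exfalso
        obtain ⟨r, hr⟩ := he
        rw [herm_sum hσ, ← sum_subset (subset_univ (sp (col a))) (fun i _ hi => by
          rw [notMem_sp.1 hi, zero_mul]), sum_congr rfl (fun i hi => nz _ (mem_sp.1 hi)), sum_const,
          hr, nsmul_eq_mul] at e
        push_cast at e
        exact one_ne_zero (α := F) (by linear_combination (r : F) * h2 - e)
      · exact ho
    have hA3 : #(sp (col a)) = 3 := by
      have : 2 ≤ #(sp (col a)) := ha
      obtain ⟨r, hr⟩ := hodd
      omega
    have hsub : ∀ b, ∀ i, i ∉ sp (col a) → col b i = 0 := by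
      intro b i hi
      by_contra hne
      rcases eq_or_ne b a with rfl | hba
      · exact hi (mem_sp.2 hne)
      have := h b hba
      have h' : insert i (sp (col a)) ⊆ sp (col a) ∪ sp (col b) :=
        Finset.insert_subset (Finset.mem_union_right _ (mem_sp.2 hne)) subset_union_left
      have := card_le_card h'
      rw [card_insert_of_notMem hi] at this
      omega
    obtain ⟨i, -, hi⟩ := exists_mem_notMem_of_card_lt_card (s := sp (col a)) (t := univ)
      (by rw [card_univ, Fintype.card_fin]; omega)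
    have hrow : ∀ b, (g : Matrix (Fin n) (Fin n) F) i b = 0 := fun b => by
      rw [← mulVec_single_one_apply (g : Matrix (Fin n) (Fin n) F) b i]; exact hsub b i hi
    have := gl_entry_sum g i i
    simp [hrow] at this
  -- a vector of weight at least four
  have hv : ∀ θ : F, θ ≠ 0 → UtIn hf M (col a + θ • col b) ∧
      hermForm n F q (col a + θ • col b) (col a + θ • col b) = 0 := by
    intro θ hθ
    set v : Fin n → F := Pi.single a 1 + θ • Pi.single b 1
    have hsupp : ∀ i, i ≠ a → i ≠ b → v i = 0 := fun i h1 h2 => by simp [v, h1, h2]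
    have hvv : hermForm n F q v v = 0 := by
      rw [norm_two hσ hba.symm hsupp]
      simp [v, hba, hba.symm, nz θ hθ]
      linear_combination h2
    have e : col a + θ • col b = (g : Matrix (Fin n) (Fin n) F) *ᵥ v := by
      simp only [v, col, mulVec_add, mulVec_smul]
    rw [e]
    exact ⟨(hall a b hba.symm v hsupp hvv).conj hf hvv hg (hM hg), by rw [mem_isoGrp.1 (hM hg), hvv]⟩
  obtain ⟨θ, hθ, hbig⟩ : ∃ θ : F, θ ≠ 0 ∧ 2 < #(sp (col a + θ • col b)) := by
    by_contra h
    push Not at h
    set U := sp (col a) ∪ sp (col b)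
    set T : Finset F := {1, ω, ω * ω}
    have hT : #T = 3 := by
      rw [card_insert_of_notMem, card_pair]
      · exact fun h => hω1 ((mul_eq_right₀ hω0).1 h.symm)
      · simp only [mem_insert, Finset.mem_singleton, not_or]
        exact ⟨Ne.symm hω1, fun h => hω0 (by linear_combination hω + h - h2)⟩
    have hT0 : ∀ t ∈ T, t ≠ 0 := by
      intro t ht
      simp only [T, mem_insert, Finset.mem_singleton] at ht
      rcases ht with rfl | rfl | rfl
      · exact one_ne_zero
      · exact hω0
      · exact mul_ne_zero hω0 hω0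
    have key : ∀ i ∈ U, 2 ≤ #(T.filter fun t => i ∈ sp (col a + t • col b)) := by
      intro i hi
      have hz : #(T.filter fun t => i ∉ sp (col a + t • col b)) ≤ 1 := by
        refine card_le_one.2 fun t ht t' ht' => ?_
        simp only [mem_filter, notMem_sp, Pi.add_apply, Pi.smul_apply, smul_eq_mul] at ht ht'
        by_contra hne
        have hb0 : col b i = 0 := (mul_eq_zero.1 (show (t - t') * col b i = 0 by
          linear_combination ht.2 - ht'.2)).resolve_left (sub_ne_zero.2 hne)
        have ha0 : col a i = 0 := by simpa [hb0] using ht.2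
        simp [U, mem_sp, ha0, hb0] at hi
      have := card_filter_add_card_filter_not (s := T) (fun t => i ∈ sp (col a + t • col b))
      omega
    have h1 : 2 * #U ≤ ∑ t ∈ T, #(sp (col a + t • col b)) := by
      calc 2 * #U = ∑ i ∈ U, 2 := by rw [sum_const, smul_eq_mul, mul_comm]
        _ ≤ ∑ i ∈ U, #(T.filter fun t => i ∈ sp (col a + t • col b)) := sum_le_sum key
        _ = ∑ t ∈ T, #(U.filter fun i => i ∈ sp (col a + t • col b)) := by
          simp only [card_filter]; exact sum_comm
        _ ≤ _ := sum_le_sum fun t _ => card_le_card fun i hi => (mem_filter.1 hi).2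
    have h2' : ∑ t ∈ T, #(sp (col a + t • col b)) ≤ 3 * 2 := by
      rw [← hT]
      exact (sum_le_card_nsmul _ _ 2 fun t ht => h t (hT0 t ht)).trans (le_of_eq (smul_eq_mul _ _))
    omega
  obtain ⟨hxU, hxx⟩ := hv θ hθ
  obtain ⟨r, hr⟩ := even_sp hF hq hσ hxx
  obtain ⟨P, Q, hP, hQ, hPQ⟩ := one_lt_card_iff.1 (show 1 < #(sp (col a + θ • col b)) by omega)
  obtain ⟨y, hyy, hyU, hy4, -, -⟩ := shrink hF hq hσ hM hph hn hPQ _ _ rfl (by omega) hxx hxU hP hQ
  exact utIn_four hF hq hσ hM hph (by omega) hall hy4 hyy hyU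

end

variable {F : Type*} [Field F] [Fintype F] {n q : ℕ} {σ : F ≃+* F} {t k : ℕ}
  {M : Subgroup (GL (Fin n) F)} {blk : Fin n → Fin t}

/-- A vector on four coordinates from a block of size at least three. -/
theorem exists_four_block (hf : Geo.IsUnitaryForm σ (hermForm n F q)) (hF : Fintype.card F = q ^ 2)
    (hq : q = 2) (hσ : ∀ x, σ x = x ^ q) (ht : 2 ≤ t) (hk : 3 ≤ k)
    (hblk : ∀ B, #(univ.filter fun i => blk i = B) = k) (hS : HasBlocks (hermForm n F q) blk M)
    (hall : ∀ a b : Fin n, a ≠ b → Pair hf M a b) :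
    ∃ y : Fin n → F, #(sp y) = 4 ∧ hermForm n F q y y = 0 ∧ UtIn hf M y := by
  classical
  obtain ⟨h2, nz, ω, hω, hω0, hω1, hσω⟩ := four hF hq hσ
  set B0 : Fin t := ⟨0, by omega⟩
  obtain ⟨a, b, c, ha, hb, hc, hab, hac, hbc⟩ := two_lt_card_iff.1
    (show 2 < #(univ.filter fun i => blk i = B0) by rw [hblk]; omega)
  obtain ⟨z, hz⟩ := card_pos.1 (show 0 < #(univ.filter fun i => blk i = ⟨1, by omega⟩) by
    rw [hblk]; omega)
  simp only [mem_filter, mem_univ, true_and] at ha hb hc hz
  have hzne : ∀ x, blk x = B0 → x ≠ z := fun x hx e => by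
    rw [e, hz] at hx
    simp [B0] at hx
  set u : Fin n → F := fun i => if i = a ∨ i = b ∨ i = c then 1 else 0
  have hu : ∀ i, u i ≠ 0 → blk i = B0 := fun i hi => by
    simp only [u, ne_eq, ite_eq_right_iff, Classical.not_imp] at hi
    rcases hi.1 with rfl | rfl | rfl <;> assumption
  have hfu : ∀ x : Fin n → F, hermForm n F q x u = x a + x b + x c := fun x => by
    rw [herm_sum hσ, ← sum_subset (subset_univ ({a, b, c} : Finset (Fin n))) (fun i _ hi => by
      simp only [mem_insert, Finset.mem_singleton, not_or] at hi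
      simp [u, hi.1, hi.2.1, hi.2.2]), sum_insert (by simp [hab, hac]), sum_insert (by simp [hbc]),
      sum_singleton]
    simp [u, add_assoc]
  have huu : hermForm n F q u u = 1 := by
    rw [hfu]; simp [u]; linear_combination h2
  have huz : u z = 0 := by
    by_contra h
    exact hzne z (hu z h) rfl
  have hφ : (fun j => hermForm n F q (Pi.single j 1) u) ⬝ᵥ u = 1 := by rw [u_dot hf]; exact huu
  set ν : Fˣ := Units.mk0 ω hω0
  have hz1 : ∀ v, hermForm n F q v (Pi.single z 1) = v z := fun v => herm_single_right' hσ v z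
  have hφz : (fun j => hermForm n F q (Pi.single j 1) (Pi.single z 1)) ⬝ᵥ Pi.single z 1 = 1 := by
    rw [u_dot hf, hz1, Pi.single_eq_same]
  set h := dl u _ ν hφ * dl (Pi.single z 1) _ ν⁻¹ hφz
  have hx : ∀ x, (h : Matrix (Fin n) (Fin n) F) *ᵥ x =
      x + ((ω - 1) * (x a + x b + x c)) • u + ((ω⁻¹ - 1) * x z) • Pi.single z 1 := by
    intro x
    rw [show h = _ from rfl, mul_mulVec, dl_mulVec, dl_mulVec, u_dot hf, u_dot hf, hz1]
    rw [u_add_left hf, u_smul_left hf, hfu,
      show hermForm n F q (Pi.single z 1) u = 0 by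
        rw [← u_conj hf u, herm_single_right' hσ, huz, map_zero]]
    simp only [ν, Units.val_mk0, Units.val_inv_eq_inv_val, mul_zero, add_zero]
    module
  have hrefl : ∀ (a : Fin n → F) (μ : Fˣ) (hφ : (fun j => hermForm n F q (Pi.single j 1) a) ⬝ᵥ a = 1),
      dl a _ μ hφ ∈ isoGrp (hermForm n F q) := by
    intro a μ hφ
    have ha1 : hermForm n F q a a = 1 := by rw [← u_dot hf]; exact hφ
    rw [mem_isoGrp]
    intro x y
    simp only [dl_mulVec, u_dot hf, u_add_left hf, u_add_right hf, u_smul_left hf, u_smul_right hf,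
      ha1, map_mul, map_sub, map_one, u_conj hf]
    linear_combination (hermForm n F q x a * hermForm n F q a y) * nz _ μ.ne_zero
  have hiso : h ∈ isoGrp (hermForm n F q) := Subgroup.mul_mem _ (hrefl u ν hφ) (hrefl _ ν⁻¹ hφz)
  have hdet : h ∈ Geo.specialLinear (Fin n) F := by
    rw [mem_specialLinear_iff, show h = _ from rfl, Units.val_mul, det_mul, dl_det, dl_det,
      ← Units.val_mul, mul_inv_cancel, Units.val_one]
  have hh : h ∈ M := hS h ⟨hiso, hdet⟩ 1 fun i m hm => by
    rw [hx] at hm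
    simp only [Pi.add_apply, Pi.smul_apply, smul_eq_mul] at hm
    rcases eq_or_ne m i with rfl | hmi
    · rfl
    rw [Pi.single_eq_of_ne hmi, zero_add] at hm
    rcases eq_or_ne m z with rfl | hmz
    · rw [huz, mul_zero, zero_add, Pi.single_eq_of_ne hmi] at hm
      simp at hm
    rw [Pi.single_eq_of_ne hmz, mul_zero, add_zero, mul_ne_zero_iff, mul_ne_zero_iff] at hm
    have hi : i = a ∨ i = b ∨ i = c := by
      by_contra hh
      rw [not_or, not_or] at hh
      exact hm.1.2 (by simp [Ne.symm hh.1, Ne.symm hh.2.1, Ne.symm hh.2.2])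
    have : blk i = B0 := by rcases hi with rfl | rfl | rfl <;> assumption
    simp [hu m hm.2, this]
  set v : Fin n → F := Pi.single a 1 + Pi.single z 1
  have haz := hzne a ha
  have hv : ∀ i, i ≠ a → i ≠ z → v i = 0 := fun i h1 h2 => by simp [v, h1, h2]
  have hvv : hermForm n F q v v = 0 := by
    rw [norm_two hσ haz hv]; simp [v, haz, haz.symm]; linear_combination h2
  refine ⟨(h : Matrix (Fin n) (Fin n) F) *ᵥ v, ?_, by rw [mem_isoGrp.1 hiso, hvv],
    (hall a z haz v hv hvv).conj hf hvv hh hiso⟩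
  have hω2 : ω + 1 ≠ 0 := fun h' => hω1 (by linear_combination h' - h2)
  have hωi : ω⁻¹ ≠ 0 := inv_ne_zero hω0
  have e : sp ((h : Matrix (Fin n) (Fin n) F) *ᵥ v) = {a, b, c, z} := by
    ext i
    rw [mem_sp, hx]
    simp only [mem_insert, Finset.mem_singleton, Pi.add_apply, Pi.smul_apply, smul_eq_mul]
    have h2' : ω - 1 ≠ 0 := sub_ne_zero.2 hω1
    rcases eq_or_ne i a with rfl | i1
    · simp [v, u, hab, hac, haz, haz.symm, hab.symm, hac.symm, hzne _ hb, hzne _ hc, hω0]
    rcases eq_or_ne i b with rfl | i2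
    · simp [v, u, hab, hac, haz, haz.symm, hab.symm, hac.symm, hzne _ hb, (hzne _ hb).symm, h2', i1, hbc, hbc.symm, (hzne _ hc).symm, hzne _ hc]
    rcases eq_or_ne i c with rfl | i3
    · simp [v, u, hab, hac, haz, haz.symm, hab.symm, hac.symm, hzne _ hc, (hzne _ hc).symm, h2', i1, i2, hbc, hbc.symm, (hzne _ hb).symm, hzne _ hb]
    rcases eq_or_ne i z with rfl | i4
    · simp [v, u, i1, i2, i3, haz, hωi, hzne _ hb, (hzne _ hb).symm, hzne _ hc, (hzne _ hc).symm]
    · simp [v, u, i1, i2, i3, i4]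
  rw [e, card_insert_of_notMem (by simp [hab, hac, haz]), card_insert_of_notMem (by simp [hbc, hzne b hb]),
    card_pair (hzne c hc)]

end Cfsg.Agent.H58.SUSmall
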