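import Cfsg.Agent.H58.SUSmall.Refl
import Cfsg.Agent.H58.SUSmall.UTwo
import Cfsg.Agent.H58.SUSmall.UCross

/-!
Overgroups of a block stabiliser in `SU`, in even dimension at least six.
-/

set_option autoImplicit false

namespace Cfsg.Agent.H58.SUSmall

open scoped MatrixGroups Matrix
open Finset Matrix Cfsg Cfsg.Agent.H95 Cfsg.Agent.Symplectic
open Cfsg.Agent.H63.UDec hiding no_two gOne_of_unit gOne_of_swap gOne_odd gOne_even exists_zero exists_utIn shrink four_all utIn_all_two top

variable {F : Type*} [Field F] [Fintype F] {n q : ℕ} {σ : F ≃+* F} {t k : ℕ}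

/-- Overgroups of the block stabiliser. -/
theorem top (hf : Geo.IsUnitaryForm σ (hermForm n F q)) (hF : Fintype.card F = q ^ 2)
    (hσ : ∀ x, σ x = x ^ q) {m : ℕ} (hm : 3 ≤ m) (hnm : n = m * 2) (ht : 2 ≤ t) (e : Fin t × Fin k ≃ Fin n)
    (hex : ¬ (k = 2 ∧ q = 2)) (hex1 : ¬ (k = 1 ∧ q = 2 ∧ n = 6)) {M : Subgroup (GL (Fin n) F)}
    (hMG : M ≤ isoGrp (hermForm n F q) ⊓ Geo.specialLinear (Fin n) F)
    (hS : HasBlocks (hermForm n F q) (fun i => (e.symm i).1) M) {g : GL (Fin n) F} (hg : g ∈ M)
    (hgb : ∀ π, ¬ BlockMap (fun i => (e.symm i).1) g π) :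
    GU n F q ⊓ Geo.specialLinear (Fin n) F ≤ M := by
  classical
  set blk : Fin n → Fin t := fun i => (e.symm i).1
  have hM : M ≤ isoGrp (hermForm n F q) := hMG.trans inf_le_left
  have hph := phases_of_blocks hf hσ hS
  have htk : t * k = n := by simpa using Fintype.card_congr e
  have hblk : ∀ B, #(univ.filter fun i => blk i = B) = k := fun B => by
    rw [← Fintype.card_subtype, Fintype.card_congr
      { toFun := fun i : {i // blk i = B} => (e.symm i.1).2
        invFun := fun j => ⟨e (B, j), by simp [blk]⟩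
        left_inv := fun i => Subtype.ext (by
          have h : (e.symm i.1).1 = B := i.2
          simp [← h])
        right_inv := fun j => by simp }, Fintype.card_fin]
  have hk0 : k ≠ 0 := fun h => by rw [h, mul_zero] at htk; omega
  have hq2 := Unitary.two_le_q hF
  have hn : 6 ≤ n := by omega
  -- from a cross vector to all pairs
  have hcross : ∀ x : Fin n → F, hermForm n F q x x = 0 → UtIn hf M x →
      (∃ a b, blk a ≠ blk b ∧ x a ≠ 0 ∧ x b ≠ 0) → (2 ≤ k ∨ ∃ z, x z = 0) →
      ∀ a b, a ≠ b → Pair hf M a b := by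
    intro x hxx hU hx hz
    obtain ⟨a, b, hab, ha, hb⟩ := hx
    have hab' : a ≠ b := fun h => hab (congrArg blk h)
    obtain ⟨a', b', hab2, hP⟩ : ∃ a' b', blk a' ≠ blk b' ∧ Pair hf M a' b' := by
      by_cases h0 : ∃ z, x z = 0
      · obtain ⟨z, hz0⟩ := h0
        exact ⟨a, b, hab, down_exact hF hσ (by omega) hM hph hxx hU hab' ha hb hz0⟩
      have hk2 : 2 ≤ k := hz.resolve_right h0
      push Not at h0
      obtain ⟨c, hc, hca⟩ := exists_mem_ne (s := univ.filter fun i => blk i = blk a)
        (by rw [hblk]; omega) a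
      have hcB : blk c = blk a := (mem_filter.1 hc).2
      have hcb : c ≠ b := fun h => hab (by rw [← hcB, h])
      rcases pair_of_full hF hσ (by omega) hM hph hxx hU hca.symm hab' hcb (pair_block hσ hS hcB.symm) h0
        with h | h
      · exact ⟨a, b, hab, h⟩
      · exact ⟨c, b, hcB ▸ hab, h⟩
    exact all_pairs hF hσ (by omega) e (fun i => rfl) hM hS hab2 hP
  suffices h : ∀ v, hermForm n F q v v = 0 → UtIn hf M v from su_le_of_ut hF (by omega) hσ hf h
  rcases (show k = 1 ∨ 2 ≤ k by omega) with hk1 | hk2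
  · -- lines
    obtain ⟨hbij, hMon⟩ := hasMon_of_blocks htk hk1 hblk hS
    have hg' : ¬ Mon g := fun hm => (blockMap_of_mon hbij hm).elim hgb
    rcases (show q = 2 ∨ 3 ≤ q by omega) with hq | hq
    · obtain ⟨h2, nz, -⟩ := four hF hq hσ
      have hall : ∀ a b : Fin n, a ≠ b → Pair hf M a b := by
        intro a b hab v hv hvv l hl
        refine hMon _ ⟨ut_mem_iso hf hvv hl, ut_mem_sl hf v l⟩ fun i => ?_
        have hrow : ∀ m, ((ut hf v l : Matrix (Fin n) (Fin n) F) *ᵥ Pi.single i 1) m =
            (Pi.single i 1 : Fin n → F) m + l * σ (v i) * v m := fun m => by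
          rw [ut_mulVec hf hvv, ← u_conj hf v, herm_single_right' hσ]; simp
        by_cases hz : l * σ (v i) = 0
        · refine single_col (c := 1) (funext fun m => ?_)
          rw [hrow, hz, zero_mul, add_zero, one_smul]
        obtain ⟨hl0, hvi⟩ : l ≠ 0 ∧ v i ≠ 0 := by
          rw [mul_eq_zero, not_or] at hz
          exact ⟨hz.1, by simpa using hz.2⟩
        have hl1 : l = 1 := by
          have e : l * σ l = 1 := nz l hl0
          rw [hl] at e
          have : (l + 1) * (l + 1) = 0 := by linear_combination (-1) * e + l * h2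
          linear_combination mul_self_eq_zero.1 this - h2
        have hia : i = a ∨ i = b := by
          by_contra h
          rw [not_or] at h
          exact hvi (hv i h.1 h.2)
        have key : ∀ m, ((ut hf v l : Matrix (Fin n) (Fin n) F) *ᵥ Pi.single i 1) m ≠ 0 →
            m ≠ i ∧ (m = a ∨ m = b) := by
          intro m hm
          rw [hrow] at hm
          refine ⟨?_, ?_⟩
          · rintro rfl
            apply hm
            rw [Pi.single_eq_same, hl1]
            linear_combination nz (v m) hvi + h2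
          · by_contra h
            rw [not_or] at h
            apply hm
            rw [hv m h.1 h.2, mul_zero, add_zero]
            refine Pi.single_eq_of_ne ?_ 1
            rintro rfl
            rcases hia with e | e
            · exact h.1 e
            · exact h.2 e
        refine card_le_one.2 fun m hm m' hm' => ?_
        obtain ⟨hmi, hma⟩ := key m (mem_sp.1 hm)
        obtain ⟨hmi', hma'⟩ := key m' (mem_sp.1 hm')
        rcases hia with rfl | rfl <;> rcases hma with rfl | rfl <;> rcases hma' with rfl | rfl <;>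
          first
          | rfl
          | exact absurd rfl hmi
          | exact absurd rfl hmi' 
      obtain ⟨a, ha⟩ : ∃ a, ¬ #(sp ((g : Matrix (Fin n) (Fin n) F) *ᵥ Pi.single a 1)) ≤ 1 :=
        not_forall.1 hg'
      exact utIn_all_two hF hq hσ hM hph (by omega) hall hg (a := a) (by omega)
    · obtain ⟨r, hr0, hrr, hrz, hrU⟩ := exists_utIn hf hF hσ hq hm hnm hM hph hMon hg hg'
      obtain ⟨a, ha⟩ : ∃ a, r a ≠ 0 := by
        by_contra h; push Not at h; exact hr0 (funext h)
      obtain ⟨b, hba, hb⟩ : ∃ b, b ≠ a ∧ r b ≠ 0 := by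
        by_contra h
        push Not at h
        rw [herm_sum hσ, sum_eq_single a (fun i _ hi => by rw [h i hi, zero_mul]) (by simp)] at hrr
        exact ha (by simpa [map_eq_zero] using hrr)
      exact utIn_all hF hq hσ hM (hcross r hrr hrU ⟨b, a, fun h => hba (hbij.1 h), hb, ha⟩ (Or.inr hrz))
  · have hin : ∀ v : Fin n → F, hermForm n F q v v = 0 → (∃ B, ∀ m, blk m ≠ B → v m = 0) →
        UtIn hf M v := by
      rintro v hvv ⟨B, hB⟩ l hl
      refine hS _ ⟨ut_mem_iso hf hvv hl, ut_mem_sl hf v l⟩ 1 fun i m hm => ?_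
      rw [ut_mulVec hf hvv, ← u_conj hf v, herm_single_right' hσ] at hm
      simp only [Pi.add_apply, Pi.smul_apply, smul_eq_mul] at hm
      rcases eq_or_ne m i with rfl | hmi
      · rfl
      rw [Pi.single_eq_of_ne hmi, zero_add] at hm
      show blk m = blk i
      have h1 : v i ≠ 0 := fun h => hm (by simp [h])
      have h2 : v m ≠ 0 := fun h => hm (by simp [h])
      rw [by_contra fun h => h2 (hB m h), by_contra fun h => h1 (hB i h)]
    obtain ⟨x, hxx, hxU, hx⟩ := exists_cross hf hF hσ hk2 hblk hM hS hg hgb hin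
    have hall := hcross x hxx hxU hx (Or.inl hk2)
    rcases (show q = 2 ∨ 3 ≤ q by omega) with hq | hq
    · obtain ⟨y, hy4, hyy, hyU⟩ := exists_four_block hf hF hq hσ ht
        (by rcases eq_or_lt_of_le hk2 with h | h; exacts [absurd ⟨h.symm, hq⟩ hex, h]) hblk hS hall
      exact utIn_four hF hq hσ hM hph (by omega) hall hy4 hyy hyU
    · exact utIn_all hF hq hσ hM hall

end Cfsg.Agent.H58.SUSmall
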